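import Groth.Agent.IndSmoothLib.Basic
import Groth.Agent.IndEtLib.Sys
import Groth.Agent.WStrictLib.WEtaleCover

/-!
# Integral closure commutes with weakly etale base change
-/

set_option autoImplicit false

universe u

open scoped TensorProduct

namespace Groth.Agent.EtPBC0

variable {R S : Type u} [CommRing R] [CommRing S] [Algebra R S]

theorem indSmooth_of_isIndEtale (h : EtPBC.IsIndEtale R S) : Smoothing.IndSmooth R S := by
  intro P _ _ hP f
  obtain ⟨T, hT, ⟨e⟩⟩ := IndEtLib.exists_sys h
  haveI := hP
  obtain ⟨j, ψ, hψ⟩ := T.exists_lift P (e.symm.toAlgHom.comp f)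
  haveI := hT j
  refine ⟨T.A j, inferInstance, inferInstance, inferInstance, ψ, e.toAlgHom.comp (T.ι j), ?_⟩
  ext p
  show e (T.ι j (ψ p)) = f p
  rw [show T.ι j (ψ p) = e.symm (f p) from AlgHom.congr_fun hψ p, AlgEquiv.apply_symm_apply]

/-- An element of `S ⊗ M` lies in `S ⊗ N` if it does so after a faithfully flat extension of `S`. -/
theorem mem_range_lTensor_of_faithfullyFlat (S' : Type u) [CommRing S'] [Algebra R S'] [Algebra S S']
    [IsScalarTower R S S'] [Module.FaithfullyFlat S S'] {N M : Type u} [AddCommGroup N] [Module R N]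
    [AddCommGroup M] [Module R M] (f : N →ₗ[R] M) (z : S ⊗[R] M)
    (hz : (IsScalarTower.toAlgHom R S S').toLinearMap.rTensor M z ∈ LinearMap.range (f.lTensor S')) :
    z ∈ LinearMap.range (f.lTensor S) := by
  let Q := M ⧸ LinearMap.range f
  let q : M →ₗ[R] Q := (LinearMap.range f).mkQ
  have hex : Function.Exact f q := LinearMap.exact_map_mkQ_range f
  have hq : Function.Surjective q := Submodule.mkQ_surjective _
  refine (lTensor_exact S hex hq z).1 ?_
  obtain ⟨w, hw⟩ := hz
  have h0 : (IsScalarTower.toAlgHom R S S').toLinearMap.rTensor Q (q.lTensor S z) = 0 := by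
    rw [← LinearMap.comp_apply, LinearMap.rTensor_comp_lTensor, ← LinearMap.lTensor_comp_rTensor,
      LinearMap.comp_apply, ← hw]
    exact (lTensor_exact S' hex hq).apply_apply_eq_zero w
  have key : ∀ y : S ⊗[R] Q, TensorProduct.AlgebraTensorModule.cancelBaseChange R S S' S' Q
      ((1 : S') ⊗ₜ[S] y) = (IsScalarTower.toAlgHom R S S').toLinearMap.rTensor Q y := fun y => by
    induction y with
    | zero => simp
    | tmul a b => simp [Algebra.smul_def]
    | add x y hx hy => rw [TensorProduct.tmul_add, map_add, map_add, hx, hy]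
  have h1 : (1 : S') ⊗ₜ[S] (q.lTensor S z) = 0 := by
    apply (TensorProduct.AlgebraTensorModule.cancelBaseChange R S S' S' Q).injective
    rw [key, h0, map_zero]
  exact Module.FaithfullyFlat.tensorProduct_mk_injective (A := S) (B := S') (S ⊗[R] Q)
    (h1.trans (TensorProduct.tmul_zero _ _).symm)

variable (R S)

/-- Integral closure commutes with weakly etale base change. -/
theorem toIntegralClosure_bijective_of_weaklyEtale [Algebra.WeaklyEtale R S] (B : Type u) [CommRing B]
    [Algebra R B] : Function.Bijective (TensorProduct.toIntegralClosure R S B) := by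
  refine ⟨TensorProduct.toIntegralClosure_injective_of_flat, ?_⟩
  rintro ⟨z, hz⟩
  obtain ⟨S', _, _, _, _, hff, -, hS'⟩ := WStrictLib.exists_indEtale_cover (A := R) (B := S)
  let g : S ⊗[R] B →ₐ[R] S' ⊗[R] B :=
    Algebra.TensorProduct.map (IsScalarTower.toAlgHom R S S') (AlgHom.id R B)
  have hg : ∀ y, (IsScalarTower.toAlgHom R S S').toLinearMap.rTensor B y = g y := fun y => by
    induction y with
    | zero => simp
    | tmul a b => simp [g]
    | add x y hx hy => rw [map_add, map_add, hx, hy]
  have hint : IsIntegral S' (g z) := by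
    obtain ⟨p, hp, hpz⟩ := hz
    refine ⟨p.map (algebraMap S S'), hp.map _, ?_⟩
    have hc : (algebraMap S' (S' ⊗[R] B)).comp (algebraMap S S') = g.toRingHom.comp (algebraMap S (S ⊗[R] B)) :=
      RingHom.ext fun s => by simp [g]
    rw [Polynomial.eval₂_map, hc]
    exact (Polynomial.hom_eval₂ p (algebraMap S (S ⊗[R] B)) g.toRingHom z).symm.trans
      ((congrArg g.toRingHom hpz).trans (map_zero _))
  obtain ⟨w, hw⟩ := (IndSmoothLib.toIntegralClosure_bijective (indSmooth_of_isIndEtale hS') B).2 ⟨g z, hint⟩
  have hval : ∀ (T : Type u) [CommRing T] [Algebra R T] (v : T ⊗[R] integralClosure R B),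
      ((TensorProduct.toIntegralClosure R T B v) : T ⊗[R] B) =
        (integralClosure R B).val.toLinearMap.lTensor T v := fun T _ _ v => by
    induction v with
    | zero => simp
    | tmul a b => simp [TensorProduct.toIntegralClosure]
    | add x y hx hy => simp only [map_add, Subalgebra.coe_add, hx, hy]
  obtain ⟨v, hv⟩ := mem_range_lTensor_of_faithfullyFlat S' (integralClosure R B).val.toLinearMap z
    ⟨w, by rw [hg, ← hval, hw]⟩
  exact ⟨v, Subtype.ext ((hval S v).trans hv)⟩

end Groth.Agent.EtPBC0
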