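import Groth.Agent.EtPBC0.ZeroAcyc
import Groth.Agent.EtContLib.ThenOps
import Groth.Agent.S8525
import Groth.Agent.S0642

/-!
# Acyclic morphisms and composition
-/

set_option autoImplicit false
set_option linter.style.haveILetI false

universe u

open CategoryTheory CategoryTheory.Limits AlgebraicGeometry Opposite TopologicalSpace
open Groth.Agent.BigSiteLib.DescSec

namespace Groth.Agent.EtPBC0.AcycComp

set_option backward.isDefEq.respectTransparency false
set_option backward.isDefEq.respectTransparency.types false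

theorem isLTorsion_pull {A B : Scheme.{u}} (p : A ⟶ B) (L : Set ℕ) (F : EtCoh.Ab B) (hF : EtAcyc.IsLTorsion L F) :
    EtAcyc.IsLTorsion L ((EtCoh.pull p).obj F) := by
  rw [Groth.Agent.S8525.result] at hF ⊢
  intro Ω _ _ ξ t
  let e := ((EtFound.stalkPullIso p ξ).app F).addCommGroupIsoToAddEquiv
  obtain ⟨m, hm, hm'⟩ := hF Ω (ξ ≫ p) (e t)
  exact ⟨m, hm, e.injective (by rw [map_nsmul, hm', map_zero])⟩

theorem bijective_Hpull_of_isIso {A B : Scheme.{u}} (i : A ⟶ B) [IsIso i] [PreservesFiniteLimits (EtCoh.pull i)]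
    (F : EtCoh.Ab B) (q : ℕ) : Function.Bijective (EtCore.Hpull i F q) :=
  Groth.Agent.S0642.result i F q

theorem Hpull_comp_iff {A B C : Scheme.{u}} (a : A ⟶ B) (b : B ⟶ C) (c : A ⟶ C) (w : a ≫ b = c)
    [PreservesFiniteLimits (EtCoh.pull a)] [PreservesFiniteLimits (EtCoh.pull b)]
    [PreservesFiniteLimits (EtCoh.pull c)] (F : EtCoh.Ab C) (q : ℕ) :
    (Function.Bijective (EtCore.Hpull c F q) ↔
      Function.Bijective (EtCore.Hpull a ((EtCoh.pull b).obj F) q ∘ EtCore.Hpull b F q)) ∧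
    (Function.Injective (EtCore.Hpull c F q) ↔
      Function.Injective (EtCore.Hpull a ((EtCoh.pull b).obj F) q ∘ EtCore.Hpull b F q)) := by
  let G := (EtCoh.pull b).obj F
  let M := (EtCoh.pull a).obj G
  let t := EtContLib.comp2 a b c w (𝟙 G) (𝟙 M)
  haveI : IsIso t := by
    show IsIso (_ ≫ _ ≫ (EtCoh.pull a).map (𝟙 _) ≫ 𝟙 _)
    infer_instance
  have hid : ∀ {X Y : Scheme.{u}} (u : X ⟶ Y) [PreservesFiniteLimits (EtCoh.pull u)] (H : EtCoh.Ab Y) (e),
      EtLim.HpullThen u H (𝟙 ((EtCoh.pull u).obj H)) q e = EtCore.Hpull u H q e := fun u _ H e => by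
    show (EtCoh.HF _ q).map (𝟙 _) (EtCore.Hpull u H q e) = _
    rw [CategoryTheory.Functor.map_id]
    rfl
  have key : EtCore.Hpull a G q ∘ EtCore.Hpull b F q = (EtCoh.HF A q).map t ∘ EtCore.Hpull c F q := by
    funext e
    have h := EtContLib.HpullThen_comp a b c w (𝟙 G) (𝟙 M) q e
    rw [hid b F, hid a G] at h
    exact h
  have ht : Function.Bijective ((EtCoh.HF A q).map t) := (isIso_iff_bijective' _).1 inferInstance
  rw [key]
  exact ⟨(Function.Bijective.of_comp_iff' ht _).symm, (ht.1.of_comp_iff _).symm⟩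
where
  isIso_iff_bijective' {P Q : AddCommGrpCat.{u + 1}} (f : P ⟶ Q) : IsIso f ↔ Function.Bijective f := by
    constructor
    · intro h
      exact ConcreteCategory.bijective_of_isIso f
    · intro h
      exact (ConcreteCategory.isIso_iff_bijective f).2 h

theorem compN_comp_iff {A B C : Scheme.{u}} (a : A ⟶ B) (b : B ⟶ C) (c : A ⟶ C) (w : a ≫ b = c) (L : Set ℕ) (n : ℕ)
    (ha : EtAcyc.CompN a L n) : EtAcyc.CompN b L n ↔ EtAcyc.CompN c L n := by
  haveI := EtContLib.pfl a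
  haveI := EtContLib.pfl b
  haveI := EtContLib.pfl c
  constructor
  · intro hb F hF _
    obtain ⟨hb₁, hb₂⟩ := hb F hF
    obtain ⟨ha₁, ha₂⟩ := ha _ (isLTorsion_pull b L F hF)
    exact ⟨fun q hq => ((Hpull_comp_iff a b c w F q).1).2 ((ha₁ q hq).comp (hb₁ q hq)),
      ((Hpull_comp_iff a b c w F (n + 1)).2).2 (ha₂.comp hb₂)⟩
  · intro hc F hF _
    obtain ⟨hc₁, hc₂⟩ := hc F hF
    obtain ⟨ha₁, -⟩ := ha _ (isLTorsion_pull b L F hF)
    exact ⟨fun q hq => (Function.Bijective.of_comp_iff' (ha₁ q hq) _).1 (((Hpull_comp_iff a b c w F q).1).1 (hc₁ q hq)),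
      Function.Injective.of_comp (((Hpull_comp_iff a b c w F (n + 1)).2).1 hc₂)⟩

theorem compN_of_isIso {A B : Scheme.{u}} (i : A ⟶ B) [IsIso i] (L : Set ℕ) (n : ℕ) : EtAcyc.CompN i L n :=
  fun F _ _ => ⟨fun q _ => bijective_Hpull_of_isIso i F q, (bijective_Hpull_of_isIso i F (n + 1)).1⟩

theorem isIso_unit_of_isIso {A B : Scheme.{u}} (i : A ⟶ B) [IsIso i] (F : EtDesc.Sh B) :
    IsIso ((EtDesc.adjSh i).unit.app F) := by
  refine isIso_unit_of_secPull i F fun W G => ?_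
  haveI : IsIso (pr i W) := inferInstanceAs (IsIso (pullback.fst W.hom i))
  refine bijective_secPull_of_connected_fibres (pr i W) (isUnivSubmersive_of_flat _) (fun L _ _ s => ?_) G
  haveI : IsIso (pullback.snd (pr i W) s) := inferInstance
  haveI : ConnectedSpace ↥(Spec (CommRingCat.of L)) := inferInstanceAs (ConnectedSpace (PrimeSpectrum L))
  exact (pullback.snd (pr i W) s).homeomorph.connectedSpace_iff.2 ‹_›

theorem isIso_unit_comp_iff {A B C : Scheme.{u}} (a : A ⟶ B) (b : B ⟶ C) (c : A ⟶ C) (w : a ≫ b = c)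
    (F : EtDesc.Sh C) [IsIso ((EtDesc.adjSh a).unit.app ((EtDesc.pullSh b).obj F))] :
    IsIso ((EtDesc.adjSh b).unit.app F) ↔ IsIso ((EtDesc.adjSh c).unit.app F) := by
  subst w
  have h : (EtDesc.adjSh (a ≫ b)).unit.app F ≫ (EtDesc.pushSh (a ≫ b)).map ((EtDesc.pullCompSh a b).hom.app F) =
      ((EtDesc.adjSh b).unit.app F ≫ (EtDesc.pushSh b).map ((EtDesc.adjSh a).unit.app _)) ≫
        (EtDesc.pushCompSh b a).hom.app _ := by
    refine (Adjunction.unit_leftAdjointUniq_hom_app (EtDesc.adjSh (a ≫ b))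
      (((EtDesc.adjSh b).comp (EtDesc.adjSh a)).ofNatIsoRight (EtDesc.pushCompSh b a)) F).trans ?_
    rw [Adjunction.ofNatIsoRight_unit]
    simp
  constructor <;> intro hi
  · haveI : IsIso ((EtDesc.adjSh (a ≫ b)).unit.app F ≫
        (EtDesc.pushSh (a ≫ b)).map ((EtDesc.pullCompSh a b).hom.app F)) := by
      rw [h]
      infer_instance
    exact IsIso.of_isIso_comp_right _ ((EtDesc.pushSh (a ≫ b)).map ((EtDesc.pullCompSh a b).hom.app F))
  · haveI : IsIso (((EtDesc.adjSh b).unit.app F ≫ (EtDesc.pushSh b).map ((EtDesc.adjSh a).unit.app _)) ≫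
        (EtDesc.pushCompSh b a).hom.app _) := by
      rw [← h]
      infer_instance
    haveI := IsIso.of_isIso_comp_right ((EtDesc.adjSh b).unit.app F ≫
      (EtDesc.pushSh b).map ((EtDesc.adjSh a).unit.app _)) ((EtDesc.pushCompSh b a).hom.app _)
    exact IsIso.of_isIso_comp_right ((EtDesc.adjSh b).unit.app F) ((EtDesc.pushSh b).map ((EtDesc.adjSh a).unit.app _))

section

variable {X Y Z : Scheme.{u}} (g : X ⟶ Y) (h : Y ⟶ Z) (V : Z.Etale)

noncomputable def cmpHom : pullback V.hom (g ≫ h) ⟶ pullback ((EtCoh.bc h).obj V).hom g :=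
  (pullbackLeftPullbackSndIso V.hom h g).inv

theorem cmpHom_fst : (cmpHom g h V ≫ EtAcyc.prj g ((EtCoh.bc h).obj V)) ≫ EtAcyc.prj h V = EtAcyc.prj (g ≫ h) V := by
  rw [Category.assoc]
  exact pullbackLeftPullbackSndIso_inv_fst V.hom h g

instance : IsIso (cmpHom g h V) := inferInstanceAs (IsIso (pullbackLeftPullbackSndIso V.hom h g).inv)

end

theorem isAcyclicN_comp_iff {X Y Z : Scheme.{u}} (g : X ⟶ Y) (h : Y ⟶ Z) (L : Set ℕ) (n : ℕ)
    (hg : EtAcyc.IsAcyclicN g L n) : EtAcyc.IsAcyclicN h L n ↔ EtAcyc.IsAcyclicN (g ≫ h) L n :=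
  forall_congr' fun V => compN_comp_iff _ (EtAcyc.prj h V) _ (cmpHom_fst g h V) L n
    ((compN_comp_iff (cmpHom g h V) _ _ rfl L n (compN_of_isIso _ L n)).1 (hg _))

theorem isZeroAcyclic_comp_iff {X Y Z : Scheme.{u}} (g : X ⟶ Y) (h : Y ⟶ Z) (hg : EtAcyc.IsZeroAcyclic g) :
    EtAcyc.IsZeroAcyclic h ↔ EtAcyc.IsZeroAcyclic (g ≫ h) :=
  forall_congr' fun V => forall_congr' fun F => by
    have hu : ∀ F', IsIso ((EtDesc.adjSh (cmpHom g h V ≫ EtAcyc.prj g ((EtCoh.bc h).obj V))).unit.app F') := fun F' => by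
      haveI := isIso_unit_of_isIso (cmpHom g h V) ((EtDesc.pullSh (EtAcyc.prj g ((EtCoh.bc h).obj V))).obj F')
      exact (isIso_unit_comp_iff (cmpHom g h V) _ _ rfl F').1 (hg _ F')
    exact @isIso_unit_comp_iff _ _ _ _ (EtAcyc.prj h V) _ (cmpHom_fst g h V) F (hu _)

end Groth.Agent.EtPBC0.AcycComp
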