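import Groth.Agent.EtPBC0.QcPush

/-!
# Base change in degree zero, computed on strict localizations
-/

set_option autoImplicit false
set_option linter.style.haveILetI false

universe u

open CategoryTheory CategoryTheory.Limits AlgebraicGeometry Opposite TopologicalSpace
open Groth.Agent.BigSiteLib.DescSec Groth.Agent.EtH0Lib

namespace Groth.Agent.EtPBC0

set_option backward.isDefEq.respectTransparency false
set_option backward.isDefEq.respectTransparency.types false

section Compat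

variable {X S X' S' B P : Scheme.{u}} (f : X ⟶ S) (g : S' ⟶ S) (f' : X' ⟶ S') (g' : X' ⟶ X)

/-- Restriction to the part over a base does not see the base change map. -/
theorem phiB_baseChange {b' : B ⟶ S'} {b : B ⟶ S} (k' : P ⟶ X') (pP : P ⟶ B) (kP : P ⟶ X) (w : g' ≫ f = f' ≫ g)
    (w' : k' ≫ f' = pP ≫ b') (wk : k' ≫ g' = kP) (wP : kP ≫ f = pP ≫ b) (F : EtDesc.Sh X) (V : S.Etale)
    (σ' : B ⟶ ((EtCoh.bc g).obj V).left) (hσ' : σ' ≫ ((EtCoh.bc g).obj V).hom = b')
    (σ : B ⟶ V.left) (hσ : σ ≫ V.hom = b) (e : σ' ≫ pullback.fst V.hom g = σ)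
    (x : F.obj.obj (op ((EtCoh.bc f).obj V))) :
    (EtDesc.pullVia k' g' kP wk F).hom.hom.app (op (EtCoh.top P))
        (phiB f' k' pP w' ((EtDesc.pullSh g').obj F) ((EtCoh.bc g).obj V) σ' hσ'
          (((EtDesc.pullSh g').obj F).obj.map (EtFound.bcSquare w V).op (up g' F ((EtCoh.bc f).obj V) x))) =
      phiB f kP pP wP F V σ hσ x := by
  rw [phiB, atPt, up_map, mapF]
  refine pullVia_map_up k' g' kP wk F ((EtCoh.bc f).obj V) x _ (fibLiftB f kP pP wP V σ hσ)
    (fibLiftB_hom f kP pP wP V σ hσ) ?_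
  let τ := fibLiftB f' k' pP w' ((EtCoh.bc g).obj V) σ' hσ'
  let hτ := fibLiftB_hom f' k' pP w' ((EtCoh.bc g).obj V) σ' hσ'
  have e₁ : (secHom k' ((EtCoh.bc f').obj ((EtCoh.bc g).obj V)) τ hτ ≫
      (EtCoh.bc k').map (EtFound.bcSquare w V)).left ≫ pullback.fst ((EtCoh.bc g').obj ((EtCoh.bc f).obj V)).hom k' =
      τ ≫ (EtFound.bcSquare w V).left := by
    refine ((Category.assoc _ _ _).trans (congrArg ((secHom k' _ τ hτ).left ≫ ·)
      (EtCoh.isPullback_bc_map k' (EtFound.bcSquare w V)).w)).trans ?_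
    exact (Category.assoc _ _ _).symm.trans
      (congrArg (· ≫ (EtFound.bcSquare w V).left) (secHom_fst k' _ τ hτ))
  refine (Category.assoc _ _ _).symm.trans ((congrArg (· ≫ pullback.fst ((EtCoh.bc f).obj V).hom g') e₁).trans ?_)
  refine pullback.hom_ext ?_ ?_
  · refine Eq.trans ?_ (pullback.lift_fst _ _ _).symm
    refine (Category.assoc _ _ _).trans ((Category.assoc _ _ _).trans
      ((congrArg (τ ≫ ·) (EtFound.bcSquare_fst w V)).trans ?_))
    refine ((Category.assoc _ _ _).symm.trans (congrArg (· ≫ pullback.fst V.hom g) (pullback.lift_fst _ _ _))).trans ?_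
    exact (Category.assoc _ _ _).trans (congrArg (pP ≫ ·) e)
  · refine Eq.trans ?_ (pullback.lift_snd _ _ _).symm
    refine (Category.assoc _ _ _).trans ((congrArg ((τ ≫ (EtFound.bcSquare w V).left) ≫ ·)
      (pullback.condition (f := ((EtCoh.bc f).obj V).hom) (g := g'))).trans ?_)
    refine ((Category.assoc _ _ _).symm.trans (congrArg (· ≫ g') ?_)).trans wk
    refine (Category.assoc _ _ _).trans ((congrArg (τ ≫ ·) (MorphismProperty.Over.w (EtFound.bcSquare w V))).trans ?_)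
    exact hτ

theorem fibLiftB_comp {Q C : Scheme.{u}} {bC : C ⟶ S} {bB : B ⟶ S} (ψ : B ⟶ C) (kQ : Q ⟶ X) (pQ : Q ⟶ C)
    (wQ : kQ ≫ f = pQ ≫ bC) (kP : P ⟶ X) (pP : P ⟶ B) (wP : kP ≫ f = pP ≫ bB) (m : P ⟶ Q) (hm : m ≫ kQ = kP)
    (hm' : m ≫ pQ = pP ≫ ψ) (V : S.Etale) (σ : C ⟶ V.left) (hσ : σ ≫ V.hom = bC) (σ' : B ⟶ V.left)
    (hσ' : σ' ≫ V.hom = bB) (e : ψ ≫ σ = σ') :
    m ≫ fibLiftB f kQ pQ wQ V σ hσ = fibLiftB f kP pP wP V σ' hσ' := by
  refine pullback.hom_ext ?_ ?_
  · rw [fibLiftB, fibLiftB, Category.assoc, pullback.lift_fst, pullback.lift_fst, ← Category.assoc, hm', Category.assoc, e]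
  · rw [fibLiftB, fibLiftB, Category.assoc, pullback.lift_snd, pullback.lift_snd, hm]

end Compat

section Strict

variable {X S Y T : Scheme.{u}} (f : X ⟶ S) (g : T ⟶ S) (h : Y ⟶ X) (e : Y ⟶ T)
  (x : X) (RS RX : Type u) [CommRing RS] [IsLocalRing RS] [HenselianLocalRing RS]
  [IsSepClosed (IsLocalRing.ResidueField RS)] [Algebra (S.presheaf.stalk (f.base x)) RS]
  [IsLocalHom (algebraMap (S.presheaf.stalk (f.base x)) RS)]
  [CommRing RX] [IsLocalRing RX] [HenselianLocalRing RX] [IsSepClosed (IsLocalRing.ResidueField RX)]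
  [Algebra (X.presheaf.stalk x) RX] [IsLocalHom (algebraMap (X.presheaf.stalk x) RX)]
  (ψ : RS →+* RX) [IsLocalHom ψ]
  (hψ : ψ.comp (algebraMap (S.presheaf.stalk (f.base x)) RS) = (algebraMap (X.presheaf.stalk x) RX).comp (f.stalkMap x).hom)

omit [HenselianLocalRing RS] [IsSepClosed (IsLocalRing.ResidueField RS)] [HenselianLocalRing RX]
  [IsSepClosed (IsLocalRing.ResidueField RX)] [IsLocalHom ψ] in
include hψ in
theorem specOf_comp : Hens2.specOf X x RX ≫ f =
    Spec.map (CommRingCat.ofHom ψ) ≫ Hens2.specOf S (f.base x) RS := by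
  have e₁ : (f.stalkMap x) ≫ CommRingCat.ofHom (algebraMap (X.presheaf.stalk x) RX) =
      CommRingCat.ofHom (algebraMap (S.presheaf.stalk (f.base x)) RS) ≫ CommRingCat.ofHom ψ :=
    CommRingCat.hom_ext hψ.symm
  simp only [Hens2.specOf]
  rw [Category.assoc, ← Scheme.SpecMap_stalkMap_fromSpecStalk, ← Category.assoc, ← Spec.map_comp, e₁, Spec.map_comp,
    Category.assoc]

variable [QuasiCompact g] [QuasiSeparated g] (c : IsPullback e h g f) (F : EtDesc.Sh T)

/-- The part over the strict localization of the source, inside the one over the base. -/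
noncomputable def strictMap :
    pullback h (Hens2.specOf X x RX) ⟶ pullback g (Hens2.specOf S (f.base x) RS) :=
  pullback.lift (pullback.fst h (Hens2.specOf X x RX) ≫ e)
    (pullback.snd h (Hens2.specOf X x RX) ≫ Spec.map (CommRingCat.ofHom ψ)) (by
      rw [Category.assoc, c.w, Category.assoc, ← specOf_comp f x RS RX ψ hψ, ← Category.assoc, pullback.condition,
        Category.assoc])

theorem strictMap_fst : strictMap f g h e x RS RX ψ hψ c ≫ pullback.fst g (Hens2.specOf S (f.base x) RS) =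
    pullback.fst h (Hens2.specOf X x RX) ≫ e := pullback.lift_fst _ _ _

theorem strictMap_snd : strictMap f g h e x RS RX ψ hψ c ≫ pullback.snd g (Hens2.specOf S (f.base x) RS) =
    pullback.snd h (Hens2.specOf X x RX) ≫ Spec.map (CommRingCat.ofHom ψ) := pullback.lift_snd _ _ _

end Strict

section Core

variable {X S Y T : Scheme.{u}} (f : X ⟶ S) (g : T ⟶ S) (h : Y ⟶ X) (e : Y ⟶ T) (c : IsPullback e h g f)
  {RS RX : Type u} [CommRing RS] [CommRing RX] (hS : Spec (CommRingCat.of RS) ⟶ S) (hX : Spec (CommRingCat.of RX) ⟶ X)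
  (sψ : Spec (CommRingCat.of RX) ⟶ Spec (CommRingCat.of RS)) (hcomp : hX ≫ f = sψ ≫ hS) (F : EtDesc.Sh T)
  (m : pullback h hX ⟶ pullback g hS) (hm₁ : m ≫ pullback.fst g hS = pullback.fst h hX ≫ e)
  (hm₂ : m ≫ pullback.snd g hS = pullback.snd h hX ≫ sψ)

include c hcomp hm₂ in
/-- Restriction to the part over the strict localization commutes with base change. -/
theorem phiB_strict_key (V : S.Etale) (σS : Spec (CommRingCat.of RS) ⟶ V.left) (hσS : σS ≫ V.hom = hS)
    (σX : Spec (CommRingCat.of RX) ⟶ ((EtCoh.bc f).obj V).left) (hσX : σX ≫ ((EtCoh.bc f).obj V).hom = hX)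
    (hσ : σX ≫ pullback.fst V.hom f = sψ ≫ σS) (a : F.obj.obj (op ((EtCoh.bc g).obj V))) :
    (EtDesc.pullVia (pullback.fst h hX) e (pullback.fst h hX ≫ e) rfl F).hom.hom.app (op (EtCoh.top (pullback h hX)))
      (phiB h (pullback.fst h hX) (pullback.snd h hX) pullback.condition ((EtDesc.pullSh e).obj F) ((EtCoh.bc f).obj V) σX hσX
        ((EtBC.baseChange0Sh g f h e c.w F).hom.app (op ((EtCoh.bc f).obj V)) (up f ((EtDesc.pushSh g).obj F) V a))) =
      tau m (pullback.fst g hS) (pullback.fst h hX ≫ e) hm₁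
        (phiB g (pullback.fst g hS) (pullback.snd g hS) pullback.condition F V σS hσS a) := by
  have wX : (pullback.fst h hX ≫ e) ≫ g = pullback.snd h hX ≫ hX ≫ f := by
    rw [Category.assoc, c.w, ← Category.assoc, pullback.condition, Category.assoc]
  have hσ' : (sψ ≫ σS) ≫ V.hom = hX ≫ f := by rw [Category.assoc, hσS, hcomp]
  rw [show (EtBC.baseChange0Sh g f h e c.w F).hom.app (op ((EtCoh.bc f).obj V)) (up f ((EtDesc.pushSh g).obj F) V a) = _
    from baseChange0Sh_up g f h e c.w F V a]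
  refine (phiB_baseChange g f h e (pullback.fst h hX) (pullback.snd h hX) (pullback.fst h hX ≫ e) c.w pullback.condition
    rfl wX F V σX hσX (sψ ≫ σS) hσ' hσ a).trans ?_
  exact (tau_atPt m (pullback.fst g hS) (pullback.fst h hX ≫ e) hm₁ F ((EtCoh.bc g).obj V) _
    (fibLiftB_hom g (pullback.fst g hS) (pullback.snd g hS) pullback.condition V σS hσS) _ _
    (fibLiftB_comp g sψ (pullback.fst g hS) (pullback.snd g hS) pullback.condition (pullback.fst h hX ≫ e)
      (pullback.snd h hX) wX m hm₁ hm₂ V σS hσS (sψ ≫ σS) hσ' rfl) a).symm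

variable [HenselianLocalRing RS] [IsSepClosed (IsLocalRing.ResidueField RS)]
  [HenselianLocalRing RX] [IsSepClosed (IsLocalRing.ResidueField RX)]
  (l : Spec (CommRingCat.of (IsLocalRing.ResidueField RX)) ⟶ Spec (CommRingCat.of (IsLocalRing.ResidueField RS)))
  (hl : EtFound.cpt RX ≫ sψ = l ≫ EtFound.cpt RS) [QuasiCompact g] [QuasiSeparated g] [QuasiCompact h] [QuasiSeparated h]
  {ιS ιX : Type u} [Preorder ιS] [Nonempty ιS] [IsDirected ιS (· ≤ ·)] [Preorder ιX] [Nonempty ιX] [IsDirected ιX (· ≤ ·)]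
  (ES : ιSᵒᵖ ⥤ S.Etale) (EX : ιXᵒᵖ ⥤ X.Etale)
  (πS : (Functor.const ιSᵒᵖ).obj (Spec (CommRingCat.of RS)) ⟶ EtContLib.stages ES) (hcS : IsLimit (Cone.mk _ πS))
  (πX : (Functor.const ιXᵒᵖ).obj (Spec (CommRingCat.of RX)) ⟶ EtContLib.stages EX) (hcX : IsLimit (Cone.mk _ πX))
  (hAS : ∀ a, IsAffine (ES.obj a).left) (hAX : ∀ a, IsAffine (EX.obj a).left)
  (whS : ∀ i, EtContLib.pr (EtContLib.stages ES) (Cone.mk _ πS) i ≫ (ES.obj (op i)).hom = hS)
  (whX : ∀ i, EtContLib.pr (EtContLib.stages EX) (Cone.mk _ πX) i ≫ (EX.obj (op i)).hom = hX)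

omit [QuasiCompact g] [QuasiSeparated g] [QuasiCompact h] [QuasiSeparated h] in
include hl hcomp in
theorem exists_liftS (V : S.Etale)
    (v : (Scheme.pointSmallEtale ((EtFound.cpt RX ≫ hX) ≫ f)).fiber.obj V) :
    ∃ σS : Spec (CommRingCat.of RS) ⟶ V.left, σS ≫ V.hom = hS ∧
      EtFound.cpt RX ≫ sψ ≫ σS = (v.left : Spec (CommRingCat.of (IsLocalRing.ResidueField RX)) ⟶ V.left) := by
  haveI : Etale V.hom := V.prop
  obtain ⟨v₀, ⟨hv₀, hv₀'⟩, -⟩ := EtFound.existsUnique_fac V.hom (EtFound.cpt RS ≫ hS) l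
    (v.left : Spec (CommRingCat.of (IsLocalRing.ResidueField RX)) ⟶ V.left)
    ((CategoryTheory.Over.w v).trans (by
      show (EtFound.cpt RX ≫ hX) ≫ f = _
      rw [Category.assoc, hcomp, ← Category.assoc, hl, Category.assoc]))
  obtain ⟨σ, ⟨hσ₁, hσ₂⟩, -⟩ := existsUnique_lift RS hS V v₀ hv₀
  exact ⟨σ, hσ₁, by rw [← Category.assoc, hl, Category.assoc, hσ₂, hv₀']⟩

omit [QuasiCompact g] [QuasiSeparated g] [QuasiCompact h] [QuasiSeparated h] in
theorem exists_liftX (U : X.Etale) (t : (Scheme.pointSmallEtale (EtFound.cpt RX ≫ hX)).fiber.obj U) :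
    ∃ σX : Spec (CommRingCat.of RX) ⟶ U.left, σX ≫ U.hom = hX ∧
      EtFound.cpt RX ≫ σX = (t.left : Spec (CommRingCat.of (IsLocalRing.ResidueField RX)) ⟶ U.left) :=
  (existsUnique_lift RX hX U _ (CategoryTheory.Over.w t)).exists

omit [QuasiCompact g] [QuasiSeparated g] [QuasiCompact h] [QuasiSeparated h] in
include hcomp in
theorem exists_pairLift (V : S.Etale) (v : (Scheme.pointSmallEtale ((EtFound.cpt RX ≫ hX) ≫ f)).fiber.obj V)
    (σS : Spec (CommRingCat.of RS) ⟶ V.left) (hσS : σS ≫ V.hom = hS)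
    (hv : EtFound.cpt RX ≫ sψ ≫ σS = (v.left : Spec (CommRingCat.of (IsLocalRing.ResidueField RX)) ⟶ V.left)) :
    ∃ σX : Spec (CommRingCat.of RX) ⟶ ((EtCoh.bc f).obj V).left, σX ≫ ((EtCoh.bc f).obj V).hom = hX ∧
      σX ≫ pullback.fst V.hom f = sψ ≫ σS ∧
      EtFound.cpt RX ≫ σX = (((EtFound.bcFiberEquiv f (EtFound.cpt RX ≫ hX) V).symm v).left :
        Spec (CommRingCat.of (IsLocalRing.ResidueField RX)) ⟶ ((EtCoh.bc f).obj V).left) := by
  have w : (sψ ≫ σS) ≫ V.hom = hX ≫ f := by rw [Category.assoc, hσS, hcomp]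
  refine ⟨pullback.lift (sψ ≫ σS) hX w, pullback.lift_snd _ _ _, pullback.lift_fst _ _ _, ?_⟩
  refine pullback.hom_ext ?_ ?_
  · rw [Category.assoc, pullback.lift_fst, hv]
    exact (bcFiberEquiv_symm_left f (EtFound.cpt RX ≫ hX) V v).symm
  · rw [Category.assoc, pullback.lift_snd]
    exact (CategoryTheory.Over.w ((EtFound.bcFiberEquiv f (EtFound.cpt RX ≫ hX) V).symm v)).symm

omit [QuasiCompact g] [QuasiSeparated g] [QuasiCompact h] [QuasiSeparated h] in
theorem phiB_eq_of_germ_eq (G : EtDesc.Sh Y) (U : X.Etale) (t : (Scheme.pointSmallEtale (EtFound.cpt RX ≫ hX)).fiber.obj U)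
    (σX : Spec (CommRingCat.of RX) ⟶ U.left) (hσX : σX ≫ U.hom = hX)
    (ht : EtFound.cpt RX ≫ σX = (t.left : Spec (CommRingCat.of (IsLocalRing.ResidueField RX)) ⟶ U.left))
    (y₁ y₂ : G.obj.obj (op ((EtCoh.bc h).obj U)))
    (hy : germ ((EtDesc.pushSh h).obj G) (EtFound.cpt RX ≫ hX) U t y₁ =
      germ ((EtDesc.pushSh h).obj G) (EtFound.cpt RX ≫ hX) U t y₂) :
    phiB h (pullback.fst h hX) (pullback.snd h hX) pullback.condition G U σX hσX y₁ =
      phiB h (pullback.fst h hX) (pullback.snd h hX) pullback.condition G U σX hσX y₂ := by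
  obtain ⟨W, n, u, hu, he⟩ := ((Scheme.pointSmallEtale (EtFound.cpt RX ≫ hX)).toPresheafFiber_eq_iff'
    (P := ((EtDesc.pushSh h).obj G).obj) U t y₁ y₂).1 hy
  obtain ⟨σW, hσW, hσW'⟩ := exists_liftX hX W u
  have en : σW ≫ n.left = σX := eq_of_cpt_comp RX hX U _ _
    (by rw [Category.assoc, MorphismProperty.Over.w n, hσW]) hσX (by
      rw [← Category.assoc, hσW', ht, ← hu]
      rfl)
  rw [← phiB_map h (pullback.fst h hX) (pullback.snd h hX) pullback.condition G n σW hσW σX hσX en y₁,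
    ← phiB_map h (pullback.fst h hX) (pullback.snd h hX) pullback.condition G n σW hσW σX hσX en y₂]
  exact congrArg _ he

omit [QuasiCompact g] [QuasiSeparated g] [QuasiCompact h] [QuasiSeparated h] in
theorem bijective_pullVia {A B C : Scheme.{u}} (j : C ⟶ B) (q : B ⟶ A) (r : C ⟶ A) (w : j ≫ q = r) (G : EtDesc.Sh A) :
    Function.Bijective ((EtDesc.pullVia j q r w G).hom.hom.app (op (EtCoh.top C))) :=
  (((sheafToPresheaf _ _).mapIso (EtDesc.pullVia j q r w G)).app (op (EtCoh.top C))).toEquiv.bijective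

omit [QuasiCompact g] [QuasiSeparated g] [QuasiCompact h] [QuasiSeparated h] in
include c hcomp hm₂ in
theorem phiB_strict_eq (V : S.Etale) (σS : Spec (CommRingCat.of RS) ⟶ V.left) (hσS : σS ≫ V.hom = hS)
    (σX : Spec (CommRingCat.of RX) ⟶ ((EtCoh.bc f).obj V).left) (hσX : σX ≫ ((EtCoh.bc f).obj V).hom = hX)
    (hσ : σX ≫ pullback.fst V.hom f = sψ ≫ σS) (a : F.obj.obj (op ((EtCoh.bc g).obj V)))
    {s} (ha : phiB g (pullback.fst g hS) (pullback.snd g hS) pullback.condition F V σS hσS a = s)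
    {z} (hs : tau m (pullback.fst g hS) (pullback.fst h hX ≫ e) hm₁ s =
      (EtDesc.pullVia (pullback.fst h hX) e (pullback.fst h hX ≫ e) rfl F).hom.hom.app (op (EtCoh.top (pullback h hX))) z) :
    phiB h (pullback.fst h hX) (pullback.snd h hX) pullback.condition ((EtDesc.pullSh e).obj F) ((EtCoh.bc f).obj V) σX hσX
      ((EtBC.baseChange0Sh g f h e c.w F).hom.app (op ((EtCoh.bc f).obj V)) (up f ((EtDesc.pushSh g).obj F) V a)) = z := by
  apply (bijective_pullVia (pullback.fst h hX) e (pullback.fst h hX ≫ e) rfl F).1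
  rw [phiB_strict_key f g h e c hS hX sψ hcomp F m hm₁ hm₂ V σS hσS σX hσX hσ a, ha, hs]

variable (H : Function.Bijective (tau m (pullback.fst g hS) (pullback.fst h hX ≫ e) hm₁ (F := F)))

include hcomp hm₂ hl hcS hAS whS H in
theorem injective_stalk_strict : Function.Injective ((Scheme.pointSmallEtale (EtFound.cpt RX ≫ hX)).presheafFiber.map
    (EtBC.baseChange0Sh g f h e c.w F).hom) := by
  let ξ := EtFound.cpt RX ≫ hX
  let G := (EtDesc.pushSh g).obj F
  let β := EtBC.baseChange0Sh g f h e c.w F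
  let k := pullback.fst h hX
  let bX := pullback.snd h hX
  let Tv := (((sheafToPresheaf _ _).mapIso (EtDesc.pullVia k e (k ≫ e) rfl F)).app (op (EtCoh.top (pullback h hX)))).toEquiv
  intro c₁ c₂ hc
  refine (stI f ξ G).injective ?_
  obtain ⟨V, v, a, b, ha, hb⟩ := (Scheme.pointSmallEtale (ξ ≫ f)).toPresheafFiber_jointly_surjective₂
    (P := G.obj) (stI f ξ G c₁) (stI f ξ G c₂)
  let t := (EtFound.bcFiberEquiv f ξ V).symm v
  have hr : ∀ (r : St ((EtDesc.pullSh f).obj G) ξ) (y : ToType (G.obj.obj (op V))),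
      germ G (ξ ≫ f) V v y = stI f ξ G r →
      r = germ ((EtDesc.pullSh f).obj G) ξ ((EtCoh.bc f).obj V) t (up f G V y) := fun r y hy => by
    apply (stI f ξ G).injective
    rw [stI_germ, show EtFound.bcFiberEquiv f ξ V t = v from Equiv.apply_symm_apply _ _, hy]
  rw [hr c₁ a ha, hr c₂ b hb, germ_natural, germ_natural] at hc
  obtain ⟨σS, hσS, hv⟩ := exists_liftS f hS hX sψ hcomp l hl V v
  obtain ⟨σX, hσX, hσ, ht⟩ := exists_pairLift f hS hX sψ hcomp V v σS hσS hv
  have e₁ := phiB_eq_of_germ_eq h hX ((EtDesc.pullSh e).obj F) _ t σX hσX ht _ _ hc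
  have e₂ := H.1 ((phiB_strict_key f g h e c hS hX sψ hcomp F m hm₁ hm₂ V σS hσS σX hσX hσ a).symm.trans ((congrArg Tv e₁).trans (phiB_strict_key f g h e c hS hX sψ hcomp F m hm₁ hm₂ V σS hσS σX hσX hσ b)))
  obtain ⟨i, n, hn, he⟩ := exists_restrict_of_phiB_eq g ES (Cone.mk _ πS) hS whS hAS hcS F V σS hσS a b e₂
  refine ha.symm.trans (Eq.trans ?_ hb)
  let v' : (Scheme.pointSmallEtale (ξ ≫ f)).fiber.obj (ES.obj (op i)) :=
    CategoryTheory.Over.homMk (EtFound.cpt RX ≫ sψ ≫ EtContLib.pr (EtContLib.stages ES) (Cone.mk _ πS) i) (by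
      show (EtFound.cpt RX ≫ sψ ≫ EtContLib.pr (EtContLib.stages ES) (Cone.mk _ πS) i) ≫ (ES.obj (op i)).hom = ξ ≫ f
      simp only [Category.assoc, whS i, ξ, hcomp])
  have hv' : (Scheme.pointSmallEtale (ξ ≫ f)).fiber.map n v' = v := CategoryTheory.Over.OverMorphism.ext (by
    show (EtFound.cpt RX ≫ sψ ≫ EtContLib.pr (EtContLib.stages ES) (Cone.mk _ πS) i) ≫ n.left = _
    rw [Category.assoc, Category.assoc, hn, hv])
  show germ G (ξ ≫ f) V v a = germ G (ξ ≫ f) V v b
  rw [← hv', ← germ_map, ← germ_map]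
  exact congrArg (germ G (ξ ≫ f) (ES.obj (op i)) v') he

include hcomp hm₂ hl hcS hAS whS hcX hAX whX H in
theorem surjective_stalk_strict : Function.Surjective ((Scheme.pointSmallEtale (EtFound.cpt RX ≫ hX)).presheafFiber.map
    (EtBC.baseChange0Sh g f h e c.w F).hom) := by
  let ξ := EtFound.cpt RX ≫ hX
  let G := (EtDesc.pushSh g).obj F
  let β := EtBC.baseChange0Sh g f h e c.w F
  let k := pullback.fst h hX
  let bX := pullback.snd h hX
  intro z
  obtain ⟨U, u, y, rfl⟩ := germ_surjective ((EtDesc.pushSh h).obj ((EtDesc.pullSh e).obj F)) ξ z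
  obtain ⟨σU, hσU, hu⟩ := exists_liftX hX U u
  obtain ⟨s, hs⟩ := H.2 ((EtDesc.pullVia k e (k ≫ e) rfl F).hom.hom.app (op (EtCoh.top (pullback h hX))) (phiB h k bX pullback.condition ((EtDesc.pullSh e).obj F) U σU hσU y))
  obtain ⟨i, a, ha⟩ := exists_phiB g ES (Cone.mk _ πS) hS whS hAS hcS F s
  let σS := EtContLib.pr (EtContLib.stages ES) (Cone.mk _ πS) i
  let V := ES.obj (op i)
  let v : (Scheme.pointSmallEtale (ξ ≫ f)).fiber.obj V := CategoryTheory.Over.homMk (EtFound.cpt RX ≫ sψ ≫ σS) (by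
    show (EtFound.cpt RX ≫ sψ ≫ σS) ≫ V.hom = ξ ≫ f
    simp only [Category.assoc, σS, V, whS i, ξ, hcomp])
  let t := (EtFound.bcFiberEquiv f ξ V).symm v
  obtain ⟨σX, hσX, hσ, ht⟩ := exists_pairLift f hS hX sψ hcomp V v σS (whS i) rfl
  refine ⟨germ ((EtDesc.pullSh f).obj G) ξ ((EtCoh.bc f).obj V) t (up f G V a), ?_⟩
  rw [germ_natural]
  let Φ := Scheme.pointSmallEtale ξ
  obtain ⟨⟨W, ww⟩, ⟨α, hα⟩, ⟨γ, hγ⟩, -⟩ := IsCofilteredOrEmpty.cone_objs
    (Φ.fiber.elementsMk _ t) (Φ.fiber.elementsMk U u)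
  obtain ⟨α', hα'⟩ : ∃ α' : W ⟶ (EtCoh.bc f).obj V, Φ.fiber.map α' ww = t := ⟨α, hα⟩
  obtain ⟨γ', hγ'⟩ : ∃ γ' : W ⟶ U, Φ.fiber.map γ' ww = u := ⟨γ, hγ⟩
  obtain ⟨σW, hσW, hw⟩ := exists_liftX hX W ww
  have eα : σW ≫ α'.left = σX := eq_of_cpt_comp RX hX _ _ _
    (by rw [Category.assoc, MorphismProperty.Over.w α', hσW]) hσX (by rw [← Category.assoc, hw, ht]; exact congrArg (fun z => (z.left : _ ⟶ _)) hα')
  have eγ : σW ≫ γ'.left = σU := eq_of_cpt_comp RX hX _ _ _
    (by rw [Category.assoc, MorphismProperty.Over.w γ', hσW]) hσU (by rw [← Category.assoc, hw, hu]; exact congrArg (fun z => (z.left : _ ⟶ _)) hγ')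
  rw [← hα', ← hγ', ← germ_map, ← germ_map]
  let H' := (EtDesc.pullSh e).obj F
  obtain ⟨i', n, hn, he⟩ := exists_restrict_of_phiB_eq h EX (Cone.mk _ πX) hX whX hAX hcX H' W σW hσW
    (H'.obj.map ((EtCoh.bc h).map α').op (β.hom.app (op ((EtCoh.bc f).obj V)) (up f G V a)))
    (H'.obj.map ((EtCoh.bc h).map γ').op y) (((phiB_map h k bX pullback.condition H' α' σW hσW σX hσX eα _).trans
      (phiB_strict_eq f g h e c hS hX sψ hcomp F m hm₁ hm₂ V σS (whS i) σX hσX hσ a ha hs)).trans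
      (phiB_map h k bX pullback.condition H' γ' σW hσW σU hσU eγ y).symm)
  let w' : Φ.fiber.obj (EX.obj (op i')) :=
    CategoryTheory.Over.homMk (EtFound.cpt RX ≫ EtContLib.pr (EtContLib.stages EX) (Cone.mk _ πX) i') (by
      show (EtFound.cpt RX ≫ EtContLib.pr (EtContLib.stages EX) (Cone.mk _ πX) i') ≫ (EX.obj (op i')).hom = ξ
      rw [Category.assoc, whX i'])
  have hw' : Φ.fiber.map n w' = ww := CategoryTheory.Over.OverMorphism.ext (by
    show (EtFound.cpt RX ≫ EtContLib.pr (EtContLib.stages EX) (Cone.mk _ πX) i') ≫ n.left = _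
    rw [Category.assoc, hn, hw])
  rw [← hw', ← germ_map, ← germ_map]
  exact congrArg (germ ((EtDesc.pushSh h).obj H') ξ (EX.obj (op i')) w') he

end Core

/-- The criterion: the base change map is bijective on the stalk when the pullback of sections between the parts
over the strict localizations is. -/
theorem bijective_baseChange_strict {X S Y T : Scheme.{u}} (f : X ⟶ S) (g : T ⟶ S) (h : Y ⟶ X) (e : Y ⟶ T)
    (x : X) (RS RX : Type u) [CommRing RS] [IsLocalRing RS] [HenselianLocalRing RS]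
    [IsSepClosed (IsLocalRing.ResidueField RS)] [Algebra (S.presheaf.stalk (f.base x)) RS]
    [IsLocalHom (algebraMap (S.presheaf.stalk (f.base x)) RS)]
    [CommRing RX] [IsLocalRing RX] [HenselianLocalRing RX] [IsSepClosed (IsLocalRing.ResidueField RX)]
    [Algebra (X.presheaf.stalk x) RX] [IsLocalHom (algebraMap (X.presheaf.stalk x) RX)]
    [Hensel.IsStrictHenselization (S.presheaf.stalk (f.base x)) RS]
    [Hensel.IsStrictHenselization (X.presheaf.stalk x) RX] (ψ : RS →+* RX) [IsLocalHom ψ]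
    (hψ : ψ.comp (algebraMap (S.presheaf.stalk (f.base x)) RS) = (algebraMap (X.presheaf.stalk x) RX).comp (f.stalkMap x).hom)
    [QuasiCompact g] [QuasiSeparated g] (c : IsPullback e h g f) (F : EtDesc.Sh T)
    (H : Function.Bijective (tau (strictMap f g h e x RS RX ψ hψ c) (pullback.fst g (Hens2.specOf S (f.base x) RS))
      (pullback.fst h (Hens2.specOf X x RX) ≫ e) (strictMap_fst f g h e x RS RX ψ hψ c) (F := F))) :
    Function.Bijective ((Scheme.pointSmallEtale (EtFound.cpt RX ≫ Hens2.specOf X x RX)).presheafFiber.map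
      (EtBC.baseChange0Sh g f h e c.w F).hom) := by
  haveI : QuasiCompact h := MorphismProperty.of_isPullback c ‹QuasiCompact g›
  haveI : QuasiSeparated h := MorphismProperty.of_isPullback c ‹QuasiSeparated g›
  have hl : EtFound.cpt RX ≫ Spec.map (CommRingCat.ofHom ψ) =
      Spec.map (CommRingCat.ofHom (IsLocalRing.ResidueField.map ψ)) ≫ EtFound.cpt RS := by
    simp only [← Spec.map_comp]
    rfl
  obtain ⟨ιS, _, _, _, ES, πS, ⟨hcS⟩, hAS, hwS⟩ := EtContLib.exists_strict_limit S (f.base x) RS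
  obtain ⟨ιX, _, _, _, EX, πX, ⟨hcX⟩, hAX, hwX⟩ := EtContLib.exists_strict_limit X x RX
  exact ⟨injective_stalk_strict f g h e c _ _ _ (specOf_comp f x RS RX ψ hψ) F _ (strictMap_fst f g h e x RS RX ψ hψ c)
      (strictMap_snd f g h e x RS RX ψ hψ c) _ hl ES πS hcS hAS (fun i => hwS (op i)) H,
    surjective_stalk_strict f g h e c _ _ _ (specOf_comp f x RS RX ψ hψ) F _ (strictMap_fst f g h e x RS RX ψ hψ c)
      (strictMap_snd f g h e x RS RX ψ hψ c) _ hl ES EX πS hcS πX hcX hAS hAX (fun i => hwS (op i))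
      (fun i => hwX (op i)) H⟩


theorem bijective_presheafFiber_ext {X : Scheme.{u}} {F G : EtDesc.Sh X} {k Ω : Type u} [Field k]
    [IsSepClosed k] [Field Ω] [IsSepClosed Ω] (p : F ⟶ G) (ξ : Spec (CommRingCat.of k) ⟶ X)
    (l : Spec (CommRingCat.of Ω) ⟶ Spec (CommRingCat.of k))
    (hb : Function.Bijective ((Scheme.pointSmallEtale ξ).presheafFiber.map p.hom)) :
    Function.Bijective ((Scheme.pointSmallEtale (l ≫ ξ)).presheafFiber.map p.hom) :=
  (isIso_iff_bijective _).1 ((NatIso.isIso_map_iff (EtFound.stalkExtIso (Type (u + 1)) ξ l) p).1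
    ((isIso_iff_bijective _).2 hb))

/-- A map of strict henselizations over a local homomorphism. -/
theorem exists_strictHenz_hom {A B : Type u} [CommRing A] [IsLocalRing A] [CommRing B] [IsLocalRing B] (φ : A →+* B)
    [IsLocalHom φ] (RS RX : Type u) [CommRing RS] [IsLocalRing RS] [Algebra A RS] [IsLocalHom (algebraMap A RS)]
    [Hensel.IsStrictHenselization A RS] [CommRing RX] [IsLocalRing RX] [HenselianLocalRing RX] [Algebra B RX]
    [IsLocalHom (algebraMap B RX)] [IsSepClosed (IsLocalRing.ResidueField RX)] :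
    ∃ ψ : RS →+* RX, IsLocalHom ψ ∧ ψ.comp (algebraMap A RS) = (algebraMap B RX).comp φ := by
  let f₀ : A →+* RX := (algebraMap B RX).comp φ
  haveI : IsLocalHom f₀ := RingHom.isLocalHom_comp _ _
  letI : Algebra (IsLocalRing.ResidueField A) (IsLocalRing.ResidueField RX) := (IsLocalRing.ResidueField.map f₀).toAlgebra
  haveI := (Hensel.IsStrictHenselization.isSepClosure (R := A) (S := RS)).separable
  let τ : IsLocalRing.ResidueField RS →ₐ[IsLocalRing.ResidueField A] IsLocalRing.ResidueField RX := IsSepClosed.lift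
  obtain ⟨g, ⟨hg₁, hg₂⟩, -⟩ := Hensel.IsStrictHenselization.universal (R := A) (S := RS) RX f₀ τ.toRingHom
    (RingHom.ext fun a => τ.commutes a)
  refine ⟨g, ⟨fun x hx => ?_⟩, hg₁⟩
  by_contra hux
  have h0 : IsLocalRing.residue RS x = 0 := (IsLocalRing.residue_eq_zero_iff x).2 hux
  have h1 := hg₂ x
  rw [h0, map_zero] at h1
  exact (IsLocalRing.residue_eq_zero_iff (g x)).1 h1 hx

/-- Base change in degree zero is an isomorphism when it is so on strict localizations. -/
theorem isIso_baseChange0Sh_of_strict {X S Y T : Scheme.{u}} (f : X ⟶ S) (g : T ⟶ S) (h : Y ⟶ X) (e : Y ⟶ T)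
    [QuasiCompact g] [QuasiSeparated g] (c : IsPullback e h g f) (F : EtDesc.Sh T)
    (H : ∀ (x : X) (RS RX : Type u) [CommRing RS] [IsLocalRing RS] [Algebra (S.presheaf.stalk (f.base x)) RS]
      [IsLocalHom (algebraMap (S.presheaf.stalk (f.base x)) RS)] [Hensel.IsStrictHenselization (S.presheaf.stalk (f.base x)) RS]
      [CommRing RX] [IsLocalRing RX] [Algebra (X.presheaf.stalk x) RX] [IsLocalHom (algebraMap (X.presheaf.stalk x) RX)]
      [Hensel.IsStrictHenselization (X.presheaf.stalk x) RX] [IsSepClosed (IsLocalRing.ResidueField RS)]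
      [IsSepClosed (IsLocalRing.ResidueField RX)] (ψ : RS →+* RX) [IsLocalHom ψ]
      (hψ : ψ.comp (algebraMap (S.presheaf.stalk (f.base x)) RS) = (algebraMap (X.presheaf.stalk x) RX).comp (f.stalkMap x).hom),
      Function.Bijective (EtDesc.secPull (strictMap f g h e x RS RX ψ hψ c)
        ((EtDesc.pullSh (pullback.fst g (Hens2.specOf S (f.base x) RS))).obj F))) :
    IsIso (EtBC.baseChange0Sh g f h e c.w F) := by
  refine EtFound.isIso_of_stalks _ fun Ω _ _ η => ?_
  obtain ⟨x, τ, hτ⟩ := exists_fac_strictHenz η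
  let RX := Hensel.StrictHenz (X.presheaf.stalk x)
  let RS := Hensel.StrictHenz (S.presheaf.stalk (f.base x))
  haveI : IsSepClosed (IsLocalRing.ResidueField RX) :=
    (Hensel.isSepClosure_residueField_strictHenz (X.presheaf.stalk x)).sep_closed
  haveI : IsSepClosed (IsLocalRing.ResidueField RS) :=
    (Hensel.isSepClosure_residueField_strictHenz (S.presheaf.stalk (f.base x))).sep_closed
  obtain ⟨ψ, hloc, hψ⟩ := exists_strictHenz_hom (f.stalkMap x).hom RS RX
  haveI := hloc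
  have hb : Function.Bijective (tau (strictMap f g h e x RS RX ψ hψ c) (pullback.fst g (Hens2.specOf S (f.base x) RS))
      (pullback.fst h (Hens2.specOf X x RX) ≫ e) (strictMap_fst f g h e x RS RX ψ hψ c) (F := F)) :=
    ((((sheafToPresheaf _ _).mapIso (EtDesc.pullVia (strictMap f g h e x RS RX ψ hψ c)
      (pullback.fst g (Hens2.specOf S (f.base x) RS)) (pullback.fst h (Hens2.specOf X x RX) ≫ e)
      (strictMap_fst f g h e x RS RX ψ hψ c) F)).app (op (EtCoh.top _))).toEquiv.bijective).comp (H x RS RX ψ hψ)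
  have hB := bijective_baseChange_strict f g h e x RS RX ψ hψ c F hb
  subst hτ
  exact bijective_presheafFiber_ext _ (EtFound.cpt RX ≫ Hens2.specOf X x RX) (Spec.map (CommRingCat.ofHom τ)) hB

end Groth.Agent.EtPBC0
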