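import Groth.Agent.EtPBC0.AcycComp

/-!
# Locally acyclic morphisms and composition
-/

set_option autoImplicit false
set_option linter.style.haveILetI false

universe u

open CategoryTheory CategoryTheory.Limits AlgebraicGeometry Opposite IsLocalRing

namespace Groth.Agent.EtPBC0.AcycLoc

set_option backward.isDefEq.respectTransparency false
set_option backward.isDefEq.respectTransparency.types false

theorem isLocalHom_of_residue {S T : Type u} [CommRing S] [IsLocalRing S] [CommRing T] [IsLocalRing T] (g : S →+* T)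
    (τ : ResidueField S →+* ResidueField T) (h : ∀ x, residue T (g x) = τ (residue S x)) : IsLocalHom g :=
  ⟨fun x hx => by
    by_contra hux
    have h1 := h x
    rw [(residue_eq_zero_iff x).2 hux, map_zero] at h1
    exact (residue_eq_zero_iff (g x)).1 h1 hx⟩

/-- A map of strict henselizations over a composite factors through any strict henselization in between. -/
theorem exists_factor {A B C : Type u} [CommRing A] [IsLocalRing A] [CommRing B] [IsLocalRing B] [CommRing C]
    [IsLocalRing C] (α : A →+* B) [IsLocalHom α] (β : B →+* C) [IsLocalHom β] (RA RB RC : Type u)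
    [CommRing RA] [IsLocalRing RA] [Algebra A RA] [IsLocalHom (algebraMap A RA)] [Hensel.IsStrictHenselization A RA]
    [CommRing RB] [IsLocalRing RB] [Algebra B RB] [IsLocalHom (algebraMap B RB)] [Hensel.IsStrictHenselization B RB]
    [CommRing RC] [IsLocalRing RC] [HenselianLocalRing RC] [IsSepClosed (ResidueField RC)] [Algebra C RC]
    [IsLocalHom (algebraMap C RC)] (φ : RA →+* RC) [IsLocalHom φ]
    (hφ : φ.comp (algebraMap A RA) = (algebraMap C RC).comp (β.comp α)) :
    ∃ (ψ₁ : RA →+* RB) (ψ₂ : RB →+* RC), IsLocalHom ψ₁ ∧ IsLocalHom ψ₂ ∧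
      ψ₁.comp (algebraMap A RA) = (algebraMap B RB).comp α ∧
      ψ₂.comp (algebraMap B RB) = (algebraMap C RC).comp β ∧ ψ₂.comp ψ₁ = φ := by
  haveI : HenselianLocalRing RB := Hensel.IsStrictHenselization.henselian (R := B)
  haveI := Hensel.IsStrictHenselization.isSepClosure (R := A) (S := RA)
  haveI := Hensel.IsStrictHenselization.isSepClosure (R := B) (S := RB)
  haveI : IsSepClosed (ResidueField RB) := IsSepClosure.sep_closed (ResidueField B)
  let f₁ : A →+* RB := (algebraMap B RB).comp α
  let f₂ : B →+* RC := (algebraMap C RC).comp β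
  haveI : IsLocalHom f₁ := RingHom.isLocalHom_comp _ _
  haveI : IsLocalHom f₂ := RingHom.isLocalHom_comp _ _
  letI a₁ : Algebra (ResidueField A) (ResidueField RB) := (ResidueField.map f₁).toAlgebra
  letI a₂ : Algebra (ResidueField B) (ResidueField RC) := (ResidueField.map f₂).toAlgebra
  haveI := (Hensel.IsStrictHenselization.isSepClosure (R := A) (S := RA)).separable
  haveI := (Hensel.IsStrictHenselization.isSepClosure (R := B) (S := RB)).separable
  let τ₂ : ResidueField RB →ₐ[ResidueField B] ResidueField RC := IsSepClosed.lift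
  letI a₀ : Algebra (ResidueField A) (ResidueField RC) :=
    (τ₂.toRingHom.comp (ResidueField.map f₁)).toAlgebra
  let τ₀ : ResidueField RA →ₐ[ResidueField A] ResidueField RB := IsSepClosed.lift
  letI a₃ : Algebra (ResidueField RA) (ResidueField RC) := (τ₂.toRingHom.comp τ₀.toRingHom).toAlgebra
  haveI : IsScalarTower (ResidueField A) (ResidueField RA) (ResidueField RC) :=
    IsScalarTower.of_algebraMap_eq fun a => congrArg τ₂ (τ₀.commutes a).symm
  have hres : ∀ a : A, τ₂ (ResidueField.map f₁ (residue A a)) = residue RC (algebraMap C RC (β (α a))) := fun a => by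
    rw [ResidueField.map_residue]
    refine Eq.trans ?_ (ResidueField.map_residue f₂ (α a))
    exact τ₂.commutes (residue B (α a))
  let τ : ResidueField RA →ₐ[ResidueField A] ResidueField RC :=
    { ResidueField.map φ with
      commutes' := fun z => by
        obtain ⟨a, rfl⟩ := residue_surjective z
        show ResidueField.map φ (residue RA (algebraMap A RA a)) = τ₂ (ResidueField.map f₁ (residue A a))
        rw [hres, ResidueField.map_residue]
        exact congrArg (residue RC) (RingHom.congr_fun hφ a) }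
  haveI : Normal (ResidueField A) (ResidueField RA) := inferInstance
  let σ := τ.restrictNormal (ResidueField RA)
  have hσ : ∀ z, τ₂ (τ₀ (σ z)) = τ z := fun z => τ.restrictNormal_commutes (ResidueField RA) z
  let τ₁ := τ₀.comp σ
  obtain ⟨ψ₁, ⟨h₁, h₁'⟩, -⟩ := Hensel.IsStrictHenselization.universal (R := A) (S := RA) RB f₁ τ₁.toRingHom
    (RingHom.ext fun a => τ₁.commutes a)
  obtain ⟨ψ₂, ⟨h₂, h₂'⟩, -⟩ := Hensel.IsStrictHenselization.universal (R := B) (S := RB) RC f₂ τ₂.toRingHom
    (RingHom.ext fun a => τ₂.commutes a)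
  refine ⟨ψ₁, ψ₂, isLocalHom_of_residue ψ₁ _ h₁', isLocalHom_of_residue ψ₂ _ h₂', h₁, h₂, ?_⟩
  let f : A →+* RC := (algebraMap C RC).comp (β.comp α)
  haveI : IsLocalHom (β.comp α) := RingHom.isLocalHom_comp _ _
  haveI : IsLocalHom f := RingHom.isLocalHom_comp _ _
  refine (Hensel.IsStrictHenselization.universal (R := A) (S := RA) RC f (ResidueField.map φ)
    (RingHom.ext fun z => ?_)).unique ⟨?_, fun x => ?_⟩ ⟨hφ, fun x => (ResidueField.map_residue φ x).symm⟩
  · obtain ⟨a, rfl⟩ := residue_surjective z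
    rw [RingHom.comp_apply, ResidueField.map_residue, ResidueField.map_residue, ResidueField.map_residue]
    exact congrArg (residue RC) (RingHom.congr_fun hφ a)
  · rw [RingHom.comp_assoc, h₁]
    show ψ₂.comp ((algebraMap B RB).comp α) = _
    rw [← RingHom.comp_assoc, h₂]
    rfl
  · exact (h₂' (ψ₁ x)).trans ((congrArg τ₂ (h₁' x)).trans (hσ (residue RA x)))

/-- A property of morphisms of strict localizations compatible with composition. -/
theorem onStrictLocalizations_comp_iff (P : ∀ ⦃X' Y' : Scheme.{u}⦄, (X' ⟶ Y') → Prop)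
    (hP : ∀ {X' Y' Z' : Scheme.{u}} (a : X' ⟶ Y') (b : Y' ⟶ Z'), P a → (P b ↔ P (a ≫ b)))
    {X Y Z : Scheme.{u}} (g : X ⟶ Y) (h : Y ⟶ Z) (hg : Function.Surjective g.base)
    (hl : EtAcyc.OnStrictLocalizations g P) :
    EtAcyc.OnStrictLocalizations h P ↔ EtAcyc.OnStrictLocalizations (g ≫ h) P := by
  constructor
  · intro hh x RZ RX _ _ _ _ aZ lZ sZ _ _ _ _ _ hc
    letI : Algebra (Z.presheaf.stalk (h.base (g.base x))) RZ := aZ
    haveI : IsLocalHom (algebraMap (Z.presheaf.stalk (h.base (g.base x))) RZ) := lZ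
    haveI : Hensel.IsStrictHenselization (Z.presheaf.stalk (h.base (g.base x))) RZ := sZ
    haveI : HenselianLocalRing RX := Hensel.IsStrictHenselization.henselian (R := X.presheaf.stalk x)
    haveI : IsSepClosed (ResidueField RX) :=
      (Hensel.IsStrictHenselization.isSepClosure (R := X.presheaf.stalk x) (S := RX)).sep_closed
    let RY := Hensel.StrictHenz (Y.presheaf.stalk (g.base x))
    obtain ⟨ψ₁, ψ₂, l₁, l₂, h₁, h₂, h₁₂⟩ := exists_factor (A := Z.presheaf.stalk ((g ≫ h).base x))
      (h.stalkMap (g.base x)).hom (g.stalkMap x).hom RZ RY RX (algebraMap RZ RX) (by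
        refine hc.trans ?_
        rw [Scheme.Hom.stalkMap_comp]
        rfl)
    letI : Algebra RZ RY := ψ₁.toAlgebra
    letI : Algebra RY RX := ψ₂.toAlgebra
    haveI : IsLocalHom (algebraMap RZ RY) := l₁
    haveI : IsLocalHom (algebraMap RY RX) := l₂
    have := (hP _ _ (hl x RY RX h₂)).1 (hh (g.base x) RZ RY h₁)
    rw [← Spec.map_comp, ← CommRingCat.ofHom_comp] at this
    show P (Spec.map (CommRingCat.ofHom (algebraMap RZ RX)))
    rw [← h₁₂]
    exact this
  · intro hgh y RZ RY _ _ _ _ aZ lZ sZ _ _ _ _ _ hc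
    obtain ⟨x, rfl⟩ := hg y
    letI : Algebra (Z.presheaf.stalk ((g ≫ h).base x)) RZ := aZ
    haveI : IsLocalHom (algebraMap (Z.presheaf.stalk ((g ≫ h).base x)) RZ) := lZ
    haveI : Hensel.IsStrictHenselization (Z.presheaf.stalk ((g ≫ h).base x)) RZ := sZ
    let RX := Hensel.StrictHenz (X.presheaf.stalk x)
    haveI : IsSepClosed (ResidueField RX) :=
      (Hensel.isSepClosure_residueField_strictHenz (X.presheaf.stalk x)).sep_closed
    haveI : HenselianLocalRing RX := Hensel.IsStrictHenselization.henselian (R := X.presheaf.stalk x)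
    obtain ⟨ψ₂, l₂, h₂⟩ := exists_strictHenz_hom (g.stalkMap x).hom RY RX
    letI : Algebra RY RX := ψ₂.toAlgebra
    haveI : IsLocalHom (algebraMap RY RX) := l₂
    letI : Algebra RZ RX := (ψ₂.comp (algebraMap RZ RY)).toAlgebra
    haveI : IsLocalHom (algebraMap RZ RX) := RingHom.isLocalHom_comp ψ₂ (algebraMap RZ RY)
    have hcomp := hgh x RZ RX (by
      show (ψ₂.comp (algebraMap RZ RY)).comp (algebraMap (Z.presheaf.stalk (h.base (g.base x))) RZ) = _
      rw [RingHom.comp_assoc, hc, ← RingHom.comp_assoc, h₂, Scheme.Hom.stalkMap_comp]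
      rfl)
    refine (hP _ _ (hl x RY RX h₂)).2 ?_
    rw [← Spec.map_comp, ← CommRingCat.ofHom_comp]
    exact hcomp

end Groth.Agent.EtPBC0.AcycLoc
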