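import Groth.Agent.EtPBC0.BaseChange
import Groth.Agent.EtH0Lib.AbBridge

/-!
# Proper base change in degree zero for abelian sheaves
-/

set_option autoImplicit false
set_option linter.style.haveILetI false

universe u

open CategoryTheory CategoryTheory.Limits AlgebraicGeometry Opposite TopologicalSpace
open Groth.Agent.BigSiteLib.DescSec Groth.Agent.EtH0Lib

namespace Groth.Agent.EtPBC0

set_option backward.isDefEq.respectTransparency false
set_option backward.isDefEq.respectTransparency.types false

variable {X S X' S' : Scheme.{u}} (f : X ⟶ S) (g : S' ⟶ S) (f' : X' ⟶ S') (g' : X' ⟶ X)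

/-- The underlying map of sets of the base change map. -/
theorem uSet_baseChange0 (w : g' ≫ f = f' ≫ g) (F : EtCoh.Ab X) :
    cmp g ((EtCoh.push f).obj F) ≫
        (sheafCompose S'.smallEtaleTopology (forget AddCommGrpCat.{u + 1})).map (EtCoh.baseChange0 f g f' g' w F) =
      EtBC.baseChange0Sh f g f' g' w (uSet F) ≫ (EtDesc.pushSh f').map (cmp g' F) := by
  refine ((EtDesc.adjSh g).homEquiv _ _).injective ?_
  rw [Adjunction.homEquiv_unit, Adjunction.homEquiv_unit]
  apply ObjectProperty.hom_ext
  refine NatTrans.ext (funext fun V => ?_)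
  obtain ⟨V⟩ := V
  refine ConcreteCategory.hom_ext _ _ fun x => ?_
  show (EtCoh.baseChange0 f g f' g' w F).hom.app (op ((EtCoh.bc g).obj V))
      ((cmp g ((EtCoh.push f).obj F)).hom.app (op ((EtCoh.bc g).obj V)) (up g (uSet ((EtCoh.push f).obj F)) V x)) =
    (cmp g' F).hom.app (op ((EtCoh.bc f').obj ((EtCoh.bc g).obj V)))
      ((EtBC.baseChange0Sh f g f' g' w (uSet F)).hom.app (op ((EtCoh.bc g).obj V))
        (up g ((EtDesc.pushSh f).obj (uSet F)) V x))
  rw [cmp_up, baseChange0Sh_up f g f' g' w (uSet F) V x,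
    NatTrans.naturality_apply (cmp g' F).hom (EtFound.bcSquare w V).op, cmp_up]
  have h := ConcreteCategory.congr_hom (EtFound.baseChange0_unit f g f' g' w F V) x
  rw [ConcreteCategory.comp_apply, ConcreteCategory.comp_apply] at h
  exact h

/-- Proper base change in degree zero for abelian sheaves. -/
theorem isIso_baseChange0 [IsProper f] (h : IsPullback g' f' f g) (F : EtCoh.Ab X) :
    IsIso (EtCoh.baseChange0 f g f' g' h.w F) := by
  haveI := isIso_baseChange0Sh f g f' g' h (uSet F)
  haveI := isIso_cmp g' F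
  haveI := isIso_cmp g ((EtCoh.push f).obj F)
  haveI h₁ : IsIso (cmp g ((EtCoh.push f).obj F) ≫ (sheafCompose S'.smallEtaleTopology (forget AddCommGrpCat.{u + 1})).map
      (EtCoh.baseChange0 f g f' g' h.w F)) := by
    rw [uSet_baseChange0]; infer_instance
  haveI := IsIso.of_isIso_comp_left (cmp g ((EtCoh.push f).obj F))
    ((sheafCompose S'.smallEtaleTopology (forget AddCommGrpCat.{u + 1})).map (EtCoh.baseChange0 f g f' g' h.w F))
  exact isIso_of_reflects_iso (EtCoh.baseChange0 f g f' g' h.w F)
    (sheafCompose S'.smallEtaleTopology (forget AddCommGrpCat.{u + 1}))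

section Stalk

variable {Ω : Type u} [Field Ω] [IsSepClosed Ω] (ξ : Spec (CommRingCat.of Ω) ⟶ S) (F : EtCoh.Ab X)

/-- Restriction of a section to the fibre, additively. -/
noncomputable def phiAb (V : S.Etale) (v : (Scheme.pointSmallEtale ξ).fiber.obj V) :
    ((EtCoh.push f).obj F).obj.obj (op V) ⟶
      ((EtCoh.pull (pullback.fst f ξ)).obj F).obj.obj (op (EtCoh.top (pullback f ξ))) :=
  ((EtCoh.pullPushAdj (pullback.fst f ξ)).unit.app F).hom.app (op ((EtCoh.bc f).obj V)) ≫
    ((EtCoh.pull (pullback.fst f ξ)).obj F).obj.map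
      (secHom (pullback.fst f ξ) ((EtCoh.bc f).obj V)
        (fibLift f (pullback.fst f ξ) (pullback.snd f ξ) pullback.condition V v)
        (fibLift_hom f (pullback.fst f ξ) (pullback.snd f ξ) pullback.condition V v)).op

theorem phiAb_apply (V : S.Etale) (v : (Scheme.pointSmallEtale ξ).fiber.obj V)
    (x : ((EtCoh.push f).obj F).obj.obj (op V)) :
    phiAb f ξ F V v x = (cmp (pullback.fst f ξ) F).hom.app (op (EtCoh.top (pullback f ξ)))
      (phi f (pullback.fst f ξ) (pullback.snd f ξ) pullback.condition (uSet F) V v x) := by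
  rw [phi, atPt, NatTrans.naturality_apply (cmp (pullback.fst f ξ) F).hom, cmp_up]
  exact ConcreteCategory.comp_apply _ _ x

theorem phiAb_map ⦃V' V : S.Etale⦄ (m : V' ⟶ V) (v' : (Scheme.pointSmallEtale ξ).fiber.obj V') :
    ((EtCoh.push f).obj F).obj.map m.op ≫ phiAb f ξ F V' v' =
      phiAb f ξ F V ((Scheme.pointSmallEtale ξ).fiber.map m v') := by
  refine ConcreteCategory.hom_ext _ _ fun x => ?_
  rw [ConcreteCategory.comp_apply, phiAb_apply, phiAb_apply]
  exact congrArg ((cmp (pullback.fst f ξ) F).hom.app (op (EtCoh.top (pullback f ξ))))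
    (phi_map f (pullback.fst f ξ) (pullback.snd f ξ) pullback.condition (uSet F) m v' x)

/-- The stalk of the direct image along a proper morphism. -/
theorem nonempty_stalkIso [IsProper f] :
    Nonempty ((EtCoh.stalk ξ).obj ((EtCoh.push f).obj F) ≅
      ((EtCoh.pull (pullback.fst f ξ)).obj F).obj.obj (op (EtCoh.top (pullback f ξ)))) := by
  let Φ := Scheme.pointSmallEtale ξ
  let P := pullback f ξ
  let k := pullback.fst f ξ
  let p := pullback.snd f ξ
  have hP : IsPullback k p f ξ := IsPullback.of_hasPullback f ξ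
  haveI := isIso_cmp k F
  have hinj : Function.Injective ((cmp k F).hom.app (op (EtCoh.top P))) :=
    (((sheafToPresheaf _ _).mapIso (asIso (cmp k F))).app (op (EtCoh.top P))).toEquiv.injective
  have hsurj : Function.Surjective ((cmp k F).hom.app (op (EtCoh.top P))) :=
    (((sheafToPresheaf _ _).mapIso (asIso (cmp k F))).app (op (EtCoh.top P))).toEquiv.surjective
  let D := Φ.presheafFiberDesc (P := ((EtCoh.push f).obj F).obj) (fun V v => phiAb f ξ F V v) (fun V' V m v' => phiAb_map f ξ F m v')
  have hD : ∀ V v x, D (Φ.toPresheafFiber V v ((EtCoh.push f).obj F).obj x) = phiAb f ξ F V v x := fun V v x =>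
    (ConcreteCategory.comp_apply _ _ x).symm.trans
      (ConcreteCategory.congr_hom (Φ.toPresheafFiber_presheafFiberDesc _ _ V v) x)
  haveI : IsIso D := by
    refine (ConcreteCategory.isIso_iff_bijective D).2 ⟨fun c₁ c₂ hc => ?_, fun s => ?_⟩
    · obtain ⟨V, v, a, b, rfl, rfl⟩ := Φ.toPresheafFiber_jointly_surjective₂ (P := ((EtCoh.push f).obj F).obj) c₁ c₂
      rw [hD, hD, phiAb_apply, phiAb_apply] at hc
      have hg := germ_eq_of_phi_eq f k p hP (uSet F) V v a b (hinj hc)
      exact (germ_uSet_eq_iff ξ ((EtCoh.push f).obj F) V v a b).1 hg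
    · obtain ⟨s', hs'⟩ := hsurj s
      obtain ⟨V, v, x, hx⟩ := exists_phi_eq f k p hP (uSet F) s'
      refine ⟨Φ.toPresheafFiber V v ((EtCoh.push f).obj F).obj x, ?_⟩
      rw [hD, phiAb_apply]
      exact (congrArg ((cmp k F).hom.app (op (EtCoh.top P))) hx).trans hs'
  exact ⟨asIso D⟩

end Stalk

end Groth.Agent.EtPBC0
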