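import Groth.Agent.EtPBC0.AtPt
import Groth.Agent.BigSiteLib.ConnDesc
import Groth.Agent.EtFound.PushOutside
import Groth.Agent.GeomField.Connected
import Mathlib.AlgebraicGeometry.Morphisms.Flat

/-!
# Sections do not change under extensions of separably closed fields
-/

set_option autoImplicit false
set_option linter.style.haveILetI false

universe u

open CategoryTheory CategoryTheory.Limits AlgebraicGeometry Opposite TopologicalSpace
open Groth.Agent.BigSiteLib.DescSec Groth.Agent.EtH0Lib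

namespace Groth.Agent.EtPBC0

set_option backward.isDefEq.respectTransparency.types false

theorem atPt_top {S T : Scheme.{u}} (g : T ⟶ S) (G : EtDesc.Sh S) (σ : T ⟶ (EtCoh.top S).left)
    (w : σ ≫ (EtCoh.top S).hom = g) (c : G.obj.obj (op (EtCoh.top S))) :
    atPt g G (EtCoh.top S) σ w c = EtDesc.secPull g G c :=
  congrArg (fun m : EtCoh.top T ⟶ (EtCoh.bc g).obj (EtCoh.top S) =>
    ((EtDesc.pullSh g).obj G).obj.map m.op (up g G (EtCoh.top S) c)) ((EtCore.bcTopIsTerminal g).hom_ext _ _)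

/-- Sections of a sheaf pulled back from an algebraically closed field to a connected scheme are constant. -/
theorem surjective_secPull_of_connected {L : Type u} [Field L] [IsAlgClosed L] {C : Scheme.{u}} [ConnectedSpace C]
    (q : C ⟶ Spec (CommRingCat.of L)) (G : EtDesc.Sh (Spec (CommRingCat.of L))) :
    Function.Surjective (EtDesc.secPull q G) := by
  intro γ
  let O : G.obj.obj (op (EtCoh.top (Spec (CommRingCat.of L)))) → Set C := fun c =>
    {u | LocEq ((EtDesc.pullSh q).obj G).obj γ (EtDesc.secPull q G c) (show (EtCoh.top C).left from u)}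
  have hO : ∀ c, IsOpen (O c) := fun c =>
    isOpen_locEq (P := ((EtDesc.pullSh q).obj G).obj) γ (EtDesc.secPull q G c)
  have hcov : ∀ u : C, ∃ c, u ∈ O c := fun u => by
    obtain ⟨V, x, z, m, hz, hm⟩ := exists_locEq_up q G γ u
    rw [(EtCore.topIsTerminal C).hom_ext m (toTop _)] at hm
    haveI : Etale V.hom := V.prop
    let W : Over (Spec (CommRingCat.of L)) := Over.mk (((EtCoh.bc q).obj V).hom ≫ q)
    haveI : Etale (Over.mk V.hom).hom := V.prop
    let p : W ⟶ Over.mk V.hom := Over.homMk (pr q V) pullback.condition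
    obtain ⟨E, σ₀, hzE, hE⟩ := BigSiteLib.exists_factor_near p z
    let σ : Spec (CommRingCat.of L) ⟶ V.left := σ₀.left
    have hσ : σ ≫ V.hom = 𝟙 _ := Over.w σ₀
    let s : EtCoh.top (Spec (CommRingCat.of L)) ⟶ V := MorphismProperty.Over.homMk σ hσ
    refine ⟨G.obj.map s.op x, ?_⟩
    have hq : (q ≫ σ) ≫ V.hom = q := by rw [Category.assoc, hσ, Category.comp_id]
    have e : atPt q G V (q ≫ σ) hq x = EtDesc.secPull q G (G.obj.map s.op x) :=
      (atPt_map q G s q (Category.comp_id q) (q ≫ σ) hq rfl x).symm.trans (atPt_top q G q _ _)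
    show LocEq _ γ (EtDesc.secPull q G _) _
    rw [← e]
    let E' : ((EtCoh.bc q).obj V).left.Opens := E
    let j := EtFound.restrictEtaleHom ((EtCoh.bc q).obj V) E'
    let z' : (EtFound.restrictEtale ((EtCoh.bc q).obj V) E').left := (⟨z, hzE⟩ : E'.toScheme)
    have hz' : (toTop (EtFound.restrictEtale ((EtCoh.bc q).obj V) E')).left z' = (show (EtCoh.top C).left from u) :=
      (toTop_left_apply _ _).trans ((Scheme.Hom.comp_apply _ _ _).trans hz)
    have ej : j = toTop _ ≫ secHom q V (q ≫ σ) hq := by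
      refine MorphismProperty.Over.Hom.ext (pullback.hom_ext ?_ ?_)
      · refine Eq.trans ?_ ((Category.assoc _ _ _).trans (congrArg ((toTop _).left ≫ ·) (secHom_fst q V (q ≫ σ) hq))).symm
        refine hE.trans ?_
        have h1 : (toTop (EtFound.restrictEtale ((EtCoh.bc q).obj V) E')).left = E'.ι ≫ ((EtCoh.bc q).obj V).hom :=
          (Category.comp_id _).symm.trans (MorphismProperty.Over.w (toTop (EtFound.restrictEtale ((EtCoh.bc q).obj V) E')))
        rw [h1]
        exact (congrArg (E'.ι ≫ ·) (Category.assoc _ _ _)).trans (Category.assoc _ _ _).symm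
      · exact (MorphismProperty.Over.w j).trans (MorphismProperty.Over.w (toTop (EtFound.restrictEtale ((EtCoh.bc q).obj V) E') ≫ secHom q V (q ≫ σ) hq)).symm
    rw [← hz']
    refine LocEq.of_map _ ?_
    have hm' := hm.map (U' := EtFound.restrictEtale ((EtCoh.bc q).obj V) E') j (z := z')
    rw [mapF, (EtCore.topIsTerminal C).hom_ext (j ≫ toTop _) (toTop _), ej, ← mapF] at hm'
    exact hm'.symm
  obtain ⟨u₀⟩ := (inferInstance : Nonempty C)
  obtain ⟨c₀, hc₀⟩ := hcov u₀
  refine ⟨c₀, eq_of_locEq _ fun u => LocEq.symm ?_⟩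
  have hdisj : ∀ c, c ≠ c₀ → Disjoint (O c) (O c₀) := fun c hc => Set.disjoint_left.2 fun v h₁ h₂ => hc <| by
    refine eq_of_locEq G fun p => ?_
    obtain ⟨v', hv', hv''⟩ := Scheme.Pullback.exists_preimage_pullback (f := (EtCoh.top (Spec (CommRingCat.of L))).hom) (g := q)
      (show (EtCoh.top _).left from q v) v rfl
    have hp : p = pr q (EtCoh.top _) v' := Subsingleton.elim (α := PrimeSpectrum L) _ _
    rw [hp]
    refine locEq_of_up q G ?_
    have h := (h₁.symm.trans h₂)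
    have ht : (toTop ((EtCoh.bc q).obj (EtCoh.top _))).left v' = (show (EtCoh.top C).left from v) := by
      rw [toTop_left_apply]; exact hv''
    rw [← ht] at h
    have h' := h.map (toTop ((EtCoh.bc q).obj (EtCoh.top _)))
    simp only [map_toTop_secPull] at h'
    simpa [map_top_self] using h'
  have hcl : IsClopen (O c₀) := by
    refine ⟨⟨?_⟩, hO c₀⟩
    have : (O c₀)ᶜ = ⋃ (c) (_ : c ≠ c₀), O c := by
      ext v
      simp only [Set.mem_compl_iff, Set.mem_iUnion]
      refine ⟨fun hv => ?_, fun ⟨c, hc, hv⟩ h => (hdisj c hc).ne_of_mem hv h rfl⟩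
      obtain ⟨c, hc⟩ := hcov v
      exact ⟨c, fun e => hv (e ▸ hc), hc⟩
    rw [this]
    exact isOpen_iUnion fun c => isOpen_iUnion fun _ => hO c
  exact (hcl.eq_univ ⟨u₀, hc₀⟩).symm.subset (Set.mem_univ (show C from u))

theorem congr_of_prop {α : Sort*} {β : Sort*} {p : α → Prop} (f : ∀ x, p x → β) {x y : α} (e : x = y) (h : p x)
    (h' : p y) : f x h = f y h' := by
  subst e; rfl

theorem tau_congr {R S T : Scheme.{u}} {g g' : T ⟶ S} (e : g = g') (a : S ⟶ R) (b : T ⟶ R) (w : g ≫ a = b)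
    (w' : g' ≫ a = b) {G : EtDesc.Sh R} (σ : ((EtDesc.pullSh a).obj G).obj.obj (op (EtCoh.top S))) :
    tau g a b w σ = tau g' a b w' σ :=
  congr_of_prop (p := fun k : T ⟶ S => k ≫ a = b) (fun k wk => tau k a b wk σ) e w w'

theorem tau_point_eq {P P₀ C Y : Scheme.{u}} (π : P ⟶ P₀) (ξ : Y ⟶ P₀) (G : EtDesc.Sh P₀)
    (g : ((EtDesc.pullSh π).obj G).obj.obj (op (EtCoh.top P))) (cL : ((EtDesc.pullSh ξ).obj G).obj.obj (op (EtCoh.top Y)))
    (e : C ⟶ P) (q : C ⟶ Y) (c : C ⟶ P₀) (we : e ≫ π = c) (wq : q ≫ ξ = c)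
    (hq : tau q ξ c wq cL = tau e π c we g)
    (a : Y ⟶ C) (b : Y ⟶ P) (hb : b ≫ π = ξ) (ha₁ : a ≫ e = b) (ha₂ : a ≫ q = 𝟙 _) :
    tau b π ξ hb g = tau (𝟙 Y) ξ ξ (Category.id_comp ξ) cL := by
  have hc : a ≫ c = ξ := by rw [← we, ← Category.assoc, ha₁, hb]
  have h₁ := tau_tau a e π c we ξ hc (by rw [ha₁, hb]) g
  have h₂ := tau_tau a q ξ c wq ξ hc (by rw [ha₂, Category.id_comp]) cL
  exact (tau_congr ha₁.symm π ξ _ _ g).trans (((h₁.symm.trans (congrArg (tau a c ξ hc) hq.symm)).trans h₂).trans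
    (tau_congr ha₂ ξ ξ _ _ cL))

theorem exists_tau_const {L : Type u} [Field L] [IsAlgClosed L] {C X : Scheme.{u}} [ConnectedSpace C]
    (q : C ⟶ Spec (CommRingCat.of L)) (ξ : Spec (CommRingCat.of L) ⟶ X) (c : C ⟶ X) (wq : q ≫ ξ = c)
    {G : EtDesc.Sh X} (γ : ((EtDesc.pullSh c).obj G).obj.obj (op (EtCoh.top C))) :
    ∃ cL, tau q ξ c wq cL = γ := by
  obtain ⟨cL, hcL⟩ := surjective_secPull_of_connected q ((EtDesc.pullSh ξ).obj G)
    ((EtDesc.pullVia q ξ c wq G).inv.hom.app _ γ)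
  refine ⟨cL, ?_⟩
  show (EtDesc.pullVia q ξ c wq G).hom.hom.app _ _ = _
  rw [hcL]
  exact app_inv_apply (EtDesc.pullVia q ξ c wq G).symm _ _

theorem locEq_of_tau_eq' {X S T : Scheme.{u}} (g : T ⟶ S) (a : S ⟶ X) (b : T ⟶ X) (w : g ≫ a = b) {F : EtDesc.Sh X}
    {σ σ' : ((EtDesc.pullSh a).obj F).obj.obj (op (EtCoh.top S))} (h : tau g a b w σ = tau g a b w σ') (t : T)
    (t' : S) (ht : g t = t') :
    LocEq ((EtDesc.pullSh a).obj F).obj σ σ' (show (EtCoh.top S).left from t') := by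
  subst ht
  exact locEq_of_tau_eq g a b w h t

theorem eq_of_geometric {S X : Scheme.{u}} (a : S ⟶ X) {F : EtDesc.Sh X}
    (σ σ' : ((EtDesc.pullSh a).obj F).obj.obj (op (EtCoh.top S)))
    (h : ∀ (L : Type u) [Field L] [IsAlgClosed L] (ζ : Spec (CommRingCat.of L) ⟶ S),
      tau ζ a (ζ ≫ a) rfl σ = tau ζ a (ζ ≫ a) rfl σ') : σ = σ' :=
  eq_of_locEq _ fun w => by
    obtain ⟨L, _, _, ζ, pt, hpt⟩ := BigSiteLib.exists_geometric_point (show S from w)
    exact locEq_of_tau_eq' ζ a (ζ ≫ a) rfl (h L ζ) pt (show S from w) hpt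

theorem tau_fibre_eq {L : Type u} [Field L] [IsAlgClosed L] {P P₀ T : Scheme.{u}} (π : P ⟶ P₀) (d : T ⟶ P₀)
    (ζ : Spec (CommRingCat.of L) ⟶ T) [ConnectedSpace ↥(pullback π (ζ ≫ d))] (G : EtDesc.Sh P₀)
    (g : ((EtDesc.pullSh π).obj G).obj.obj (op (EtCoh.top P))) (p₁ p₂ : T ⟶ P) (w₁ : p₁ ≫ π = d) (w₂ : p₂ ≫ π = d) :
    tau ζ d (ζ ≫ d) rfl (tau p₁ π d w₁ g) = tau ζ d (ζ ≫ d) rfl (tau p₂ π d w₂ g) := by
  obtain ⟨cL, hq⟩ := exists_tau_const (pullback.snd π (ζ ≫ d)) (ζ ≫ d) (pullback.fst π (ζ ≫ d) ≫ π)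
    pullback.condition.symm (tau (pullback.fst π (ζ ≫ d)) π _ rfl g)
  have key : ∀ (p : T ⟶ P) (wp : p ≫ π = d),
      tau ζ d (ζ ≫ d) rfl (tau p π d wp g) = tau (𝟙 _) (ζ ≫ d) (ζ ≫ d) (Category.id_comp _) cL := fun p wp => by
    have hw : (ζ ≫ p) ≫ π = ζ ≫ d := by rw [Category.assoc, wp]
    rw [tau_tau ζ p π d wp (ζ ≫ d) rfl hw]
    exact tau_point_eq π (ζ ≫ d) G g cL _ _ _ rfl pullback.condition.symm hq
      (pullback.lift (ζ ≫ p) (𝟙 _) (hw.trans (Category.id_comp (ζ ≫ d)).symm)) (ζ ≫ p) hw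
      (pullback.lift_fst _ _ _) (pullback.lift_snd _ _ _)
  exact (key p₁ w₁).trans (key p₂ w₂).symm

/-- Sections descend along universally submersive morphisms with connected geometric fibres. -/
theorem bijective_secPull_of_connected_fibres {P P₀ : Scheme.{u}} (π : P ⟶ P₀) (hπ : EtDesc.IsUnivSubmersive π)
    (hc : ∀ (L : Type u) [Field L] [IsAlgClosed L] (s : Spec (CommRingCat.of L) ⟶ P₀), ConnectedSpace ↥(pullback π s))
    (G : EtDesc.Sh P₀) : Function.Bijective (EtDesc.secPull π G) :=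
  ⟨secPull_injective π hπ G, fun g => exists_secPull_of_tau π hπ g
    (eq_of_geometric _ _ _ fun L _ _ ζ =>
      haveI := hc L (ζ ≫ pullback.fst π π ≫ π)
      tau_fibre_eq π (pullback.fst π π ≫ π) ζ G g (pullback.fst π π) (pullback.snd π π) rfl pullback.condition.symm)⟩

theorem geometricallyConnected_field_ext {κ Ω : Type u} [Field κ] [IsSepClosed κ] [Field Ω] [Algebra κ Ω] :
    GeometricallyConnected (Spec.map (CommRingCat.ofHom (algebraMap κ Ω))) := by
  letI : (Spec (CommRingCat.of Ω)).Over (Spec (CommRingCat.of κ)) := ⟨Spec.map (CommRingCat.ofHom (algebraMap κ Ω))⟩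
  exact GeomField.geometricallyConnected_of_separableClosure (GeomField.connectedSpace_bc_of_isSepClosed _)

/-- Invariance of sections under an extension of separably closed fields. -/
theorem bijective_secPull_field_ext {κ Ω : Type u} [Field κ] [IsSepClosed κ] [Field Ω] [Algebra κ Ω]
    {P P₀ : Scheme.{u}} (π : P ⟶ P₀) (p₀ : P₀ ⟶ Spec (CommRingCat.of κ)) (p : P ⟶ Spec (CommRingCat.of Ω))
    (h : IsPullback π p p₀ (Spec.map (CommRingCat.ofHom (algebraMap κ Ω)))) (G : EtDesc.Sh P₀) :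
    Function.Bijective (EtDesc.secPull π G) := by
  let e := Spec.map (CommRingCat.ofHom (algebraMap κ Ω))
  haveI : Flat e := (HasRingHomProperty.Spec_iff (P := @Flat)).mpr (RingHom.flat_algebraMap_iff.mpr inferInstance)
  haveI : Surjective e := ⟨fun x => ⟨IsLocalRing.closedPoint Ω, Subsingleton.elim (α := PrimeSpectrum κ) _ _⟩⟩
  haveI : Flat π := MorphismProperty.of_isPullback h.flip ‹Flat e›
  haveI : Surjective π := MorphismProperty.of_isPullback h.flip ‹Surjective e›
  haveI : QuasiCompact π := MorphismProperty.of_isPullback h.flip (inferInstanceAs (QuasiCompact e))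
  haveI : GeometricallyConnected π := MorphismProperty.of_isPullback h.flip geometricallyConnected_field_ext
  refine bijective_secPull_of_connected_fibres π (fun Y g => ?_)
    (fun L _ _ s => GeometricallyConnected.geometrically_connectedSpace _ _ _ (.of_hasPullback π s)) G
  haveI : Flat (pullback.snd π g) := MorphismProperty.pullback_snd (P := @Flat) π g inferInstance
  haveI : Surjective (pullback.snd π g) := MorphismProperty.pullback_snd (P := @Surjective) π g inferInstance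
  exact ⟨(pullback.snd π g).surjective, Flat.isQuotientMap_of_surjective (pullback.snd π g)⟩

end Groth.Agent.EtPBC0
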