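import Groth.Agent.EtPBC0.StrictBC
import Groth.Agent.EtPBC0.BaseChangeAb
import Groth.Agent.EtPBC0.FieldDesc
import Groth.Agent.H1EssEt.Basic
import Groth.Agent.WEtLib.Basic

/-!
# Base change in degree zero along flat maps with connected strict fibres
-/

set_option autoImplicit false
set_option linter.style.haveILetI false

universe u

open CategoryTheory CategoryTheory.Limits AlgebraicGeometry Opposite TopologicalSpace
open Groth.Agent.BigSiteLib.DescSec Groth.Agent.EtH0Lib

namespace Groth.Agent.EtPBC0

set_option backward.isDefEq.respectTransparency false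
set_option backward.isDefEq.respectTransparency.types false

/-- A map of strict henselizations over a flat map is flat. -/
theorem flat_strictHenz_hom {A B RS RX : Type u} [CommRing A] [IsLocalRing A] [CommRing B] [IsLocalRing B]
    [CommRing RS] [IsLocalRing RS] [Algebra A RS] [IsLocalHom (algebraMap A RS)] [Hensel.IsStrictHenselization A RS]
    [CommRing RX] [IsLocalRing RX] [Algebra B RX] [IsLocalHom (algebraMap B RX)] [Hensel.IsStrictHenselization B RX]
    (φ : A →+* B) (hφ : φ.Flat) (ψ : RS →+* RX)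
    (hψ : ψ.comp (algebraMap A RS) = (algebraMap B RX).comp φ) : ψ.Flat := by
  haveI : Algebra.WeaklyEtale A RS := H1EssEt.weaklyEtale
  haveI : Algebra.WeaklyEtale B RX := H1EssEt.weaklyEtale
  letI : Algebra A B := φ.toAlgebra
  letI : Algebra RS RX := ψ.toAlgebra
  letI : Algebra A RX := ((algebraMap B RX).comp φ).toAlgebra
  haveI : IsScalarTower A B RX := IsScalarTower.of_algebraMap_eq fun _ => rfl
  haveI : IsScalarTower A RS RX := IsScalarTower.of_algebraMap_eq fun a => (RingHom.congr_fun hψ a).symm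
  haveI : Module.Flat A B := hφ
  haveI : Module.Flat A RX := Module.Flat.trans A B RX
  exact WEtLib.flat_of_flat (A := A) (B := RS) RX

theorem isUnivSubmersive_of_flat {P P₀ : Scheme.{u}} (π : P ⟶ P₀) [Flat π] [Surjective π] [QuasiCompact π] :
    EtDesc.IsUnivSubmersive π := fun Y g => by
  haveI : Flat (pullback.snd π g) := MorphismProperty.pullback_snd (P := @Flat) π g inferInstance
  haveI : Surjective (pullback.snd π g) := MorphismProperty.pullback_snd (P := @Surjective) π g inferInstance
  exact ⟨(pullback.snd π g).surjective, Flat.isQuotientMap_of_surjective (pullback.snd π g)⟩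

/-- Spec of a flat local homomorphism is faithfully flat. -/
theorem surjective_specMap_of_flat {R R' : Type u} [CommRing R] [IsLocalRing R] [CommRing R'] [IsLocalRing R']
    (ψ : R →+* R') [IsLocalHom ψ] (hψ : ψ.Flat) : Surjective (Spec.map (CommRingCat.ofHom ψ)) := by
  letI := ψ.toAlgebra
  haveI : Module.Flat R R' := hψ
  haveI : IsLocalHom (algebraMap R R') := ‹IsLocalHom ψ›
  haveI : Module.FaithfullyFlat R R' := Module.FaithfullyFlat.of_flat_of_isLocalHom
  exact ⟨PrimeSpectrum.comap_surjective_of_faithfullyFlat (A := R) (B := R')⟩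

section

variable {X S Y T : Scheme.{u}} (f : X ⟶ S) (g : T ⟶ S) (h : Y ⟶ X) (e : Y ⟶ T)
  (x : X) (RS RX : Type u) [CommRing RS] [IsLocalRing RS] [HenselianLocalRing RS]
  [IsSepClosed (IsLocalRing.ResidueField RS)] [Algebra (S.presheaf.stalk (f.base x)) RS]
  [IsLocalHom (algebraMap (S.presheaf.stalk (f.base x)) RS)]
  [CommRing RX] [IsLocalRing RX] [HenselianLocalRing RX] [IsSepClosed (IsLocalRing.ResidueField RX)]
  [Algebra (X.presheaf.stalk x) RX] [IsLocalHom (algebraMap (X.presheaf.stalk x) RX)]
  (ψ : RS →+* RX) [IsLocalHom ψ]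
  (hψ : ψ.comp (algebraMap (S.presheaf.stalk (f.base x)) RS) = (algebraMap (X.presheaf.stalk x) RX).comp (f.stalkMap x).hom)
  [QuasiCompact g] [QuasiSeparated g] (c : IsPullback e h g f)

theorem isPullback_strictMap :
    IsPullback (strictMap f g h e x RS RX ψ hψ c) (pullback.snd h (Hens2.specOf X x RX))
      (pullback.snd g (Hens2.specOf S (f.base x) RS)) (Spec.map (CommRingCat.ofHom ψ)) := by
  refine IsPullback.of_right ?_ (strictMap_snd f g h e x RS RX ψ hψ c)
    (IsPullback.of_hasPullback g (Hens2.specOf S (f.base x) RS))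
  have h₁ := (IsPullback.of_hasPullback h (Hens2.specOf X x RX)).paste_horiz c
  rw [← strictMap_fst f g h e x RS RX ψ hψ c, specOf_comp f x RS RX ψ hψ] at h₁
  exact h₁

/-- Sections descend to the part over the strict localization of the base. -/
theorem bijective_secPull_strictMap (hflat : ψ.Flat)
    (hconn : ∀ (Ω : Type u) [Field Ω] [IsAlgClosed Ω] (η : Spec (CommRingCat.of Ω) ⟶ Spec (CommRingCat.of RS)),
      ConnectedSpace ↥(pullback (Spec.map (CommRingCat.ofHom ψ)) η))
    (G : EtDesc.Sh (pullback g (Hens2.specOf S (f.base x) RS))) :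
    Function.Bijective (EtDesc.secPull (strictMap f g h e x RS RX ψ hψ c) G) := by
  let π := strictMap f g h e x RS RX ψ hψ c
  let p := Spec.map (CommRingCat.ofHom ψ)
  have hP := (isPullback_strictMap f g h e x RS RX ψ hψ c).flip
  haveI : Flat p := (HasRingHomProperty.Spec_iff (P := @Flat)).mpr hflat
  haveI : Surjective p := surjective_specMap_of_flat ψ hflat
  haveI : Flat π := MorphismProperty.of_isPullback hP ‹Flat p›
  haveI : Surjective π := MorphismProperty.of_isPullback hP ‹Surjective p›
  haveI : QuasiCompact π := MorphismProperty.of_isPullback hP (inferInstanceAs (QuasiCompact p))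
  refine bijective_secPull_of_connected_fibres π (isUnivSubmersive_of_flat π) (fun L _ _ s => ?_) G
  have h₂ := ((IsPullback.of_hasPullback π s).flip.paste_vert hP.flip).flip
  haveI := hconn L (s ≫ pullback.snd g (Hens2.specOf S (f.base x) RS))
  exact h₂.isoPullback.hom.homeomorph.connectedSpace_iff.2 inferInstance

end

/-- The geometric fibres of the maps of strict localizations of `f` are connected. -/
def StrictConn {X S : Scheme.{u}} (f : X ⟶ S) : Prop :=
  ∀ (x : X) (RS : Type u) [CommRing RS] [IsLocalRing RS] [Algebra (S.presheaf.stalk (f.base x)) RS]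
    [IsLocalHom (algebraMap (S.presheaf.stalk (f.base x)) RS)]
    [Hensel.IsStrictHenselization (S.presheaf.stalk (f.base x)) RS]
    (RX : Type u) [CommRing RX] [IsLocalRing RX] [Algebra (X.presheaf.stalk x) RX]
    [IsLocalHom (algebraMap (X.presheaf.stalk x) RX)] [Hensel.IsStrictHenselization (X.presheaf.stalk x) RX]
    (ψ : RS →+* RX) [IsLocalHom ψ],
    ψ.comp (algebraMap (S.presheaf.stalk (f.base x)) RS) = (algebraMap (X.presheaf.stalk x) RX).comp (f.stalkMap x).hom →
    ∀ (Ω : Type u) [Field Ω] [IsAlgClosed Ω] (η : Spec (CommRingCat.of Ω) ⟶ Spec (CommRingCat.of RS)),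
      ConnectedSpace ↥(pullback (Spec.map (CommRingCat.ofHom ψ)) η)

theorem isIso_baseChange0Sh_of_strictConn {X S Y T : Scheme.{u}} (f : X ⟶ S) [Flat f] (hconn : StrictConn f)
    (g : T ⟶ S) [QuasiCompact g] [QuasiSeparated g] (h : Y ⟶ X) (e : Y ⟶ T) (c : IsPullback e h g f)
    (F : EtDesc.Sh T) : IsIso (EtBC.baseChange0Sh g f h e c.w F) :=
  isIso_baseChange0Sh_of_strict f g h e c F fun x RS RX _ _ _ _ _ _ _ _ _ _ _ _ ψ _ hψ =>
    haveI : HenselianLocalRing RS := Hensel.IsStrictHenselization.henselian (R := S.presheaf.stalk (f.base x))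
    haveI : HenselianLocalRing RX := Hensel.IsStrictHenselization.henselian (R := X.presheaf.stalk x)
    bijective_secPull_strictMap f g h e x RS RX ψ hψ c
      (flat_strictHenz_hom (f.stalkMap x).hom (Flat.stalkMap f x) ψ hψ) (hconn x RS RX ψ hψ) _

theorem isIso_baseChange0_of_uSet {X S X' S' : Scheme.{u}} (f : X ⟶ S) (g : S' ⟶ S) (f' : X' ⟶ S') (g' : X' ⟶ X)
    (w : g' ≫ f = f' ≫ g) (F : EtCoh.Ab X) [IsIso (EtBC.baseChange0Sh f g f' g' w (uSet F))] :
    IsIso (EtCoh.baseChange0 f g f' g' w F) := by
  haveI := isIso_cmp g' F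
  haveI := isIso_cmp g ((EtCoh.push f).obj F)
  haveI h₁ : IsIso (cmp g ((EtCoh.push f).obj F) ≫ (sheafCompose S'.smallEtaleTopology (forget AddCommGrpCat.{u + 1})).map
      (EtCoh.baseChange0 f g f' g' w F)) := by
    rw [uSet_baseChange0]; infer_instance
  haveI := IsIso.of_isIso_comp_left (cmp g ((EtCoh.push f).obj F))
    ((sheafCompose S'.smallEtaleTopology (forget AddCommGrpCat.{u + 1})).map (EtCoh.baseChange0 f g f' g' w F))
  exact isIso_of_reflects_iso (EtCoh.baseChange0 f g f' g' w F)
    (sheafCompose S'.smallEtaleTopology (forget AddCommGrpCat.{u + 1}))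

theorem isIso_baseChange0_of_strictConn {X S Y T : Scheme.{u}} (f : X ⟶ S) [Flat f] (hconn : StrictConn f)
    (g : T ⟶ S) [QuasiCompact g] [QuasiSeparated g] (h : Y ⟶ X) (e : Y ⟶ T) (c : IsPullback e h g f)
    (F : EtCoh.Ab T) : IsIso (EtCoh.baseChange0 g f h e c.w F) := by
  haveI := isIso_baseChange0Sh_of_strictConn f hconn g h e c (uSet F)
  exact isIso_baseChange0_of_uSet g f h e c.w F

end Groth.Agent.EtPBC0
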