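import Groth.Agent.EtPBC0.Stalk
import Groth.Agent.EtFound.FiniteBaseChange
import Groth.Prelude.Def_EtBCD

/-!
# Proper base change in degree zero for sheaves of sets
-/

set_option autoImplicit false
set_option linter.style.haveILetI false

universe u

open CategoryTheory CategoryTheory.Limits AlgebraicGeometry Opposite TopologicalSpace
open Groth.Agent.BigSiteLib.DescSec Groth.Agent.EtH0Lib

namespace Groth.Agent.EtPBC0

set_option backward.isDefEq.respectTransparency false
set_option backward.isDefEq.respectTransparency.types false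

variable {X S X' S' : Scheme.{u}} (f : X ⟶ S) (g : S' ⟶ S) (f' : X' ⟶ S') (g' : X' ⟶ X)

/-- The base change map on sections coming from the base. -/
theorem baseChange0Sh_up (w : g' ≫ f = f' ≫ g) (F : EtDesc.Sh X) (V : S.Etale)
    (x : F.obj.obj (op ((EtCoh.bc f).obj V))) :
    (EtBC.baseChange0Sh f g f' g' w F).hom.app (op ((EtCoh.bc g).obj V)) (up g ((EtDesc.pushSh f).obj F) V x) =
      ((EtDesc.pullSh g').obj F).obj.map (EtFound.bcSquare w V).op (up g' F ((EtCoh.bc f).obj V) x) := by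
  have h := ((EtDesc.adjSh g).homEquiv _ _).apply_symm_apply
    ((EtDesc.pushSh f).map ((EtDesc.adjSh g').unit.app F) ≫ (EtDesc.pushCompSh f g').hom.app _ ≫
      (EtBC.pushCongrSh w).hom.app _ ≫ (EtDesc.pushCompSh g f').inv.app _)
  rw [Adjunction.homEquiv_unit] at h
  refine (ConcreteCategory.congr_hom (congrArg (fun α : (EtDesc.pushSh f).obj F ⟶ _ => α.hom.app (op V)) h) x).trans ?_
  simp [EtFound.bcSquare, EtDesc.pushCompSh, EtBC.pushCongrSh]
  rfl

variable {Ω : Type u} [Field Ω] [IsSepClosed Ω] {η' : Spec (CommRingCat.of Ω) ⟶ S'}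
  {P : Scheme.{u}} (k' : P ⟶ X') (p : P ⟶ Spec (CommRingCat.of Ω)) (kP : P ⟶ X)

/-- Restriction to the fibre does not see the base change map. -/
theorem phi_baseChange (w : g' ≫ f = f' ≫ g) (w' : k' ≫ f' = p ≫ η') (wk : k' ≫ g' = kP)
    (wP : kP ≫ f = p ≫ η' ≫ g) (F : EtDesc.Sh X) (V : S.Etale)
    (v : (Scheme.pointSmallEtale (η' ≫ g)).fiber.obj V) (x : F.obj.obj (op ((EtCoh.bc f).obj V))) :
    (EtDesc.pullVia k' g' kP wk F).hom.hom.app (op (EtCoh.top P))
        (phi f' k' p w' ((EtDesc.pullSh g').obj F) ((EtCoh.bc g).obj V) ((EtFound.bcFiberEquiv g η' V).symm v)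
          (((EtDesc.pullSh g').obj F).obj.map (EtFound.bcSquare w V).op (up g' F ((EtCoh.bc f).obj V) x))) =
      phi f kP p wP F V v x := by
  rw [phi, atPt, up_map, mapF]
  refine pullVia_map_up k' g' kP wk F ((EtCoh.bc f).obj V) x _ (fibLift f kP p wP V v) (fibLift_hom f kP p wP V v) ?_
  let t := (EtFound.bcFiberEquiv g η' V).symm v
  let σ' := fibLift f' k' p w' ((EtCoh.bc g).obj V) t
  have e₁ : (secHom k' ((EtCoh.bc f').obj ((EtCoh.bc g).obj V)) σ' (fibLift_hom f' k' p w' _ t) ≫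
      (EtCoh.bc k').map (EtFound.bcSquare w V)).left ≫ pullback.fst ((EtCoh.bc g').obj ((EtCoh.bc f).obj V)).hom k' =
      σ' ≫ (EtFound.bcSquare w V).left := by
    refine ((Category.assoc _ _ _).trans (congrArg ((secHom k' _ σ' (fibLift_hom f' k' p w' _ t)).left ≫ ·)
      (EtCoh.isPullback_bc_map k' (EtFound.bcSquare w V)).w)).trans ?_
    exact (Category.assoc _ _ _).symm.trans
      (congrArg (· ≫ (EtFound.bcSquare w V).left) (secHom_fst k' _ σ' (fibLift_hom f' k' p w' _ t)))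
  refine (Category.assoc _ _ _).symm.trans ((congrArg (· ≫ pullback.fst ((EtCoh.bc f).obj V).hom g') e₁).trans ?_)
  refine pullback.hom_ext ?_ ?_
  · refine Eq.trans ?_ (pullback.lift_fst _ _ _).symm
    refine (Category.assoc _ _ _).trans ((Category.assoc _ _ _).trans
      ((congrArg (σ' ≫ ·) (EtFound.bcSquare_fst w V)).trans ?_))
    refine ((Category.assoc _ _ _).symm.trans (congrArg (· ≫ pullback.fst V.hom g) (pullback.lift_fst _ _ _))).trans ?_
    exact (Category.assoc _ _ _).trans (congrArg (p ≫ ·) (bcFiberEquiv_symm_left g η' V v))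
  · refine Eq.trans ?_ (pullback.lift_snd _ _ _).symm
    refine (Category.assoc _ _ _).trans ((congrArg ((σ' ≫ (EtFound.bcSquare w V).left) ≫ ·)
      (pullback.condition (f := ((EtCoh.bc f).obj V).hom) (g := g'))).trans ?_)
    refine ((Category.assoc _ _ _).symm.trans (congrArg (· ≫ g') ?_)).trans wk
    refine (Category.assoc _ _ _).trans ((congrArg (σ' ≫ ·) (MorphismProperty.Over.w (EtFound.bcSquare w V))).trans ?_)
    exact fibLift_hom f' k' p w' _ t

omit g f' g' in
/-- Germs determine the restriction to the fibre. -/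
theorem phi_eq_of_germ_eq {η : Spec (CommRingCat.of Ω) ⟶ S} (wP : kP ≫ f = p ≫ η) (F : EtDesc.Sh X) (V : S.Etale)
    (v : (Scheme.pointSmallEtale η).fiber.obj V) (x₁ x₂ : F.obj.obj (op ((EtCoh.bc f).obj V)))
    (e : germ ((EtDesc.pushSh f).obj F) η V v x₁ = germ ((EtDesc.pushSh f).obj F) η V v x₂) :
    phi f kP p wP F V v x₁ = phi f kP p wP F V v x₂ := by
  obtain ⟨W, m, u, hu, he⟩ := ((Scheme.pointSmallEtale η).toPresheafFiber_eq_iff'
    (P := ((EtDesc.pushSh f).obj F).obj) V v x₁ x₂).1 e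
  have he' : F.obj.map ((EtCoh.bc f).map m).op x₁ = F.obj.map ((EtCoh.bc f).map m).op x₂ := he
  rw [← hu, ← phi_map f kP p wP F m u x₁, ← phi_map f kP p wP F m u x₂, he']

/-- A map compatible with the restrictions to the fibres is bijective on stalks. -/
theorem bijective_stalk_of_phi [IsProper f] {k₀ : P ⟶ X'} {p₀ : P ⟶ Spec (CommRingCat.of Ω)} [IsProper f']
    (hP' : IsPullback k₀ p₀ f' η') (hP : IsPullback kP p₀ f (η' ≫ g)) (F : EtDesc.Sh X) (G : EtDesc.Sh X')
    (β : (EtDesc.pullSh g).obj ((EtDesc.pushSh f).obj F) ⟶ (EtDesc.pushSh f').obj G)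
    (T : ((EtDesc.pullSh k₀).obj G).obj.obj (op (EtCoh.top P)) ≃ ((EtDesc.pullSh kP).obj F).obj.obj (op (EtCoh.top P)))
    (key : ∀ V v x, T (phi f' k₀ p₀ hP'.w G ((EtCoh.bc g).obj V) ((EtFound.bcFiberEquiv g η' V).symm v)
      (β.hom.app (op ((EtCoh.bc g).obj V)) (up g ((EtDesc.pushSh f).obj F) V x))) = phi f kP p₀ hP.w F V v x) :
    Function.Bijective ((Scheme.pointSmallEtale η').presheafFiber.map β.hom) := by
  constructor
  · intro c₁ c₂ hc
    refine (stI g η' ((EtDesc.pushSh f).obj F)).injective ?_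
    obtain ⟨V, v, a, b, ha, hb⟩ := (Scheme.pointSmallEtale (η' ≫ g)).toPresheafFiber_jointly_surjective₂
      (P := ((EtDesc.pushSh f).obj F).obj) (stI g η' _ c₁) (stI g η' _ c₂)
    let t := (EtFound.bcFiberEquiv g η' V).symm v
    have hv : EtFound.bcFiberEquiv g η' V t = v := Equiv.apply_symm_apply _ _
    have hr : ∀ (r : St ((EtDesc.pullSh g).obj ((EtDesc.pushSh f).obj F)) η') (x : ToType (((EtDesc.pushSh f).obj F).obj.obj (op V))),
        germ ((EtDesc.pushSh f).obj F) (η' ≫ g) V v x = stI g η' _ r →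
        r = germ ((EtDesc.pullSh g).obj ((EtDesc.pushSh f).obj F)) η' ((EtCoh.bc g).obj V) t
          (up g ((EtDesc.pushSh f).obj F) V x) := fun r x hx => by
      apply (stI g η' ((EtDesc.pushSh f).obj F)).injective
      rw [stI_germ, hv, hx]
    rw [hr c₁ a ha, hr c₂ b hb] at hc
    rw [germ_natural, germ_natural] at hc
    refine ha.symm.trans (Eq.trans ?_ hb)
    refine germ_eq_of_phi_eq f kP p₀ hP F V v a b ?_
    rw [← key V v a, ← key V v b]
    exact congrArg T (phi_eq_of_germ_eq f' p₀ k₀ hP'.w G _ t _ _ hc)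
  · intro c
    obtain ⟨U, u, y, rfl⟩ := germ_surjective ((EtDesc.pushSh f').obj G) η' c
    obtain ⟨V, v, x, hx⟩ := exists_phi_eq f kP p₀ hP F (T (phi f' k₀ p₀ hP'.w G U u y))
    let t := (EtFound.bcFiberEquiv g η' V).symm v
    refine ⟨germ ((EtDesc.pullSh g).obj ((EtDesc.pushSh f).obj F)) η' ((EtCoh.bc g).obj V) t
      (up g ((EtDesc.pushSh f).obj F) V x), ?_⟩
    rw [germ_natural]
    let Φ := Scheme.pointSmallEtale η'
    obtain ⟨⟨W, ww⟩, ⟨α, hα⟩, ⟨γ, hγ⟩, -⟩ := IsCofilteredOrEmpty.cone_objs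
      (Φ.fiber.elementsMk _ t) (Φ.fiber.elementsMk U u)
    obtain ⟨α', hα'⟩ : ∃ α' : W ⟶ (EtCoh.bc g).obj V, Φ.fiber.map α' ww = t := ⟨α, hα⟩
    obtain ⟨γ', hγ'⟩ : ∃ γ' : W ⟶ U, Φ.fiber.map γ' ww = u := ⟨γ, hγ⟩
    rw [← hα', ← hγ', ← germ_map, ← germ_map]
    refine germ_eq_of_phi_eq f' k₀ p₀ hP' G W ww _ _ (T.injective ?_)
    refine ((congrArg T (phi_map f' k₀ p₀ hP'.w G α' ww _)).trans ?_).trans (congrArg T (phi_map f' k₀ p₀ hP'.w G γ' ww y)).symm
    rw [hα', hγ']
    exact (key V v x).trans hx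

/-- Proper base change in degree zero on stalks. -/
theorem bijective_baseChange_stalk [IsProper f] (h : IsPullback g' f' f g) (F : EtDesc.Sh X)
    (η' : Spec (CommRingCat.of Ω) ⟶ S') :
    Function.Bijective ((Scheme.pointSmallEtale η').presheafFiber.map (EtBC.baseChange0Sh f g f' g' h.w F).hom) := by
  haveI : IsProper f' := MorphismProperty.of_isPullback (P := @IsProper) h ‹IsProper f›
  have hP' : IsPullback (pullback.fst f' η') (pullback.snd f' η') f' η' := IsPullback.of_hasPullback f' η'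
  refine bijective_stalk_of_phi f g f' (pullback.fst f' η' ≫ g') hP' (hP'.paste_horiz h) F _ _
    (((sheafToPresheaf _ _).mapIso (EtDesc.pullVia (pullback.fst f' η') g' (pullback.fst f' η' ≫ g') rfl F)).app
      (op (EtCoh.top _))).toEquiv fun V v x => ?_
  rw [baseChange0Sh_up f g f' g' h.w F V x]
  exact phi_baseChange f g f' g' (pullback.fst f' η') (pullback.snd f' η') (pullback.fst f' η' ≫ g') h.w hP'.w rfl
    (hP'.paste_horiz h).w F V v x

/-- Proper base change in degree zero for sheaves of sets. -/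
theorem isIso_baseChange0Sh [IsProper f] (h : IsPullback g' f' f g) (F : EtDesc.Sh X) :
    IsIso (EtBC.baseChange0Sh f g f' g' h.w F) :=
  EtFound.isIso_of_stalks _ fun _ _ _ η' => bijective_baseChange_stalk f g f' g' h F η'

end Groth.Agent.EtPBC0
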