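import Groth.Agent.EtPBC0.IntClComm
import Groth.Agent.Hensel.TensorStrict
import Groth.Agent.Hensel.IntegralStrict

/-!
# Connected geometric fibres from integral closures

If `RS → RX` is a flat local map, `RS` henselian with separably closed residue field, and the formation
of the integral closure of `RS` in `K` commutes with `RS → RX`, then `RX ⊗ K` has no idempotents.
-/

set_option autoImplicit false
set_option linter.style.haveILetI false

universe u

open CategoryTheory CategoryTheory.Limits AlgebraicGeometry IsLocalRing
open scoped TensorProduct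

namespace Groth.Agent.EtPBC0

set_option backward.isDefEq.respectTransparency false
set_option backward.isDefEq.respectTransparency.types false

theorem connectedSpace_of_idem (T : Type u) [CommRing T] [Nontrivial T]
    (h : ∀ e : T, IsIdempotentElem e → e = 0 ∨ e = 1) : ConnectedSpace (PrimeSpectrum T) := by
  rw [connectedSpace_iff_clopen]
  refine ⟨inferInstance, fun s hs => ?_⟩
  obtain ⟨e, he, rfl⟩ := PrimeSpectrum.isClopen_iff.mp hs
  rcases h e he with rfl | rfl
  · left
    simp
  · right
    simp

variable (RS RX : Type u) [CommRing RS] [HenselianLocalRing RS] [IsSepClosed (ResidueField RS)]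
  [CommRing RX] [IsLocalRing RX] [Algebra RS RX] [IsLocalHom (algebraMap RS RX)] [Module.Flat RS RX]

theorem isLocalRing_tensor_integralClosure (K : Type u) [Field K] [Algebra RS K] :
    IsLocalRing (integralClosure RS K ⊗[RS] RX) := by
  haveI : Algebra.IsIntegral RS (integralClosure RS K) := inferInstance
  haveI : IsLocalRing (integralClosure RS K) := Hensel.isLocalRing_of_isIntegral_domain RS _
  haveI : IsLocalHom (algebraMap RS (integralClosure RS K)) := Hensel.isLocalHom_of_isIntegral_local RS _
  haveI : IsPurelyInseparable (ResidueField RS) (ResidueField (integralClosure RS K)) := by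
    convert (Hensel.residueField_of_isIntegral RS (integralClosure RS K)).2 using 1
    exact Algebra.algebra_ext _ _ fun r => by
      obtain ⟨r, rfl⟩ := residue_surjective r
      rfl
  exact Hensel.isLocalRing_tensor RS (integralClosure RS K) RX

theorem idem_tensor_eq_zero_or_one (K : Type u) [Field K] [Algebra RS K]
    (hIC : Function.Surjective (TensorProduct.toIntegralClosure RS RX K)) (e : RX ⊗[RS] K)
    (he : IsIdempotentElem e) : e = 0 ∨ e = 1 := by
  have hint : e ∈ integralClosure RX (RX ⊗[RS] K) :=
    ⟨Polynomial.X ^ 2 - Polynomial.X, by monicity!, by simp [Polynomial.eval₂_sub, sq, he.eq]⟩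
  obtain ⟨w, hw⟩ := hIC ⟨e, hint⟩
  have hinj : Function.Injective (TensorProduct.toIntegralClosure RS RX K) :=
    TensorProduct.toIntegralClosure_injective_of_flat
  have hw₂ : w * w = w := hinj (by
    rw [map_mul, hw]
    exact Subtype.ext he.eq)
  haveI := isLocalRing_tensor_integralClosure RS RX K
  haveI : IsLocalRing (RX ⊗[RS] integralClosure RS K) :=
    (Algebra.TensorProduct.comm RS (integralClosure RS K) RX).toRingEquiv.isLocalRing
  have hw' : w = 0 ∨ w = 1 := by
    rcases IsLocalRing.isUnit_or_isUnit_one_sub_self w with h | h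
    · exact Or.inr (h.mul_left_cancel (hw₂.trans (mul_one w).symm))
    · exact Or.inl (h.mul_right_eq_zero.1 (by rw [sub_mul, one_mul, hw₂, sub_self]))
  rcases hw' with rfl | rfl
  · exact Or.inl ((congrArg Subtype.val hw).symm.trans (congrArg Subtype.val (map_zero _)))
  · exact Or.inr ((congrArg Subtype.val hw).symm.trans (congrArg Subtype.val (map_one _)))

theorem connectedSpace_tensor_field (K : Type u) [Field K] [Algebra RS K]
    (hIC : Function.Surjective (TensorProduct.toIntegralClosure RS RX K)) :
    ConnectedSpace (PrimeSpectrum (RX ⊗[RS] K)) := by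
  haveI : Module.FaithfullyFlat RS RX := Module.FaithfullyFlat.of_flat_of_isLocalHom
  haveI : Nontrivial (RX ⊗[RS] K) := inferInstance
  exact connectedSpace_of_idem _ (idem_tensor_eq_zero_or_one RS RX K hIC)

omit [Algebra RS RX] [IsLocalHom (algebraMap RS RX)] [Module.Flat RS RX] in
/-- The geometric fibres are connected. -/
theorem connectedSpace_pullback_of_intClosure (ψ : RS →+* RX) [IsLocalHom ψ] (hψ : ψ.Flat)
    (h : letI := ψ.toAlgebra
      ∀ (K : Type u) [Field K] [IsAlgClosed K] [Algebra RS K],
        Function.Surjective (TensorProduct.toIntegralClosure RS RX K))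
    (Ω : Type u) [Field Ω] [IsAlgClosed Ω] (η : Spec (CommRingCat.of Ω) ⟶ Spec (CommRingCat.of RS)) :
    ConnectedSpace ↥(pullback (Spec.map (CommRingCat.ofHom ψ)) η) := by
  letI := ψ.toAlgebra
  haveI : Module.Flat RS RX := hψ
  haveI : IsLocalHom (algebraMap RS RX) := ‹IsLocalHom ψ›
  letI : Algebra RS Ω := (Spec.preimage η).hom.toAlgebra
  haveI := connectedSpace_tensor_field RS RX Ω (h Ω)
  have hη : η = Spec.map (CommRingCat.ofHom (algebraMap RS Ω)) := (Spec.map_preimage η).symm
  rw [hη]
  exact (pullbackSpecIso RS RX Ω).hom.homeomorph.connectedSpace_iff.2 ‹_›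

end Groth.Agent.EtPBC0
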