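import Groth.Agent.EtPBC0.StrictConn
import Groth.Agent.EtPBC0.StrictIdem
import Groth.Agent.WLocalLib.WEtale

/-!
# Connectedness of strict fibres from affine charts
-/

set_option autoImplicit false
set_option linter.style.haveILetI false

universe u

open CategoryTheory CategoryTheory.Limits AlgebraicGeometry TopologicalSpace Opposite IsLocalRing
open scoped TensorProduct

namespace Groth.Agent.EtPBC0

set_option backward.isDefEq.respectTransparency false
set_option backward.isDefEq.respectTransparency.types false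

attribute [local instance] Algebra.TensorProduct.rightAlgebra

/-- For an algebra `C/R` and weakly etale `R → RS`, `C → RX`, integral closure in `K` commutes with
`RS → RX` as soon as it commutes with `RS → C ⊗ RS`. -/
theorem toIntegralClosure_surjective_chart (R C RS RX : Type u) [CommRing R] [CommRing C] [CommRing RS]
    [CommRing RX] [Algebra R C] [Algebra R RS] [Algebra R RX] [Algebra C RX] [Algebra RS RX]
    [IsScalarTower R C RX] [IsScalarTower R RS RX] [Module.Flat R C]
    [Algebra.WeaklyEtale R RS] [Algebra.WeaklyEtale C RX] (K : Type u) [CommRing K] [Algebra RS K]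
    (H : Function.Surjective (TensorProduct.toIntegralClosure RS (C ⊗[R] RS) K)) :
    Function.Surjective (TensorProduct.toIntegralClosure RS RX K) := by
  let π : C ⊗[R] RS →ₐ[R] RX :=
    Algebra.TensorProduct.lift (IsScalarTower.toAlgHom R C RX) (IsScalarTower.toAlgHom R RS RX)
      fun _ _ => Commute.all _ _
  letI : Algebra (C ⊗[R] RS) RX := π.toRingHom.toAlgebra
  haveI : IsScalarTower C (C ⊗[R] RS) RX := IsScalarTower.of_algebraMap_eq fun c => by
    show algebraMap C RX c = π (c ⊗ₜ 1)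
    rw [Algebra.TensorProduct.lift_tmul, map_one, mul_one]
    rfl
  haveI : IsScalarTower RS (C ⊗[R] RS) RX := IsScalarTower.of_algebraMap_eq fun c => by
    show algebraMap RS RX c = π (1 ⊗ₜ c)
    rw [Algebra.TensorProduct.lift_tmul, map_one, one_mul]
    rfl
  haveI : Algebra.WeaklyEtale (C ⊗[R] RS) RX := WEtLib.cancel (A := C) (B := C ⊗[R] RS) RX
  haveI : Module.Flat RS (C ⊗[R] RS) :=
    Module.Flat.of_linearEquiv (Algebra.TensorProduct.commRight R RS C).symm.toLinearEquiv
  exact (TensorProduct.toIntegralClosure_bijective_of_tower ⟨TensorProduct.toIntegralClosure_injective_of_flat, H⟩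
    (toIntegralClosure_bijective_of_weaklyEtale (C ⊗[R] RS) RX ((C ⊗[R] RS) ⊗[RS] K))).2

/-- Strict fibres are connected as soon as affine charts satisfy the integral closure condition. -/
theorem strictConn_of_charts {X S : Scheme.{u}} (f : X ⟶ S) [Flat f]
    (H : ∀ x : X, ∃ (U : S.Opens) (V : X.Opens) (e : V ≤ f ⁻¹ᵁ U), x ∈ V ∧ IsAffineOpen U ∧ IsAffineOpen V ∧
      letI := (f.appLE U V e).hom.toAlgebra
      ∀ (RS : Type u) [CommRing RS] [HenselianLocalRing RS] [IsSepClosed (ResidueField RS)] [Algebra Γ(S, U) RS]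
        [Algebra.WeaklyEtale Γ(S, U) RS] (K : Type u) [Field K] [IsAlgClosed K] [Algebra RS K],
        Function.Surjective (TensorProduct.toIntegralClosure RS (Γ(X, V) ⊗[Γ(S, U)] RS) K)) :
    StrictConn f := by
  intro x RS _ _ _ _ _ RX _ _ _ _ _ ψ _ hψ Ω _ _ η
  haveI : HenselianLocalRing RS := Hensel.IsStrictHenselization.henselian (R := S.presheaf.stalk (f.base x))
  haveI : IsSepClosed (ResidueField RS) :=
    (Hensel.IsStrictHenselization.isSepClosure (R := S.presheaf.stalk (f.base x)) (S := RS)).sep_closed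
  refine connectedSpace_pullback_of_intClosure RS RX ψ
    (flat_strictHenz_hom (f.stalkMap x).hom (Flat.stalkMap f x) ψ hψ) ?_ Ω η
  obtain ⟨U, V, hVU, hxV, hU, hV, hIC⟩ := H x
  have hxU : f.base x ∈ U := hVU hxV
  letI := (f.appLE U V hVU).hom.toAlgebra
  haveI : Module.Flat Γ(S, U) Γ(X, V) :=
    HasRingHomProperty.appLE (P := @Flat) f ‹_› ⟨U, hU⟩ ⟨V, hV⟩ hVU
  letI := TopCat.Presheaf.algebra_section_stalk S.presheaf ⟨f.base x, hxU⟩
  haveI := hU.isLocalization_stalk ⟨f.base x, hxU⟩
  letI := TopCat.Presheaf.algebra_section_stalk X.presheaf ⟨x, hxV⟩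
  haveI := hV.isLocalization_stalk ⟨x, hxV⟩
  haveI : Algebra.WeaklyEtale (S.presheaf.stalk (f.base x)) RS := H1EssEt.weaklyEtale
  haveI : Algebra.WeaklyEtale (X.presheaf.stalk x) RX := H1EssEt.weaklyEtale
  letI : Algebra Γ(S, U) RS :=
    ((algebraMap (S.presheaf.stalk (f.base x)) RS).comp (algebraMap Γ(S, U) (S.presheaf.stalk (f.base x)))).toAlgebra
  letI : Algebra Γ(X, V) RX :=
    ((algebraMap (X.presheaf.stalk x) RX).comp (algebraMap Γ(X, V) (X.presheaf.stalk x))).toAlgebra
  haveI : IsScalarTower Γ(S, U) (S.presheaf.stalk (f.base x)) RS := IsScalarTower.of_algebraMap_eq fun _ => rfl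
  haveI : IsScalarTower Γ(X, V) (X.presheaf.stalk x) RX := IsScalarTower.of_algebraMap_eq fun _ => rfl
  haveI := Groth.Agent.WLocalLib.weaklyEtale_localization
    (hU.primeIdealOf ⟨f.base x, hxU⟩).asIdeal.primeCompl (S.presheaf.stalk (f.base x))
  haveI := Groth.Agent.WLocalLib.weaklyEtale_localization
    (hV.primeIdealOf ⟨x, hxV⟩).asIdeal.primeCompl (X.presheaf.stalk x)
  haveI : Algebra.WeaklyEtale Γ(S, U) RS :=
    Algebra.WeaklyEtale.trans Γ(S, U) (S.presheaf.stalk (f.base x)) RS
  haveI : Algebra.WeaklyEtale Γ(X, V) RX := Algebra.WeaklyEtale.trans Γ(X, V) (X.presheaf.stalk x) RX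
  intro K _ _ _
  letI := ψ.toAlgebra
  letI : Algebra Γ(S, U) RX := ((algebraMap Γ(X, V) RX).comp (algebraMap Γ(S, U) Γ(X, V))).toAlgebra
  haveI : IsScalarTower Γ(S, U) Γ(X, V) RX := IsScalarTower.of_algebraMap_eq fun _ => rfl
  haveI : IsScalarTower Γ(S, U) RS RX := IsScalarTower.of_algebraMap_eq fun a => by
    show (algebraMap (X.presheaf.stalk x) RX) ((X.presheaf.germ V x hxV).hom ((f.appLE U V hVU).hom a)) =
      ψ ((algebraMap (S.presheaf.stalk (f.base x)) RS) ((S.presheaf.germ U (f.base x) hxU).hom a))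
    rw [← RingHom.comp_apply ψ, hψ, RingHom.comp_apply]
    congr 1
    rw [Scheme.Hom.appLE, CommRingCat.hom_comp, RingHom.comp_apply, TopCat.Presheaf.germ_res_apply]
    exact (Scheme.Hom.germ_stalkMap_apply f U x hxU a).symm
  exact toIntegralClosure_surjective_chart Γ(S, U) Γ(X, V) RS RX K (hIC RS K)

/-- Smooth morphisms have connected strict fibres. -/
theorem strictConn_of_smooth {X S : Scheme.{u}} (f : X ⟶ S) [Smooth f] : StrictConn f := by
  refine strictConn_of_charts f fun x => ?_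
  obtain ⟨U, hU, hxU, -⟩ := exists_isAffineOpen_mem_and_subset (U := (⊤ : S.Opens)) (x := f.base x) trivial
  obtain ⟨V, hV, hxV, hVU⟩ := exists_isAffineOpen_mem_and_subset (U := f ⁻¹ᵁ U) (x := x) hxU
  refine ⟨U, V, hVU, hxV, hU, hV, ?_⟩
  letI := (f.appLE U V hVU).hom.toAlgebra
  haveI : Algebra.Smooth Γ(S, U) Γ(X, V) :=
    HasRingHomProperty.appLE (P := @Smooth) f ‹_› ⟨U, hU⟩ ⟨V, hV⟩ hVU
  intro RS _ _ _ _ _ K _ _ _
  haveI : Algebra.Smooth RS (Γ(X, V) ⊗[Γ(S, U)] RS) :=
    Algebra.Smooth.of_equiv (Algebra.TensorProduct.commRight Γ(S, U) RS Γ(X, V))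
  exact TensorProduct.toIntegralClosure_bijective_of_smooth.2

end Groth.Agent.EtPBC0
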