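import Groth.Agent.EtPBC0.Radical
import Groth.Agent.EtPBC0.StrictChart

/-!
# Morphisms to discrete schemes are universally locally 0-acyclic
-/

set_option autoImplicit false
set_option linter.style.haveILetI false

universe u

open CategoryTheory CategoryTheory.Limits AlgebraicGeometry TopologicalSpace Opposite IsLocalRing
open scoped TensorProduct

namespace Groth.Agent.EtPBC0

set_option backward.isDefEq.respectTransparency false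
set_option backward.isDefEq.respectTransparency.types false

/-- Sections over affine opens of a cartesian square form a pushout of rings. -/
theorem isPushout_appLE_of_opens {P X T S : Scheme.{u}} {g : P ⟶ X} {iY : P ⟶ T} {iX : X ⟶ S} {f : T ⟶ S}
    (H : IsPullback g iY iX f) {US : S.Opens} (hS : IsAffineOpen US) {UT : T.Opens} (hT : IsAffineOpen UT)
    {UX : X.Opens} (hX : IsAffineOpen UX) (eT : UT ≤ f ⁻¹ᵁ US) (eX : UX ≤ iX ⁻¹ᵁ US) :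
    IsAffineOpen (g ⁻¹ᵁ UX ⊓ iY ⁻¹ᵁ UT) ∧
    IsPushout (iX.appLE US UX eX) (f.appLE US UT eT) (g.appLE UX (g ⁻¹ᵁ UX ⊓ iY ⁻¹ᵁ UT) inf_le_left)
      (iY.appLE UT (g ⁻¹ᵁ UX ⊓ iY ⁻¹ᵁ UT) inf_le_right) := by
  have h := Scheme.Hom.isPullback_resLE H eT eX (UY := g ⁻¹ᵁ UX ⊓ iY ⁻¹ᵁ UT) rfl
  haveI : IsAffine US.toScheme := hS
  haveI : IsAffine UT.toScheme := hT
  haveI : IsAffine UX.toScheme := hX
  haveI : IsAffineHom (f.resLE US UT eT) := isAffineHom_of_isAffine _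
  refine ⟨IsAffine.of_isPullback h, ?_⟩
  refine (isPushout_appTop_of_isPullback h).of_iso US.topIso UX.topIso UT.topIso
    (Scheme.Opens.topIso (g ⁻¹ᵁ UX ⊓ iY ⁻¹ᵁ UT)) ?_ ?_ ?_ ?_ <;>
  · simp [Scheme.Hom.appTop, Scheme.Opens.topIso_hom, eqToHom_op, Scheme.Hom.resLE_app_top]

theorem weaklyEtale_of_bijective {A B : Type u} [CommRing A] [CommRing B] [Algebra A B]
    (h : Function.Bijective (algebraMap A B)) : Algebra.WeaklyEtale A B := by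
  haveI : Algebra.Etale A B := Algebra.Etale.of_equiv (AlgEquiv.ofBijective (Algebra.ofId A B) h)
  infer_instance

/-- A weakly etale algebra over the base change `R ⊗ C`, seen over `RS ⊗ C`. -/
theorem exists_algebra_tensor (O C R RS RX : Type u) [CommRing O] [CommRing C] [CommRing R] [CommRing RS] [CommRing RX]
    [Algebra O C] [Algebra O R] [Algebra R RS] [Algebra O RS] [IsScalarTower O R RS] [Algebra.WeaklyEtale R RS]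
    [Algebra RS RX] [Algebra (R ⊗[O] C) RX] [Algebra.WeaklyEtale (R ⊗[O] C) RX]
    (h : ∀ a : R, algebraMap (R ⊗[O] C) RX (a ⊗ₜ 1) = algebraMap RS RX (algebraMap R RS a)) :
    ∃ _ : Algebra (RS ⊗[O] C) RX, IsScalarTower RS (RS ⊗[O] C) RX ∧ Algebra.WeaklyEtale (RS ⊗[O] C) RX := by
  letI : Algebra R RX := ((algebraMap RS RX).comp (algebraMap R RS)).toAlgebra
  haveI : IsScalarTower R RS RX := IsScalarTower.of_algebraMap_eq fun _ => rfl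
  haveI : IsScalarTower R (R ⊗[O] C) RX := IsScalarTower.of_algebraMap_eq fun a => (h a).symm
  let π : (R ⊗[O] C) ⊗[R] RS →ₐ[R] RX :=
    Algebra.TensorProduct.lift (IsScalarTower.toAlgHom R (R ⊗[O] C) RX) (IsScalarTower.toAlgHom R RS RX)
      fun _ _ => Commute.all _ _
  letI : Algebra ((R ⊗[O] C) ⊗[R] RS) RX := π.toRingHom.toAlgebra
  haveI : IsScalarTower (R ⊗[O] C) ((R ⊗[O] C) ⊗[R] RS) RX := IsScalarTower.of_algebraMap_eq fun c => by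
    show algebraMap (R ⊗[O] C) RX c = π (c ⊗ₜ 1)
    rw [Algebra.TensorProduct.lift_tmul, map_one, mul_one]
    rfl
  haveI : Algebra.WeaklyEtale ((R ⊗[O] C) ⊗[R] RS) RX :=
    WEtLib.cancel (A := R ⊗[O] C) (B := (R ⊗[O] C) ⊗[R] RS) RX
  let e : RS ⊗[O] C ≃+* (R ⊗[O] C) ⊗[R] RS :=
    ((Algebra.TensorProduct.cancelBaseChange O R RS RS C).symm.toRingEquiv).trans
      (Algebra.TensorProduct.comm R RS (R ⊗[O] C)).toRingEquiv
  have he : ∀ r : RS, e (r ⊗ₜ 1) = (1 : R ⊗[O] C) ⊗ₜ r := fun r => by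
    simp [e, Algebra.TensorProduct.one_def]
  letI : Algebra (RS ⊗[O] C) ((R ⊗[O] C) ⊗[R] RS) := e.toRingHom.toAlgebra
  haveI : Algebra.WeaklyEtale (RS ⊗[O] C) ((R ⊗[O] C) ⊗[R] RS) := weaklyEtale_of_bijective e.bijective
  letI : Algebra (RS ⊗[O] C) RX := (π.toRingHom.comp e.toRingHom).toAlgebra
  haveI : IsScalarTower (RS ⊗[O] C) ((R ⊗[O] C) ⊗[R] RS) RX := IsScalarTower.of_algebraMap_eq fun _ => rfl
  refine ⟨inferInstance, IsScalarTower.of_algebraMap_eq fun r => ?_,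
    Algebra.WeaklyEtale.trans (RS ⊗[O] C) ((R ⊗[O] C) ⊗[R] RS) RX⟩
  show algebraMap RS RX r = π (e (r ⊗ₜ 1))
  rw [he, Algebra.TensorProduct.lift_tmul, map_one, one_mul]
  rfl

theorem isLocZeroAcyclic_bc_of_discrete {X Y X₁ Y₁ : Scheme.{u}} [DiscreteTopology Y] {g : X ⟶ Y} (g₁ : X₁ ⟶ Y₁)
    (b' : X₁ ⟶ X) (b : Y₁ ⟶ Y) (hsq : IsPullback b' g₁ g b) : EtAcyc.IsLocZeroAcyclic g₁ := by
  intro x RY RX _ _ _ _ _ _ _ _ _ _ _ _ hψ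
  haveI : HenselianLocalRing RY := Hensel.IsStrictHenselization.henselian (R := Y₁.presheaf.stalk (g₁.base x))
  haveI : IsSepClosed (ResidueField RY) :=
    (Hensel.IsStrictHenselization.isSepClosure (R := Y₁.presheaf.stalk (g₁.base x)) (S := RY)).sep_closed
  obtain ⟨U₀, hU₀, hyU₀, hU₀y⟩ := exists_isAffineOpen_mem_and_subset (X := Y)
    (U := ⟨{b.base (g₁.base x)}, isOpen_discrete _⟩) (x := b.base (g₁.base x)) rfl
  obtain ⟨U, hU, hxU, eU⟩ := exists_isAffineOpen_mem_and_subset (U := b ⁻¹ᵁ U₀) (x := g₁.base x) hyU₀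
  have hxX : g (b' x) ∈ U₀ := by
    rw [← Scheme.Hom.comp_apply, hsq.w, Scheme.Hom.comp_apply]
    exact hyU₀
  obtain ⟨V, hV, hxV, eV⟩ := exists_isAffineOpen_mem_and_subset (U := g ⁻¹ᵁ U₀) (x := b'.base x) hxX
  obtain ⟨hW, hpo⟩ := isPushout_appLE_of_opens hsq hU₀ hU hV eU eV
  have hxW : x ∈ b' ⁻¹ᵁ V ⊓ g₁ ⁻¹ᵁ U := ⟨hxV, hxU⟩
  haveI : Subsingleton (PrimeSpectrum Γ(Y, U₀)) := ⟨fun p q => by
    have hr : ∀ p : Spec Γ(Y, U₀), hU₀.fromSpec p = b.base (g₁.base x) := fun p => by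
      have : hU₀.fromSpec p ∈ Set.range hU₀.fromSpec := ⟨p, rfl⟩
      rw [hU₀.range_fromSpec] at this
      exact hU₀y this
    exact hU₀.fromSpec.isOpenEmbedding.injective ((hr p).trans (hr q).symm)⟩
  haveI : Nontrivial Γ(Y, U₀) :=
    PrimeSpectrum.nontrivial (hU₀.primeIdealOf ⟨b.base (g₁.base x), hyU₀⟩)
  obtain ⟨M, hM⟩ := Ideal.exists_maximal Γ(Y, U₀)
  letI := (b.appLE U₀ U eU).hom.toAlgebra
  letI := (g.appLE U₀ V eV).hom.toAlgebra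
  letI := TopCat.Presheaf.algebra_section_stalk Y₁.presheaf ⟨g₁.base x, hxU⟩
  haveI := hU.isLocalization_stalk ⟨g₁.base x, hxU⟩
  letI := TopCat.Presheaf.algebra_section_stalk X₁.presheaf ⟨x, hxW⟩
  haveI := hW.isLocalization_stalk ⟨x, hxW⟩
  haveI : Algebra.WeaklyEtale (Y₁.presheaf.stalk (g₁.base x)) RY := H1EssEt.weaklyEtale
  haveI : Algebra.WeaklyEtale (X₁.presheaf.stalk x) RX := H1EssEt.weaklyEtale
  haveI := Groth.Agent.WLocalLib.weaklyEtale_localization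
    (hU.primeIdealOf ⟨g₁.base x, hxU⟩).asIdeal.primeCompl (Y₁.presheaf.stalk (g₁.base x))
  haveI := Groth.Agent.WLocalLib.weaklyEtale_localization
    (hW.primeIdealOf ⟨x, hxW⟩).asIdeal.primeCompl (X₁.presheaf.stalk x)
  letI : Algebra Γ(Y₁, U) RY :=
    ((algebraMap (Y₁.presheaf.stalk (g₁.base x)) RY).comp (algebraMap Γ(Y₁, U) (Y₁.presheaf.stalk (g₁.base x)))).toAlgebra
  haveI : IsScalarTower Γ(Y₁, U) (Y₁.presheaf.stalk (g₁.base x)) RY := IsScalarTower.of_algebraMap_eq fun _ => rfl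
  haveI : Algebra.WeaklyEtale Γ(Y₁, U) RY :=
    Algebra.WeaklyEtale.trans Γ(Y₁, U) (Y₁.presheaf.stalk (g₁.base x)) RY
  letI : Algebra Γ(X₁, b' ⁻¹ᵁ V ⊓ g₁ ⁻¹ᵁ U) RX :=
    ((algebraMap (X₁.presheaf.stalk x) RX).comp
      (algebraMap Γ(X₁, b' ⁻¹ᵁ V ⊓ g₁ ⁻¹ᵁ U) (X₁.presheaf.stalk x))).toAlgebra
  haveI : IsScalarTower Γ(X₁, b' ⁻¹ᵁ V ⊓ g₁ ⁻¹ᵁ U) (X₁.presheaf.stalk x) RX :=
    IsScalarTower.of_algebraMap_eq fun _ => rfl
  haveI : Algebra.WeaklyEtale Γ(X₁, b' ⁻¹ᵁ V ⊓ g₁ ⁻¹ᵁ U) RX :=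
    Algebra.WeaklyEtale.trans Γ(X₁, b' ⁻¹ᵁ V ⊓ g₁ ⁻¹ᵁ U) (X₁.presheaf.stalk x) RX
  letI : Algebra Γ(Y, U₀) RY := ((algebraMap Γ(Y₁, U) RY).comp (algebraMap Γ(Y, U₀) Γ(Y₁, U))).toAlgebra
  haveI : IsScalarTower Γ(Y, U₀) Γ(Y₁, U) RY := IsScalarTower.of_algebraMap_eq fun _ => rfl
  -- sections over the product
  letI : Algebra Γ(Y, U₀) Γ(X₁, b' ⁻¹ᵁ V ⊓ g₁ ⁻¹ᵁ U) :=
    ((g₁.appLE U (b' ⁻¹ᵁ V ⊓ g₁ ⁻¹ᵁ U) inf_le_right).hom.comp (algebraMap Γ(Y, U₀) Γ(Y₁, U))).toAlgebra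
  let φ : Γ(Y₁, U) ⊗[Γ(Y, U₀)] Γ(X, V) →ₐ[Γ(Y, U₀)] Γ(X₁, b' ⁻¹ᵁ V ⊓ g₁ ⁻¹ᵁ U) :=
    Algebra.TensorProduct.lift
      { (g₁.appLE U (b' ⁻¹ᵁ V ⊓ g₁ ⁻¹ᵁ U) inf_le_right).hom with commutes' := fun _ => rfl }
      { (b'.appLE V (b' ⁻¹ᵁ V ⊓ g₁ ⁻¹ᵁ U) inf_le_left).hom with
        commutes' := fun a => ConcreteCategory.congr_hom hpo.w a }
      fun _ _ => Commute.all _ _
  have hφ : Function.Bijective φ := by
    have hpo' : IsPushout (CommRingCat.ofHom (algebraMap Γ(Y, U₀) Γ(Y₁, U)))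
        (CommRingCat.ofHom (algebraMap Γ(Y, U₀) Γ(X, V)))
        (CommRingCat.ofHom (Algebra.TensorProduct.includeLeftRingHom (R := Γ(Y, U₀)) (A := Γ(Y₁, U)) (B := Γ(X, V))))
        (CommRingCat.ofHom (Algebra.TensorProduct.includeRight
          (R := Γ(Y, U₀)) (A := Γ(Y₁, U)) (B := Γ(X, V))).toRingHom) :=
      ⟨⟨(CommRingCat.pushoutCocone Γ(Y, U₀) Γ(Y₁, U) Γ(X, V)).condition⟩,
        ⟨CommRingCat.pushoutCoconeIsColimit Γ(Y, U₀) Γ(Y₁, U) Γ(X, V)⟩⟩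
    let i := hpo'.isoIsPushout _ _ hpo.flip
    have e : (i.hom : _ ⟶ _) = CommRingCat.ofHom φ.toRingHom := by
      refine hpo'.hom_ext ?_ ?_
      · rw [IsPushout.inl_isoIsPushout_hom]
        refine CommRingCat.hom_ext (RingHom.ext fun a => ?_)
        show _ = φ (a ⊗ₜ 1)
        rw [Algebra.TensorProduct.lift_tmul, map_one, mul_one]
        rfl
      · rw [IsPushout.inr_isoIsPushout_hom]
        refine CommRingCat.hom_ext (RingHom.ext fun a => ?_)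
        show _ = φ (1 ⊗ₜ a)
        rw [Algebra.TensorProduct.lift_tmul, map_one, one_mul]
        rfl
    have := i.commRingCatIsoToRingEquiv.bijective
    convert this using 1
    exact funext fun a => (ConcreteCategory.congr_hom e a).symm
  letI : Algebra (Γ(Y₁, U) ⊗[Γ(Y, U₀)] Γ(X, V)) Γ(X₁, b' ⁻¹ᵁ V ⊓ g₁ ⁻¹ᵁ U) := φ.toRingHom.toAlgebra
  letI : Algebra (Γ(Y₁, U) ⊗[Γ(Y, U₀)] Γ(X, V)) RX :=
    ((algebraMap Γ(X₁, b' ⁻¹ᵁ V ⊓ g₁ ⁻¹ᵁ U) RX).comp φ.toRingHom).toAlgebra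
  haveI : IsScalarTower (Γ(Y₁, U) ⊗[Γ(Y, U₀)] Γ(X, V)) Γ(X₁, b' ⁻¹ᵁ V ⊓ g₁ ⁻¹ᵁ U) RX :=
    IsScalarTower.of_algebraMap_eq fun _ => rfl
  haveI : Algebra.WeaklyEtale (Γ(Y₁, U) ⊗[Γ(Y, U₀)] Γ(X, V)) Γ(X₁, b' ⁻¹ᵁ V ⊓ g₁ ⁻¹ᵁ U) :=
    weaklyEtale_of_bijective hφ
  haveI : Algebra.WeaklyEtale (Γ(Y₁, U) ⊗[Γ(Y, U₀)] Γ(X, V)) RX :=
    Algebra.WeaklyEtale.trans _ Γ(X₁, b' ⁻¹ᵁ V ⊓ g₁ ⁻¹ᵁ U) RX
  have hcompat : ∀ a : Γ(Y₁, U), algebraMap (Γ(Y₁, U) ⊗[Γ(Y, U₀)] Γ(X, V)) RX (a ⊗ₜ 1) =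
      algebraMap RY RX (algebraMap Γ(Y₁, U) RY a) := fun a => by
    show algebraMap (X₁.presheaf.stalk x) RX ((X₁.presheaf.germ (b' ⁻¹ᵁ V ⊓ g₁ ⁻¹ᵁ U) x hxW).hom (φ (a ⊗ₜ 1))) =
      (algebraMap RY RX).comp (algebraMap (Y₁.presheaf.stalk (g₁.base x)) RY) ((Y₁.presheaf.germ U (g₁.base x) hxU).hom a)
    rw [hψ, RingHom.comp_apply, Algebra.TensorProduct.lift_tmul, map_one, mul_one]
    congr 1
    show (X₁.presheaf.germ _ x hxW).hom ((g₁.appLE U (b' ⁻¹ᵁ V ⊓ g₁ ⁻¹ᵁ U) inf_le_right).hom a) = _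
    rw [Scheme.Hom.appLE, CommRingCat.hom_comp, RingHom.comp_apply, TopCat.Presheaf.germ_res_apply]
    exact (Scheme.Hom.germ_stalkMap_apply g₁ U x hxU a).symm
  obtain ⟨i, hi, hiW⟩ := exists_algebra_tensor Γ(Y, U₀) Γ(X, V) Γ(Y₁, U) RY RX hcompat
  letI := i
  haveI := hi
  haveI := hiW
  haveI := hM
  letI : Field (Γ(Y, U₀) ⧸ M) := Ideal.Quotient.field M
  exact isZeroAcyclic_of_zeroDim Γ(Y, U₀) (Γ(Y, U₀) ⧸ M) Γ(X, V) RY RX Ideal.Quotient.mk_surjective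
    fun a ha => nilpotent_iff_mem_prime.2 fun P hP => by
      have : P = M := congrArg PrimeSpectrum.asIdeal (Subsingleton.elim (α := PrimeSpectrum Γ(Y, U₀)) ⟨P, hP⟩ ⟨M, hM.isPrime⟩)
      rw [this]
      exact Ideal.Quotient.eq_zero_iff_mem.1 ha

end Groth.Agent.EtPBC0
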