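import Groth.Agent.EtPBC0.GeomRedModel

/-!
# Strict fibres of base changes of flat morphisms with geometrically reduced fibres over noetherian bases
-/

set_option autoImplicit false
set_option linter.style.haveILetI false

universe u

open CategoryTheory CategoryTheory.Limits AlgebraicGeometry TopologicalSpace Opposite IsLocalRing
open scoped TensorProduct

namespace Groth.Agent.EtPBC0

set_option backward.isDefEq.respectTransparency false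
set_option backward.isDefEq.respectTransparency.types false

theorem strictConn_baseChange_of_noetherian {X Y X₁ Y₁ : Scheme.{u}} [IsLocallyNoetherian Y] {g : X ⟶ Y}
    [Flat g] [GeometricallyReduced g] (g₁ : X₁ ⟶ Y₁) (b' : X₁ ⟶ X) (b : Y₁ ⟶ Y) (hsq : IsPullback b' g₁ g b) :
    StrictConn g₁ := by
  haveI : Flat g₁ := MorphismProperty.of_isPullback hsq ‹_›
  refine strictConn_of_charts g₁ fun x => ?_
  obtain ⟨U₀, hU₀, hyU₀, -⟩ := exists_isAffineOpen_mem_and_subset (U := (⊤ : Y.Opens)) (x := b.base (g₁.base x)) trivial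
  obtain ⟨U, hU, hxU, eU⟩ := exists_isAffineOpen_mem_and_subset (U := b ⁻¹ᵁ U₀) (x := g₁.base x) hyU₀
  have hxX : g (b' x) ∈ U₀ := by
    rw [← Scheme.Hom.comp_apply, hsq.w, Scheme.Hom.comp_apply]
    exact hyU₀
  obtain ⟨V, hV, hxV, eV⟩ := exists_isAffineOpen_mem_and_subset (U := g ⁻¹ᵁ U₀) (x := b'.base x) hxX
  obtain ⟨hW, hpo⟩ := isPushout_appLE_of_opens hsq hU₀ hU hV eU eV
  refine ⟨U, b' ⁻¹ᵁ V ⊓ g₁ ⁻¹ᵁ U, inf_le_right, ⟨hxV, hxU⟩, hU, hW, ?_⟩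
  haveI : IsNoetherianRing Γ(Y, U₀) := IsLocallyNoetherian.component_noetherian ⟨U₀, hU₀⟩
  letI := (g.appLE U₀ V eV).hom.toAlgebra
  letI := (b.appLE U₀ U eU).hom.toAlgebra
  letI := (g₁.appLE U (b' ⁻¹ᵁ V ⊓ g₁ ⁻¹ᵁ U) inf_le_right).hom.toAlgebra
  letI : Algebra Γ(X, V) Γ(X₁, b' ⁻¹ᵁ V ⊓ g₁ ⁻¹ᵁ U) :=
    (b'.appLE V (b' ⁻¹ᵁ V ⊓ g₁ ⁻¹ᵁ U) inf_le_left).hom.toAlgebra
  letI : Algebra Γ(Y, U₀) Γ(X₁, b' ⁻¹ᵁ V ⊓ g₁ ⁻¹ᵁ U) :=
    (b.appLE U₀ U eU ≫ g₁.appLE U (b' ⁻¹ᵁ V ⊓ g₁ ⁻¹ᵁ U) inf_le_right).hom.toAlgebra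
  haveI : IsScalarTower Γ(Y, U₀) Γ(Y₁, U) Γ(X₁, b' ⁻¹ᵁ V ⊓ g₁ ⁻¹ᵁ U) := IsScalarTower.of_algebraMap_eq fun _ => rfl
  haveI : IsScalarTower Γ(Y, U₀) Γ(X, V) Γ(X₁, b' ⁻¹ᵁ V ⊓ g₁ ⁻¹ᵁ U) :=
    IsScalarTower.of_algebraMap_eq fun a => (ConcreteCategory.congr_hom hpo.w a).symm
  haveI : Algebra.IsPushout Γ(Y, U₀) Γ(Y₁, U) Γ(X, V) Γ(X₁, b' ⁻¹ᵁ V ⊓ g₁ ⁻¹ᵁ U) :=
    CommRingCat.isPushout_iff_isPushout.mp hpo.flip
  haveI : Module.Flat Γ(Y, U₀) Γ(X, V) := HasRingHomProperty.appLE (P := @Flat) g ‹_› ⟨U₀, hU₀⟩ ⟨V, hV⟩ eV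
  have hred : ∀ (F : Type u) [Field F] [Algebra Γ(Y, U₀) F], _root_.IsReduced (F ⊗[Γ(Y, U₀)] Γ(X, V)) := by
    haveI : GeometricallyReduced (g ∣_ U₀) :=
      MorphismProperty.of_isPullback (P := @GeometricallyReduced) (isPullback_morphismRestrict g U₀).flip ‹_›
    haveI : GeometricallyReduced (g.resLE U₀ V eV) := geometricallyReduced_openImmersion_comp (X.homOfLE eV) (g ∣_ U₀)
    haveI : IsAffine U₀.toScheme := hU₀
    haveI : IsAffine V.toScheme := hV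
    exact isReduced_tensor_of_appLE (g.resLE U₀ V eV) U₀.topIso V.topIso (g.appLE U₀ V eV)
      (by simp [Scheme.Hom.resLE_app_top])
  intro RS _ _ _ _ _ K _ _ _
  letI : Algebra Γ(Y, U₀) RS := ((algebraMap Γ(Y₁, U) RS).comp (algebraMap Γ(Y, U₀) Γ(Y₁, U))).toAlgebra
  exact toIntegralClosure_surjective_baseChange Γ(Y, U₀) Γ(Y₁, U) Γ(X, V) Γ(X₁, b' ⁻¹ᵁ V ⊓ g₁ ⁻¹ᵁ U)
    (Algebra.IsPushout.equiv Γ(Y, U₀) Γ(Y₁, U) Γ(X, V) Γ(X₁, b' ⁻¹ᵁ V ⊓ g₁ ⁻¹ᵁ U)) RS K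
    (toIntegralClosure_surjective_of_noetherian Γ(X, V) hred RS K)

/-- Flat morphisms with geometrically reduced fibres to locally noetherian schemes are universally
locally 0-acyclic. -/
theorem isULocZeroAcyclic_of_noetherian {X Y : Scheme.{u}} [IsLocallyNoetherian Y] (g : X ⟶ Y) [Flat g]
    [GeometricallyReduced g] : EtAcyc.IsULocZeroAcyclic g :=
  isULocZeroAcyclic_of_forall g fun _ _ g₁ b' b hsq =>
    haveI : Flat g₁ := MorphismProperty.of_isPullback hsq ‹_›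
    ⟨inferInstance, strictConn_baseChange_of_noetherian g₁ b' b hsq⟩

end Groth.Agent.EtPBC0
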