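import Groth.Agent.EtPBC0.UnivStrictConn
import Groth.Agent.EtPBC0.Discrete

/-!
# Base change along universally locally 0-acyclic morphisms
-/

set_option autoImplicit false
set_option linter.style.haveILetI false

universe u

open CategoryTheory CategoryTheory.Limits AlgebraicGeometry Opposite TopologicalSpace IsLocalRing
open scoped TensorProduct

namespace Groth.Agent.EtPBC0

set_option backward.isDefEq.respectTransparency false
set_option backward.isDefEq.respectTransparency.types false

theorem isClosed_of_stableUnderSpecialization_affine {X : Scheme.{u}} {R : CommRingCat.{u}} (f : X ⟶ Spec R)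
    [QuasiCompact f] [Surjective f] (s : Set (Spec R)) (hs : IsClosed (f ⁻¹' s)) (hst : StableUnderSpecialization s) :
    IsClosed s := by
  obtain ⟨A, g, hg⟩ := compactSpace_iff_exists.mp (QuasiCompact.compactSpace_of_compactSpace f)
  obtain ⟨φ, hφ⟩ := Spec.map_surjective (g ≫ f)
  have hsurj : Function.Surjective (PrimeSpectrum.comap φ.hom) := fun y => by
    obtain ⟨x, rfl⟩ := f.surjective y
    obtain ⟨a, rfl⟩ := hg x
    exact ⟨a, (congrArg (fun k : Spec A ⟶ Spec R => k a) hφ).trans (Scheme.Hom.comp_apply _ _ _)⟩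
  have hpre : IsClosed (PrimeSpectrum.comap φ.hom ⁻¹' s) := by
    have : IsClosed ((g ≫ f) ⁻¹' s) := by
      rw [Scheme.Hom.comp_base, TopCat.coe_comp, Set.preimage_comp]
      exact hs.preimage g.continuous
    rw [← hφ] at this
    exact this
  have := PrimeSpectrum.isClosed_image_of_stableUnderSpecialization φ.hom _ hpre
    (by rwa [Set.image_preimage_eq _ hsurj])
  rwa [Set.image_preimage_eq _ hsurj] at this

theorem isQuotientMap_of_generalizing {X Y : Scheme.{u}} (f : X ⟶ Y) [QuasiCompact f] [Surjective f]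
    (hgen : GeneralizingMap f) : Topology.IsQuotientMap f := by
  rw [Topology.isQuotientMap_iff]
  refine ⟨.of_isOpen_preimage_iff_isOpen fun s => ⟨fun hs => ?_, fun hs => hs.preimage f.continuous⟩, f.surjective⟩
  rw [← isClosed_compl_iff]
  have hst : StableUnderSpecialization sᶜ := fun y y' hy hys => by
    obtain ⟨p, rfl⟩ := f.surjective y'
    obtain ⟨p', hp', rfl⟩ := hgen hy
    exact hp'.mem_closed (hs.isClosed_compl : IsClosed (f ⁻¹' s)ᶜ) hys
  rw [Y.affineCover.isOpenCover_opensRange.isClosed_iff_coe_preimage]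
  intro i
  let t := Y.affineCover.f i
  have h := isClosed_of_stableUnderSpecialization_affine (pullback.snd f t) (t ⁻¹' sᶜ) (by
      have : IsClosed (pullback.fst f t ⁻¹' (f ⁻¹' sᶜ)) :=
        (hs.isClosed_compl : IsClosed (f ⁻¹' s)ᶜ).preimage (pullback.fst f t).continuous
      convert this using 1
      ext p
      show t (pullback.snd f t p) ∈ sᶜ ↔ f (pullback.fst f t p) ∈ sᶜ
      rw [← Scheme.Hom.comp_apply, ← pullback.condition, Scheme.Hom.comp_apply])
    (fun y y' hy hys => hst (hy.map t.continuous) hys)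
  have hc := t.isOpenEmbedding.isInducing.isClosed_iff.1 h
  obtain ⟨C, hC, hCe⟩ := hc
  refine isClosed_induced_iff.2 ⟨C, hC, Set.ext fun ⟨z, w, hw⟩ => ?_⟩
  subst hw
  exact Set.ext_iff.1 hCe w

theorem flat_fromSpecStalk {X : Scheme.{u}} (x : X) : Flat (X.fromSpecStalk x) := by
  obtain ⟨U, hU, hxU, -⟩ := exists_isAffineOpen_mem_and_subset (U := (⊤ : X.Opens)) (x := x) trivial
  rw [← hU.fromSpecStalk_eq_fromSpecStalk hxU]
  show Flat (Spec.map (X.presheaf.germ U x hxU) ≫ hU.fromSpec)
  haveI : Flat (Spec.map (X.presheaf.germ U x hxU)) := by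
    rw [HasRingHomProperty.Spec_iff (P := @Flat)]
    letI := TopCat.Presheaf.algebra_section_stalk X.presheaf ⟨x, hxU⟩
    haveI := hU.isLocalization_stalk ⟨x, hxU⟩
    exact (RingHom.flat_algebraMap_iff (R := Γ(X, U)) (S := X.presheaf.stalk x)).2
      (IsLocalization.flat (X.presheaf.stalk x) (hU.primeIdealOf ⟨x, hxU⟩).asIdeal.primeCompl)
  infer_instance

theorem exists_geometric_point {R : Type u} [CommRing R] (y : PrimeSpectrum R) :
    ∃ η : Spec (CommRingCat.of (AlgebraicClosure y.asIdeal.ResidueField)) ⟶ Spec (CommRingCat.of R),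
      ∀ z, η z = y := by
  refine ⟨Spec.map (CommRingCat.ofHom (algebraMap R (AlgebraicClosure y.asIdeal.ResidueField))), fun z => ?_⟩
  refine PrimeSpectrum.ext (Ideal.ext fun r => ?_)
  show algebraMap R (AlgebraicClosure y.asIdeal.ResidueField) r ∈ z.asIdeal ↔ r ∈ y.asIdeal
  rw [show z.asIdeal = ⊥ from
    (Ideal.eq_bot_or_top z.asIdeal).resolve_right z.2.ne_top, Ideal.mem_bot,
    IsScalarTower.algebraMap_apply R y.asIdeal.ResidueField, map_eq_zero, Ideal.algebraMap_residueField_eq_zero]

section

variable {X S : Scheme.{u}} (f : X ⟶ S) (x : X) (RS RX : Type u) [CommRing RS] [IsLocalRing RS]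
    [Algebra (S.presheaf.stalk (f.base x)) RS]
    [IsLocalHom (algebraMap (S.presheaf.stalk (f.base x)) RS)]
    [Hensel.IsStrictHenselization (S.presheaf.stalk (f.base x)) RS]
    [CommRing RX] [IsLocalRing RX] [Algebra (X.presheaf.stalk x) RX]
    [IsLocalHom (algebraMap (X.presheaf.stalk x) RX)] [Hensel.IsStrictHenselization (X.presheaf.stalk x) RX]
    (ψ : RS →+* RX) [IsLocalHom ψ]
    (hψ : ψ.comp (algebraMap (S.presheaf.stalk (f.base x)) RS) = (algebraMap (X.presheaf.stalk x) RX).comp (f.stalkMap x).hom)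

include hψ in
theorem flat_strictLift :
    Flat (pullback.lift (Hens2.specOf X x RX) (Spec.map (CommRingCat.ofHom ψ)) (specOf_comp f x RS RX ψ hψ) :
      Spec (CommRingCat.of RX) ⟶ pullback f (Hens2.specOf S (f.base x) RS)) := by
  letI : Algebra (S.presheaf.stalk (f.base x)) (X.presheaf.stalk x) := (f.stalkMap x).hom.toAlgebra
  letI : Algebra (S.presheaf.stalk (f.base x)) RX :=
    ((algebraMap (X.presheaf.stalk x) RX).comp (f.stalkMap x).hom).toAlgebra
  letI : Algebra RS RX := ψ.toAlgebra
  haveI : IsScalarTower (S.presheaf.stalk (f.base x)) (X.presheaf.stalk x) RX := IsScalarTower.of_algebraMap_eq fun _ => rfl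
  haveI : IsScalarTower (S.presheaf.stalk (f.base x)) RS RX :=
    IsScalarTower.of_algebraMap_eq fun s => (RingHom.congr_fun hψ s).symm
  haveI : Algebra.WeaklyEtale (S.presheaf.stalk (f.base x)) RS := H1EssEt.weaklyEtale
  haveI : Algebra.WeaklyEtale (X.presheaf.stalk x) RX := H1EssEt.weaklyEtale
  let T := (X.presheaf.stalk x) ⊗[S.presheaf.stalk (f.base x)] RS
  let π : T →ₐ[S.presheaf.stalk (f.base x)] RX :=
    Algebra.TensorProduct.lift (IsScalarTower.toAlgHom _ (X.presheaf.stalk x) RX) (IsScalarTower.toAlgHom _ RS RX)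
      fun _ _ => Commute.all _ _
  letI : Algebra T RX := π.toRingHom.toAlgebra
  haveI : IsScalarTower (X.presheaf.stalk x) T RX := IsScalarTower.of_algebraMap_eq fun c => by
    show algebraMap (X.presheaf.stalk x) RX c = π (c ⊗ₜ 1)
    rw [Algebra.TensorProduct.lift_tmul, map_one, mul_one]
    rfl
  haveI : Algebra.WeaklyEtale T RX := WEtLib.cancel (A := X.presheaf.stalk x) (B := T) RX
  let p₁ := Spec.map (CommRingCat.ofHom (Algebra.TensorProduct.includeLeftRingHom : X.presheaf.stalk x →+* T))
  let p₂ := Spec.map (CommRingCat.ofHom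
    (Algebra.TensorProduct.includeRight : RS →ₐ[S.presheaf.stalk (f.base x)] T).toRingHom)
  have hsq : IsPullback p₁ p₂ (Spec.map (f.stalkMap x))
      (Spec.map (CommRingCat.ofHom (algebraMap (S.presheaf.stalk (f.base x)) RS))) :=
    isPullback_SpecMap_of_isPushout _ _ _ _
      (CommRingCat.isPushout_tensorProduct (S.presheaf.stalk (f.base x)) (X.presheaf.stalk x) RS)
  have hsq' : IsPullback p₁ p₂ (X.fromSpecStalk x ≫ f) (Hens2.specOf S (f.base x) RS) := by
    rw [← Scheme.SpecMap_stalkMap_fromSpecStalk]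
    refine IsPullback.of_isLimit' ⟨hsq.w_assoc _⟩ (PullbackCone.IsLimit.mk _ (fun c => hsq.lift c.fst c.snd ?_)
      (fun c => hsq.lift_fst _ _ _) (fun c => hsq.lift_snd _ _ _) fun c m h₁ h₂ => hsq.hom_ext ?_ ?_)
    · rw [← cancel_mono (S.fromSpecStalk (f x)), Category.assoc, Category.assoc]
      exact c.condition
    · rw [h₁, hsq.lift_fst]
    · rw [h₂, hsq.lift_snd]
  let d : Spec (CommRingCat.of T) ⟶ pullback f (Hens2.specOf S (f.base x) RS) :=
    pullback.lift (p₁ ≫ X.fromSpecStalk x) p₂ (by rw [Category.assoc]; exact hsq'.w)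
  have hd : IsPullback p₁ d (X.fromSpecStalk x) (pullback.fst f (Hens2.specOf S (f.base x) RS)) := by
    refine IsPullback.of_bot ?_ (pullback.lift_fst _ _ _).symm (IsPullback.of_hasPullback f (Hens2.specOf S (f.base x) RS))
    rw [pullback.lift_snd]
    exact hsq'
  haveI := flat_fromSpecStalk x
  haveI : Flat d := MorphismProperty.of_isPullback hd ‹_›
  haveI : Flat (Spec.map (CommRingCat.ofHom π.toRingHom)) :=
    (HasRingHomProperty.Spec_iff (P := @Flat)).mpr (Algebra.WeaklyEtale.flat : Module.Flat T RX)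
  have : pullback.lift (Hens2.specOf X x RX) (Spec.map (CommRingCat.ofHom ψ)) (specOf_comp f x RS RX ψ hψ) =
      Spec.map (CommRingCat.ofHom π.toRingHom) ≫ d := by
    refine pullback.hom_ext ?_ ?_
    · rw [pullback.lift_fst, Category.assoc, pullback.lift_fst, ← Category.assoc, ← Spec.map_comp]
      refine congrArg (fun k => Spec.map k ≫ X.fromSpecStalk x) (CommRingCat.hom_ext (RingHom.ext fun c => ?_))
      show algebraMap (X.presheaf.stalk x) RX c = π (c ⊗ₜ 1)
      rw [Algebra.TensorProduct.lift_tmul, map_one, mul_one]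
      rfl
    · rw [pullback.lift_snd, Category.assoc, pullback.lift_snd, ← Spec.map_comp]
      refine congrArg Spec.map (CommRingCat.hom_ext (RingHom.ext fun c => ?_))
      show ψ c = π (1 ⊗ₜ c)
      rw [Algebra.TensorProduct.lift_tmul, map_one, one_mul]
      rfl
  rw [this]
  infer_instance

include hψ in
theorem surjective_strictHom (hconn : StrictConn f) : Surjective (Spec.map (CommRingCat.ofHom ψ)) := ⟨fun y => by
  obtain ⟨η, hz⟩ := exists_geometric_point (y := (y : PrimeSpectrum RS))
  haveI := hconn x RS RX ψ hψ _ η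
  obtain ⟨w⟩ := (inferInstance : Nonempty ↥(pullback (Spec.map (CommRingCat.ofHom ψ)) η))
  refine ⟨pullback.fst (Spec.map (CommRingCat.ofHom ψ)) η w, ?_⟩
  rw [← Scheme.Hom.comp_apply, pullback.condition, Scheme.Hom.comp_apply]
  exact hz _⟩

end

/-- Universally locally 0-acyclic morphisms are generalizing. -/
theorem generalizingMap_of_strictConn {X S : Scheme.{u}} (f : X ⟶ S) (hconn : StrictConn f) : GeneralizingMap f := by
  intro x y hy
  let RX := Hensel.StrictHenz (X.presheaf.stalk x)
  let RS := Hensel.StrictHenz (S.presheaf.stalk (f.base x))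
  haveI : HenselianLocalRing RX := Hensel.IsStrictHenselization.henselian (R := X.presheaf.stalk x)
  haveI : IsSepClosed (IsLocalRing.ResidueField RX) :=
    (Hensel.isSepClosure_residueField_strictHenz (X.presheaf.stalk x)).sep_closed
  obtain ⟨ψ, hloc, hψ⟩ := exists_strictHenz_hom (f.stalkMap x).hom RS RX
  haveI := hloc
  haveI := surjective_strictHom f x RS RX ψ hψ hconn
  haveI : Algebra.WeaklyEtale (S.presheaf.stalk (f.base x)) RS := H1EssEt.weaklyEtale
  haveI : Module.FaithfullyFlat (S.presheaf.stalk (f.base x)) RS := Module.FaithfullyFlat.of_flat_of_isLocalHom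
  obtain ⟨y₀, rfl⟩ : ∃ y₀, S.fromSpecStalk (f x) y₀ = y := by
    have : y ∈ Set.range (S.fromSpecStalk (f x)) := by rw [Scheme.range_fromSpecStalk]; exact hy
    exact this
  obtain ⟨p, hp⟩ := PrimeSpectrum.comap_surjective_of_faithfullyFlat (A := S.presheaf.stalk (f.base x)) (B := RS) y₀
  obtain ⟨q, hq⟩ := (Spec.map (CommRingCat.ofHom ψ)).surjective p
  refine ⟨Hens2.specOf X x RX q, ?_, ?_⟩
  · have hmem : Hens2.specOf X x RX q ∈ Set.range (X.fromSpecStalk x) := ⟨_, (Scheme.Hom.comp_apply _ _ _).symm⟩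
    rw [Scheme.range_fromSpecStalk] at hmem
    exact hmem
  · rw [← Scheme.Hom.comp_apply, specOf_comp f x RS RX ψ hψ, Scheme.Hom.comp_apply, hq, Hens2.specOf,
      Scheme.Hom.comp_apply]
    exact congrArg (S.fromSpecStalk (f x)) hp

theorem isUnivSubmersive_strictHom {X S : Scheme.{u}} (f : X ⟶ S) (hf : EtAcyc.IsULocZeroAcyclic f)
    (x : X) (RS RX : Type u) [CommRing RS] [IsLocalRing RS]
    [Algebra (S.presheaf.stalk (f.base x)) RS]
    [IsLocalHom (algebraMap (S.presheaf.stalk (f.base x)) RS)]
    [Hensel.IsStrictHenselization (S.presheaf.stalk (f.base x)) RS]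
    [CommRing RX] [IsLocalRing RX] [Algebra (X.presheaf.stalk x) RX]
    [IsLocalHom (algebraMap (X.presheaf.stalk x) RX)] [Hensel.IsStrictHenselization (X.presheaf.stalk x) RX]
    (ψ : RS →+* RX) [IsLocalHom ψ]
    (hψ : ψ.comp (algebraMap (S.presheaf.stalk (f.base x)) RS) = (algebraMap (X.presheaf.stalk x) RX).comp (f.stalkMap x).hom)
    {T' : Scheme.{u}} (t : T' ⟶ Spec (CommRingCat.of RS)) :
    GeneralizingMap (pullback.snd (Spec.map (CommRingCat.ofHom ψ)) t) := by
  let hS := Hens2.specOf S (f.base x) RS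
  let p := Spec.map (CommRingCat.ofHom ψ)
  let k : Spec (CommRingCat.of RX) ⟶ pullback f hS :=
    pullback.lift (Hens2.specOf X x RX) p (specOf_comp f x RS RX ψ hψ)
  haveI : Flat k := flat_strictLift f x RS RX ψ hψ
  let X₁ := pullback (pullback.snd f hS) t
  let d : pullback p t ⟶ X₁ := pullback.lift (pullback.fst p t ≫ k) (pullback.snd p t) (by
    rw [Category.assoc, pullback.lift_snd, pullback.condition])
  have hd : IsPullback (pullback.fst p t) d k (pullback.fst (pullback.snd f hS) t) := by
    refine IsPullback.of_bot ?_ (pullback.lift_fst _ _ _).symm (IsPullback.of_hasPullback (pullback.snd f hS) t)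
    rw [pullback.lift_snd, pullback.lift_snd]
    exact IsPullback.of_hasPullback p t
  haveI : Flat d := MorphismProperty.of_isPullback hd ‹_›
  have hg₁ : IsPullback (pullback.fst (pullback.snd f hS) t ≫ pullback.fst f hS) (pullback.snd (pullback.snd f hS) t) f
      (t ≫ hS) := (IsPullback.of_hasPullback (pullback.snd f hS) t).paste_horiz (IsPullback.of_hasPullback f hS)
  have hu : EtAcyc.IsULocZeroAcyclic (pullback.snd (pullback.snd f hS) t) := fun X₂ Y₂ g₂ b' b h₂ =>
    hf g₂ _ _ (h₂.paste_horiz hg₁)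
  have h1 := generalizingMap_of_strictConn _ (strictConn_of_isULocZeroAcyclic _ hu)
  have h2 := Flat.generalizingMap (f := d)
  rw [show pullback.snd p t = d ≫ pullback.snd (pullback.snd f hS) t from (pullback.lift_snd _ _ _).symm,
    Scheme.Hom.comp_base, TopCat.coe_comp]
  exact h2.comp h1

/-- Sections descend to the part over the strict localization of the base. -/
theorem isIso_baseChange0Sh_of_univ {X S Y T : Scheme.{u}} (f : X ⟶ S) (hf : EtAcyc.IsULocZeroAcyclic f)
    (g : T ⟶ S) [QuasiCompact g] [QuasiSeparated g] (h : Y ⟶ X) (e : Y ⟶ T) (c : IsPullback e h g f)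
    (F : EtDesc.Sh T) : IsIso (EtBC.baseChange0Sh g f h e c.w F) :=
  isIso_baseChange0Sh_of_strict f g h e c F fun x RS RX _ _ _ _ _ _ _ _ _ _ _ _ ψ _ hψ => by
    haveI : HenselianLocalRing RS := Hensel.IsStrictHenselization.henselian (R := S.presheaf.stalk (f.base x))
    haveI : HenselianLocalRing RX := Hensel.IsStrictHenselization.henselian (R := X.presheaf.stalk x)
    let p := Spec.map (CommRingCat.ofHom ψ)
    let π := strictMap f g h e x RS RX ψ hψ c
    have hconn := strictConn_of_isULocZeroAcyclic f hf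
    haveI : Surjective p := surjective_strictHom f x RS RX ψ hψ hconn
    have hP := (isPullback_strictMap f g h e x RS RX ψ hψ c).flip
    haveI : Surjective π := MorphismProperty.of_isPullback hP ‹Surjective p›
    haveI : QuasiCompact π := MorphismProperty.of_isPullback hP (inferInstanceAs (QuasiCompact p))
    refine bijective_secPull_of_connected_fibres π (fun Z t => ?_) (fun L _ _ s => ?_) _
    · haveI : Surjective (pullback.snd π t) := MorphismProperty.pullback_snd (P := @Surjective) π t inferInstance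
      refine ⟨(pullback.snd π t).surjective, isQuotientMap_of_generalizing (pullback.snd π t) ?_⟩
      have h₂ := ((IsPullback.of_hasPullback π t).flip.paste_vert hP.flip).flip
      have h₃ := isUnivSubmersive_strictHom f hf x RS RX ψ hψ (t ≫ pullback.snd g (Hens2.specOf S (f.base x) RS))
      rw [show pullback.snd π t = h₂.isoPullback.hom ≫ pullback.snd p _ from h₂.isoPullback_hom_snd.symm,
        Scheme.Hom.comp_base, TopCat.coe_comp]
      exact h₂.isoPullback.hom.homeomorph.isOpenEmbedding.generalizingMap.comp h₃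
    · have h₂ := ((IsPullback.of_hasPullback π s).flip.paste_vert hP.flip).flip
      haveI := hconn x RS RX ψ hψ L (s ≫ pullback.snd g (Hens2.specOf S (f.base x) RS))
      exact h₂.isoPullback.hom.homeomorph.connectedSpace_iff.2 inferInstance

end Groth.Agent.EtPBC0
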