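import Groth.Agent.EtPBC0.Stages
import Groth.Agent.EtPBC0.FieldDesc
import Groth.Agent.EtH0Lib.H0Sets
import Groth.Agent.BigSiteLib.EtDescSec.Stalk
import Groth.Agent.EtContLib.StalkPush
import Groth.Agent.Hensel.Henselization

/-!
# The stalk of the direct image along a proper morphism, for sheaves of sets
-/

set_option autoImplicit false
set_option linter.style.haveILetI false

universe u

open CategoryTheory CategoryTheory.Limits AlgebraicGeometry Opposite TopologicalSpace
open Groth.Agent.BigSiteLib.DescSec Groth.Agent.EtH0Lib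

namespace Groth.Agent.EtPBC0

set_option backward.isDefEq.respectTransparency false
set_option backward.isDefEq.respectTransparency.types false

variable {X S : Scheme.{u}} (f : X ⟶ S) {Ω : Type u} [Field Ω] [IsSepClosed Ω]
  {η : Spec (CommRingCat.of Ω) ⟶ S} {P : Scheme.{u}} (kP : P ⟶ X) (pP : P ⟶ Spec (CommRingCat.of Ω))
  (w : kP ≫ f = pP ≫ η)

/-- The fibre inside the base change of an etale neighbourhood. -/
noncomputable def fibLift (V : S.Etale) (v : (Scheme.pointSmallEtale η).fiber.obj V) :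
    P ⟶ ((EtCoh.bc f).obj V).left :=
  pullback.lift (pP ≫ (v.left : Spec (CommRingCat.of Ω) ⟶ V.left)) kP (by
    rw [Category.assoc, w]
    exact congrArg (pP ≫ ·) (CategoryTheory.Over.w v))

theorem fibLift_hom (V : S.Etale) (v : (Scheme.pointSmallEtale η).fiber.obj V) :
    fibLift f kP pP w V v ≫ ((EtCoh.bc f).obj V).hom = kP := pullback.lift_snd _ _ _

/-- A section near the geometric point, restricted to the fibre. -/
noncomputable def phi (F : EtDesc.Sh X) (V : S.Etale) (v : (Scheme.pointSmallEtale η).fiber.obj V)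
    (x : F.obj.obj (op ((EtCoh.bc f).obj V))) : ((EtDesc.pullSh kP).obj F).obj.obj (op (EtCoh.top P)) :=
  atPt kP F ((EtCoh.bc f).obj V) (fibLift f kP pP w V v) (fibLift_hom f kP pP w V v) x

theorem fibLift_map {V V' : S.Etale} (m : V' ⟶ V) (v' : (Scheme.pointSmallEtale η).fiber.obj V') :
    fibLift f kP pP w V' v' ≫ ((EtCoh.bc f).map m).left =
      fibLift f kP pP w V ((Scheme.pointSmallEtale η).fiber.map m v') := by
  refine pullback.hom_ext ?_ ?_
  · refine (Category.assoc _ _ _).trans ((congrArg (fibLift f kP pP w V' v' ≫ ·) (EtCoh.isPullback_bc_map f m).w).trans ?_)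
    refine ((Category.assoc _ _ _).symm.trans (congrArg (· ≫ m.left) (pullback.lift_fst _ _ _))).trans ?_
    exact (Category.assoc _ _ _).trans (pullback.lift_fst _ _ _).symm
  · exact ((Category.assoc _ _ _).trans (congrArg (fibLift f kP pP w V' v' ≫ ·)
      (MorphismProperty.Over.w ((EtCoh.bc f).map m)))).trans
      ((pullback.lift_snd _ _ _).trans (pullback.lift_snd _ _ _).symm)

theorem phi_map (F : EtDesc.Sh X) {V V' : S.Etale} (m : V' ⟶ V) (v' : (Scheme.pointSmallEtale η).fiber.obj V')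
    (x : F.obj.obj (op ((EtCoh.bc f).obj V))) :
    phi f kP pP w F V' v' (F.obj.map ((EtCoh.bc f).map m).op x) =
      phi f kP pP w F V ((Scheme.pointSmallEtale η).fiber.map m v') x :=
  atPt_map kP F ((EtCoh.bc f).map m) _ _ _ _ (fibLift_map f kP pP w m v') x

/-- Sections near the geometric point with the same restriction to the fibre have the same germ. -/
theorem germ_eq_of_phi_eq [UniversallyClosed f] (h : IsPullback kP pP f η) (F : EtDesc.Sh X) (V : S.Etale)
    (v : (Scheme.pointSmallEtale η).fiber.obj V) (x₁ x₂ : F.obj.obj (op ((EtCoh.bc f).obj V)))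
    (e : phi f kP pP h.w F V v x₁ = phi f kP pP h.w F V v x₂) :
    germ ((EtDesc.pushSh f).obj F) η V v x₁ = germ ((EtDesc.pushSh f).obj F) η V v x₂ := by
  let σ := fibLift f kP pP h.w V v
  let O : Set ((EtCoh.bc f).obj V).left := {q | LocEq F.obj x₁ x₂ q}
  have hO : IsOpen O := isOpen_locEq x₁ x₂
  have hσ : ∀ p, σ p ∈ O := fun p => by
    have h₁ := LocEq.of_map (secHom kP ((EtCoh.bc f).obj V) σ (fibLift_hom f kP pP h.w V v))
      (show LocEq ((EtDesc.pullSh kP).obj F).obj (phi f kP pP h.w F V v x₁) (phi f kP pP h.w F V v x₂)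
        (show (EtCoh.top P).left from p) from e ▸ LocEq.refl _ _)
    have h₂ := locEq_of_up kP F h₁
    rwa [pr_secHom] at h₂
  let fV := pullback.fst V.hom f
  haveI : UniversallyClosed fV := MorphismProperty.pullback_fst (P := @UniversallyClosed) _ _ inferInstance
  let N : V.left.Opens := ⟨(fV '' Oᶜ)ᶜ, (fV.isClosedMap _ hO.isClosed_compl).isOpen_compl⟩
  let v₀ := (v.left : Spec (CommRingCat.of Ω) ⟶ V.left).base (default : Spec (CommRingCat.of Ω))
  have sq : IsPullback σ pP fV (v.left : Spec (CommRingCat.of Ω) ⟶ V.left) := by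
    refine IsPullback.of_right ?_ (pullback.lift_fst _ _ _) (IsPullback.of_hasPullback V.hom f).flip
    exact Eq.mpr (congrArg₂ (fun a b => IsPullback a pP f b) (fibLift_hom f kP pP h.w V v)
      (CategoryTheory.Over.w v : (v.left : Spec (CommRingCat.of Ω) ⟶ V.left) ≫ V.hom = η)) h
  have hv₀ : v₀ ∈ N := fun ⟨q, hq, hqv⟩ => hq (by
    obtain ⟨p, hp, -⟩ := Scheme.exists_preimage_of_isPullback sq q (default : Spec (CommRingCat.of Ω)) hqv
    exact hp ▸ hσ p)
  let V' := EtFound.restrictEtale V N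
  let j := EtFound.restrictEtaleHom V N
  obtain ⟨v', hv', -⟩ := EtFound.exists_lift_point j v (⟨v₀, hv₀⟩ : N.toScheme) rfl
  have hx : F.obj.map ((EtCoh.bc f).map j).op x₁ = F.obj.map ((EtCoh.bc f).map j).op x₂ := eq_of_locEq F fun q => by
    refine LocEq.map _ (Classical.byContradiction fun hq => ?_)
    exact (pr f V' q).2 ⟨_, hq, pr_map f j q⟩
  have hg : ∀ x, germ ((EtDesc.pushSh f).obj F) η V v x =
      germ ((EtDesc.pushSh f).obj F) η V' v' (F.obj.map ((EtCoh.bc f).map j).op x) := fun x => by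
    refine Eq.trans ?_ (germ_map ((EtDesc.pushSh f).obj F) η j v' x).symm
    rw [hv']
  rw [hg, hg, hx]

theorem exists_tau {T R Z : Scheme.{u}} (g : T ⟶ R) (a : R ⟶ Z) (b : T ⟶ Z) (wb : g ≫ a = b) {F : EtDesc.Sh Z}
    (hs : Function.Surjective (EtDesc.secPull g ((EtDesc.pullSh a).obj F)))
    (s : ((EtDesc.pullSh b).obj F).obj.obj (op (EtCoh.top T))) : ∃ t, tau g a b wb t = s := by
  obtain ⟨t, ht⟩ := hs ((EtDesc.pullVia g a b wb F).inv.hom.app _ s)
  refine ⟨t, ?_⟩
  show (EtDesc.pullVia g a b wb F).hom.hom.app _ _ = _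
  rw [ht]
  exact app_inv_apply (EtDesc.pullVia g a b wb F).symm _ _

theorem exists_fac_strictHenz (η : Spec (CommRingCat.of Ω) ⟶ S) :
    ∃ (s : S) (τ : IsLocalRing.ResidueField (Hensel.StrictHenz (S.presheaf.stalk s)) →+* Ω),
      Spec.map (CommRingCat.ofHom τ) ≫ Hens2.geomPt S s (Hensel.StrictHenz (S.presheaf.stalk s)) = η := by
  obtain ⟨⟨s, φ⟩, rfl⟩ := (Scheme.SpecToEquivOfField Ω S).symm.surjective η
  refine ⟨s, ?_⟩
  let A := S.presheaf.stalk s
  let R := Hensel.StrictHenz A
  letI : Algebra (IsLocalRing.ResidueField A) Ω := (show S.residueField s ⟶ CommRingCat.of Ω from φ).hom.toAlgebra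
  haveI : Algebra.IsSeparable (IsLocalRing.ResidueField A) (IsLocalRing.ResidueField R) :=
    (Hensel.isSepClosure_residueField_strictHenz A).separable
  let τ : IsLocalRing.ResidueField R →ₐ[IsLocalRing.ResidueField A] Ω := IsSepClosed.lift
  refine ⟨τ.toRingHom, ?_⟩
  show _ = Spec.map φ ≫ S.fromSpecResidueField s
  rw [Scheme.fromSpecResidueField]
  simp only [Hens2.geomPt, Hens2.specOf, ← Category.assoc, ← Spec.map_comp]
  refine congrArg (fun q => Spec.map q ≫ S.fromSpecStalk s) (CommRingCat.hom_ext (RingHom.ext fun a => ?_))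
  exact τ.commutes (IsLocalRing.residue A a)

/-- Sections on the fibre come from a neighbourhood. -/
theorem exists_phi_eq [IsProper f] (h : IsPullback kP pP f η) (F : EtDesc.Sh X)
    (s : ((EtDesc.pullSh kP).obj F).obj.obj (op (EtCoh.top P))) :
    ∃ V v x, phi f kP pP h.w F V v x = s := by
  obtain ⟨s₀, τ, hτ⟩ := exists_fac_strictHenz η
  let R := Hensel.StrictHenz (S.presheaf.stalk s₀)
  obtain ⟨ι, _, _, _, E, π, ⟨hc⟩, hA, hwh⟩ := EtContLib.exists_strict_limit S s₀ R
  let c : Cone (EtContLib.stages E) := Cone.mk (Spec (CommRingCat.of R)) π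
  let hR := Hens2.specOf S s₀ R
  have wh : ∀ i, EtContLib.pr (EtContLib.stages E) c i ≫ (E.obj (op i)).hom = hR := fun i => hwh (op i)
  haveI : HenselianLocalRing R := inferInstance
  haveI : IsSepClosed (IsLocalRing.ResidueField R) :=
    (Hensel.isSepClosure_residueField_strictHenz (S.presheaf.stalk s₀)).sep_closed
  let mk : Spec (CommRingCat.of (IsLocalRing.ResidueField R)) ⟶ Spec (CommRingCat.of R) :=
    Spec.map (CommRingCat.ofHom (IsLocalRing.residue R))
  let ψ : Spec (CommRingCat.of Ω) ⟶ Spec (CommRingCat.of R) := Spec.map (CommRingCat.ofHom τ) ≫ mk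
  have hψ : ψ ≫ hR = η := (Category.assoc _ _ _).trans hτ
  let gR := pullback.fst f hR
  let pR := pullback.snd f hR
  let i₀ := pullback.fst pR mk
  let p₀ := pullback.snd pR mk
  let e : P ⟶ pullback f hR := pullback.lift kP (pP ≫ ψ) (by rw [h.w, Category.assoc, hψ])
  have sqe : IsPullback e pP pR ψ := by
    refine IsPullback.of_right ?_ (pullback.lift_snd _ _ _) (IsPullback.of_hasPullback f hR)
    rw [pullback.lift_fst, hψ]
    exact h
  let j : P ⟶ pullback pR mk := pullback.lift e (pP ≫ Spec.map (CommRingCat.ofHom τ)) (by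
    rw [sqe.w]; exact (Category.assoc _ _ _).symm)
  have sqj : IsPullback j pP p₀ (Spec.map (CommRingCat.ofHom τ)) := by
    refine IsPullback.of_right ?_ (pullback.lift_snd _ _ _) (IsPullback.of_hasPullback pR mk)
    rw [pullback.lift_fst]
    exact sqe
  letI : Algebra (IsLocalRing.ResidueField R) Ω := τ.toAlgebra
  have hj : (j ≫ i₀) ≫ gR = kP := by rw [pullback.lift_fst, pullback.lift_fst]
  obtain ⟨s₁, hs₁⟩ := exists_tau j (i₀ ≫ gR) kP ((Category.assoc _ _ _).symm.trans hj)
    (bijective_secPull_field_ext (κ := IsLocalRing.ResidueField R) (Ω := Ω) j p₀ pP sqj _).2 s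
  haveI : IsClosedImmersion mk := IsClosedImmersion.spec_of_surjective _ IsLocalRing.residue_surjective
  haveI : IsClosedImmersion i₀ := MorphismProperty.pullback_fst (P := @IsClosedImmersion) _ _ inferInstance
  haveI : IsProper pR := inferInstance
  have hr : Set.range i₀ = Zof pR (IsLocalRing.maximalIdeal R) := range_fst_mk' (IsLocalRing.maximalIdeal R) pR
  obtain ⟨t, ht⟩ := exists_tau i₀ gR (i₀ ≫ gR) rfl
    (bijective_secPull (IsLocalRing.maximalIdeal R) pR i₀ hr _).2 s₁
  obtain ⟨i, x, hx⟩ := exists_stage_section (EtContLib.bcE f E) (EtContLib.bcCone f E c hR wh) gR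
    (EtContLib.bcCone_wh f E c hR wh) (fun _ _ m => EtContLib.isAffineHom_bcE f E hA m)
    (fun a => (EtContLib.qcqs_bcE f E hA a).1) (fun a => (EtContLib.qcqs_bcE f E hA a).2)
    (EtContLib.isLimitBcCone f E c hR wh hc) t
  let pi := EtContLib.pr (EtContLib.stages E) c i
  let v : (Scheme.pointSmallEtale η).fiber.obj (E.obj (op i)) := CategoryTheory.Over.homMk (ψ ≫ pi) (by
    show (ψ ≫ pi) ≫ (E.obj (op i)).hom = η
    rw [Category.assoc, wh i, hψ])
  refine ⟨E.obj (op i), v, x, ?_⟩
  rw [← hs₁, ← ht, tau_tau j i₀ gR (i₀ ≫ gR) rfl kP _ hj, ← hx]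
  refine (tau_atPt (j ≫ i₀) gR kP hj F ((EtCoh.bc f).obj (E.obj (op i))) _ _ _ _ ?_ x).symm
  refine pullback.hom_ext ?_ ?_
  · refine (Category.assoc _ _ _).trans ((congrArg ((j ≫ i₀) ≫ ·) (pullback.lift_fst _ _ _)).trans ?_)
    refine Eq.trans ?_ (pullback.lift_fst _ _ _).symm
    rw [pullback.lift_fst]
    refine (Category.assoc _ _ _).symm.trans ?_
    rw [pullback.lift_snd]
    exact (Category.assoc _ _ _)
  · refine (Category.assoc _ _ _).trans ((congrArg ((j ≫ i₀) ≫ ·) (pullback.lift_snd _ _ _)).trans ?_)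
    exact hj.trans (pullback.lift_snd _ _ _).symm

end Groth.Agent.EtPBC0
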