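import Groth.Agent.EtPBC0.StrictIdem
import Groth.Agent.Hensel.TensorHenzFinite
import Groth.Agent.H1EssEt.Basic

/-!
# Strict henselization after an integral base change
-/

set_option autoImplicit false
set_option linter.style.haveILetI false

universe u

open IsLocalRing
open scoped TensorProduct

namespace Groth.Agent.EtPBC0

set_option backward.isDefEq.respectTransparency false
set_option backward.isDefEq.respectTransparency.types false

theorem isSeparable_residue {C O RX M : Type u} [CommRing C] [IsLocalRing C] [CommRing O] [IsLocalRing O]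
    [CommRing RX] [IsLocalRing RX] [CommRing M] [IsLocalRing M] [Algebra C RX] [IsLocalHom (algebraMap C RX)]
    [Algebra O M] [IsLocalHom (algebraMap O M)] (a : C →+* O) [IsLocalHom a] (j : RX →+* M) [IsLocalHom j]
    (hj : ∀ c, algebraMap O M (a c) = j (algebraMap C RX c))
    [Algebra.IsSeparable (ResidueField C) (ResidueField RX)] (y : RX) :
    IsSeparable (ResidueField O) (residue M (j y)) := by
  letI : Algebra (ResidueField C) (ResidueField O) := (ResidueField.map a).toAlgebra
  letI : Algebra (ResidueField C) (ResidueField M) :=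
    ((algebraMap (ResidueField O) (ResidueField M)).comp (ResidueField.map a)).toAlgebra
  haveI : IsScalarTower (ResidueField C) (ResidueField O) (ResidueField M) := IsScalarTower.of_algebraMap_eq fun _ => rfl
  let ι : ResidueField RX →ₐ[ResidueField C] ResidueField M :=
    { ResidueField.map j with
      commutes' := fun c => by
        obtain ⟨c, rfl⟩ := residue_surjective c
        show ResidueField.map j (algebraMap (ResidueField C) (ResidueField RX) (residue C c)) =
          algebraMap (ResidueField O) _ (ResidueField.map a (residue C c))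
        rw [ResidueField.algebraMap_residue, ResidueField.map_residue, ResidueField.map_residue,
          ResidueField.algebraMap_residue, hj] }
  have h : IsSeparable (ResidueField C) (ι (residue RX y)) :=
    (isSeparable_map_iff ι ι.toRingHom.injective).2 (Algebra.IsSeparable.isSeparable (ResidueField C) (residue RX y))
  exact IsSeparable.tower_top _ h

/-- Maps out of a strict henselization agree if they agree on the base and on residue fields. -/
theorem eq_of_residue {A RS T : Type u} [CommRing A] [IsLocalRing A] [CommRing RS] [IsLocalRing RS] [Algebra A RS]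
    [IsLocalHom (algebraMap A RS)] [Hensel.IsStrictHenselization A RS] [CommRing T] [HenselianLocalRing T]
    (f : A →+* T) [IsLocalHom f] (g g' : RS →+* T) (hg : g.comp (algebraMap A RS) = f)
    (hg' : g'.comp (algebraMap A RS) = f) [IsLocalHom g] (h : ∀ r, residue T (g' r) = residue T (g r)) : g = g' := by
  obtain ⟨w, -, hw⟩ := Hensel.IsStrictHenselization.universal (R := A) (S := RS) T f (ResidueField.map g) (by
    refine RingHom.ext fun r => ?_
    obtain ⟨r, rfl⟩ := residue_surjective r
    simp only [RingHom.comp_apply, ResidueField.map_residue]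
    exact congrArg _ (RingHom.congr_fun hg r))
  exact (hw g ⟨hg, fun r => rfl⟩).trans (hw g' ⟨hg', fun r => h r⟩).symm

/-- `N ⊗ RX` is the strict henselization of `O` when `O` is generated by `C` and `N`. -/
theorem isStrictHenselization_tensor {A C O : Type u} [CommRing A] [IsLocalRing A] [CommRing C] [IsLocalRing C]
    [CommRing O] [IsLocalRing O] (RS RX N : Type u) [CommRing RS] [IsLocalRing RS] [HenselianLocalRing RS]
    [IsSepClosed (ResidueField RS)] [Algebra A RS] [IsLocalHom (algebraMap A RS)] [Hensel.IsStrictHenselization A RS]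
    [CommRing RX] [IsLocalRing RX] [Algebra C RX] [IsLocalHom (algebraMap C RX)] [Hensel.IsStrictHenselization C RX]
    [Algebra RS RX] [IsLocalHom (algebraMap RS RX)] [CommRing N] [IsLocalRing N] [Algebra RS N]
    [IsLocalHom (algebraMap RS N)] [Algebra.IsIntegral RS N]
    (φ : A →+* C) [IsLocalHom φ] (hψ : (algebraMap RS RX).comp (algebraMap A RS) = (algebraMap C RX).comp φ)
    (a : C →+* O) [IsLocalHom a] (b : N →+* O) [IsLocalHom b]
    (hab : a.comp φ = b.comp ((algebraMap RS N).comp (algebraMap A RS)))
    [IsLocalRing (N ⊗[RS] RX)] [Algebra O (N ⊗[RS] RX)] [IsLocalHom (algebraMap O (N ⊗[RS] RX))]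
    (hκa : ∀ c, algebraMap O (N ⊗[RS] RX) (a c) = (1 : N) ⊗ₜ[RS] algebraMap C RX c)
    (hκb : ∀ n, algebraMap O (N ⊗[RS] RX) (b n) = n ⊗ₜ[RS] (1 : RX))
    (hext : ∀ (T : Type u) [CommRing T] (f f' : O →+* T), f.comp a = f'.comp a → f.comp b = f'.comp b → f = f') :
    Hensel.IsStrictHenselization O (N ⊗[RS] RX) := by
  haveI : HenselianLocalRing RX := Hensel.IsStrictHenselization.henselian (R := C)
  haveI hsepC := Hensel.IsStrictHenselization.isSepClosure (R := C) (S := RX)
  haveI : IsSepClosed (ResidueField RX) := hsepC.sep_closed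
  haveI : IsPurelyInseparable (ResidueField RS) (ResidueField N) := by
    convert (Hensel.residueField_of_isIntegral RS N).2 using 1
    exact Algebra.algebra_ext _ _ fun r => by
      obtain ⟨r, rfl⟩ := residue_surjective r
      rfl
  letI : Algebra RX (N ⊗[RS] RX) := Algebra.TensorProduct.rightAlgebra
  haveI : IsLocalHom (algebraMap RX (N ⊗[RS] RX)) := Hensel.isLocalHom_includeRight RS N RX
  haveI : Algebra.IsIntegral RX (N ⊗[RS] RX) := ⟨fun x => Hensel.isIntegral_includeRight RS N RX x⟩
  refine ⟨Hensel.henselianLocalRing_of_isIntegral_local RX _, ⟨(Hensel.residueField_of_isIntegral RX _).1, ⟨fun x => ?_⟩⟩, ?_⟩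
  · obtain ⟨z, rfl⟩ := residue_surjective x
    induction z with
    | zero => rw [map_zero, ← map_zero (algebraMap (ResidueField O) (ResidueField (N ⊗[RS] RX)))]; exact isSeparable_algebraMap _
    | tmul n y =>
      rw [show n ⊗ₜ[RS] y = algebraMap O (N ⊗[RS] RX) (b n) * algebraMap RX (N ⊗[RS] RX) y by
        rw [hκb]; exact (by rw [Algebra.TensorProduct.right_algebraMap_apply, Algebra.TensorProduct.tmul_mul_tmul,
          mul_one, one_mul]), map_mul]
      refine Field.isSeparable_mul ?_ ?_
      · rw [← ResidueField.algebraMap_residue]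
        exact isSeparable_algebraMap _
      · haveI := hsepC.separable
        exact isSeparable_residue a (algebraMap RX (N ⊗[RS] RX))
          (fun c => (hκa c).trans (Algebra.TensorProduct.right_algebraMap_apply _).symm) y
    | add u v hu hv => rw [map_add]; exact Field.isSeparable_add hu hv
  intro T _ _ f _ τ hτ
  have hτ' : ∀ o : O, τ (residue _ (algebraMap O (N ⊗[RS] RX) o)) = residue T (f o) := fun o => by
    have := RingHom.congr_fun hτ (residue O o)
    rwa [RingHom.comp_apply, ResidueField.map_residue, ResidueField.map_residue] at this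
  let τ₁ : ResidueField RX →+* ResidueField T := τ.comp (ResidueField.map (algebraMap RX (N ⊗[RS] RX)))
  obtain ⟨g₁, ⟨hg₁, hg₁r⟩, hg₁u⟩ := Hensel.IsStrictHenselization.universal (R := C) (S := RX) T (f.comp a) τ₁ (by
    refine RingHom.ext fun c => ?_
    obtain ⟨c, rfl⟩ := residue_surjective c
    simp only [τ₁, RingHom.comp_apply, ResidueField.map_residue]
    refine Eq.trans ?_ (hτ' (a c))
    exact congrArg (fun w => τ (residue _ w)) (hκa c).symm)
  have hg₁r' : ∀ y, residue T (g₁ y) = τ (residue _ ((1 : N) ⊗ₜ[RS] y)) := fun y => by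
    rw [hg₁r]
    rfl
  have hRS : g₁.comp (algebraMap RS RX) = (f.comp b).comp (algebraMap RS N) := by
    have hsol : (f.comp b).comp ((algebraMap RS N).comp (algebraMap A RS)) = (f.comp a).comp φ := by
      rw [RingHom.comp_assoc φ a f, hab]
      rfl
    haveI : IsLocalHom g₁ := ⟨fun y hy => by
      by_contra hy'
      have hy₀ : residue RX y = 0 := (residue_eq_zero_iff y).2 hy'
      have : residue T (g₁ y) = 0 := by rw [hg₁r, hy₀, map_zero]
      exact (residue_eq_zero_iff _).1 this hy⟩
    haveI : IsLocalHom (g₁.comp (algebraMap RS RX)) := RingHom.isLocalHom_comp _ _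
    refine eq_of_residue (A := A) ((f.comp a).comp φ) _ _ ?_ ?_ fun r => ?_
    · rw [RingHom.comp_assoc, hψ, ← RingHom.comp_assoc, hg₁]
    · rw [RingHom.comp_assoc]
      exact hsol
    · show residue T (f (b (algebraMap RS N r))) = residue T (g₁ (algebraMap RS RX r))
      rw [hg₁r', ← hτ', hκb, Algebra.algebraMap_eq_smul_one, TensorProduct.smul_tmul,
        ← Algebra.algebraMap_eq_smul_one]
  letI : Algebra RS T := (g₁.comp (algebraMap RS RX)).toAlgebra
  let G := Algebra.TensorProduct.lift ({ f.comp b with commutes' := fun r => (RingHom.congr_fun hRS r).symm } : N →ₐ[RS] T)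
    ({ g₁ with commutes' := fun _ => rfl } : RX →ₐ[RS] T) fun _ _ => Commute.all _ _
  have hG : ∀ n y, G (n ⊗ₜ[RS] y) = f (b n) * g₁ y := fun n y => Algebra.TensorProduct.lift_tmul _ _ _ n y
  refine ⟨G.toRingHom, ⟨hext T _ _ (RingHom.ext fun c => ?_) (RingHom.ext fun n => ?_), fun x => ?_⟩, fun g' ⟨hg', hg'r⟩ => ?_⟩
  · show G (algebraMap O _ (a c)) = f (a c)
    rw [hκa, hG, map_one, map_one, one_mul]
    exact RingHom.congr_fun hg₁ c
  · show G (algebraMap O _ (b n)) = f (b n)
    rw [hκb, hG, map_one, mul_one]
  · show residue T (G x) = τ (residue _ x)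
    induction x with
    | zero => simp only [map_zero]
    | tmul n y =>
      rw [hG, map_mul, ← hτ', hg₁r', ← map_mul, ← map_mul, hκb, Algebra.TensorProduct.tmul_mul_tmul, mul_one, one_mul]
    | add u v hu hv => simp only [map_add, hu, hv]
  · have h₁ : g'.comp (algebraMap RX (N ⊗[RS] RX)) = g₁ := hg₁u _ ⟨RingHom.ext fun c => by
      show g' ((1 : N) ⊗ₜ[RS] algebraMap C RX c) = f (a c)
      rw [← hκa, ← RingHom.comp_apply g', hg'], fun y => hg'r _⟩
    have h₂ : ∀ n, g' (n ⊗ₜ[RS] (1 : RX)) = f (b n) := fun n => by
      rw [← hκb, ← RingHom.comp_apply g', hg']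
    refine RingHom.ext fun x => ?_
    show g' x = G x
    induction x with
    | zero => simp only [map_zero]
    | tmul n y =>
      rw [hG, ← h₂, ← h₁, RingHom.comp_apply, Algebra.TensorProduct.right_algebraMap_apply, ← map_mul,
        Algebra.TensorProduct.tmul_mul_tmul, mul_one, one_mul]
    | add u v hu hv => simp only [map_add, hu, hv]

end Groth.Agent.EtPBC0
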