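import Groth.Agent.EtPBC0.BaseChange
import Groth.Agent.BigSiteLib.EtDescSec.Sub

/-!
# Descent of sections along surjective morphisms
-/

set_option autoImplicit false
set_option linter.style.haveILetI false

universe u

open CategoryTheory CategoryTheory.Limits AlgebraicGeometry Opposite TopologicalSpace
open Groth.Agent.BigSiteLib.DescSec Groth.Agent.EtH0Lib

namespace Groth.Agent.EtPBC0

set_option backward.isDefEq.respectTransparency false
set_option backward.isDefEq.respectTransparency.types false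

/-- The presheaf of open subsets. -/
noncomputable def opensPre (X : Scheme.{u}) : X.Etaleᵒᵖ ⥤ Type (u + 1) where
  obj U := ULift.{u + 1} U.unop.left.Opens
  map {U V} m := ↾fun O => ULift.up (m.unop.left ⁻¹ᵁ O.down)
  map_id U := by ext O : 2; rfl
  map_comp {U V W} m n := by ext O : 2; rfl

theorem opensPre_isSheaf (X : Scheme.{u}) : Presieve.IsSheaf X.smallEtaleTopology (opensPre X) := by
  intro U R hR x hx
  have hcov := (EtFound.mem_topology_iff _).1 hR
  let O : U.left.Opens := ⟨⋃ (Z : X.Etale) (f : Z ⟶ U) (hf : R f), f.left '' ((x f hf).down : Set Z.left),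
    isOpen_iUnion fun Z => isOpen_iUnion fun f => isOpen_iUnion fun hf =>
      haveI := EtFound.etale_left f
      f.left.isOpenMap _ (x f hf).down.isOpen⟩
  have hO : ∀ (Z : X.Etale) (g : Z ⟶ U) (hg : R g) (z : Z.left), g.left z ∈ O ↔ z ∈ (x g hg).down := by
    refine fun Z g hg z => ⟨fun hz => ?_, fun hz => ?_⟩
    · obtain ⟨Z', f, hf, z', hz', e⟩ : ∃ (Z' : X.Etale) (f : Z' ⟶ U) (hf : R f) (z' : Z'.left),
          z' ∈ (x f hf).down ∧ f.left z' = g.left z := by
        obtain ⟨Z', h₁⟩ := Set.mem_iUnion.1 hz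
        obtain ⟨f, h₂⟩ := Set.mem_iUnion.1 h₁
        obtain ⟨hf, z', hz', e⟩ := Set.mem_iUnion.1 h₂
        exact ⟨Z', f, hf, z', hz', e⟩
      obtain ⟨t, ht₁, ht₂⟩ := Scheme.exists_preimage_of_isPullback
        ((IsPullback.of_hasPullback g f).map (Scheme.Etale.forget X ⋙ Over.forget X)) z z' e.symm
      have h' : (pullback.fst g f).left ⁻¹ᵁ (x g hg).down = (pullback.snd g f).left ⁻¹ᵁ (x f hf).down :=
        congrArg ULift.down (hx (pullback.fst g f) (pullback.snd g f) hg hf pullback.condition)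
      have h'' : (pullback.snd g f).left t ∈ (x f hf).down := by
        rw [show (pullback.snd g f).left t = z' from ht₂]
        exact hz'
      have : (pullback.fst g f).left t ∈ (x g hg).down := (h' ▸ h'' : t ∈ (pullback.fst g f).left ⁻¹ᵁ (x g hg).down)
      rwa [show (pullback.fst g f).left t = z from ht₁] at this
    · exact Set.mem_iUnion.2 ⟨Z, Set.mem_iUnion.2 ⟨g, Set.mem_iUnion.2 ⟨hg, z, hz, rfl⟩⟩⟩
  refine ⟨ULift.up O, fun Z g hg => ?_, fun y hy => ?_⟩
  · exact congrArg ULift.up (TopologicalSpace.Opens.ext (Set.ext fun z => hO Z g hg z))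
  · refine congrArg ULift.up (TopologicalSpace.Opens.ext (Set.ext fun u => ?_))
    obtain ⟨Z, g, z, hg, rfl⟩ := hcov u
    exact (Set.ext_iff.1 (congrArg (fun O => ((O : ULift.{u + 1} Z.left.Opens).down : Set Z.left)) (hy g hg)) z).trans
      (hO Z g hg z).symm

/-- The sheaf of open subsets. -/
noncomputable def opensSh (X : Scheme.{u}) : EtDesc.Sh X :=
  ⟨opensPre X, (isSheaf_iff_isSheaf_of_type _ _).2 (opensPre_isSheaf X)⟩

theorem secPull_eq_iff {S T : Scheme.{u}} (g : T ⟶ S) (G : EtDesc.Sh S) (a b : G.obj.obj (op (EtCoh.top S))) :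
    EtDesc.secPull g G a = EtDesc.secPull g G b ↔ up g G (EtCoh.top S) a = up g G (EtCoh.top S) b :=
  ((((EtDesc.pullSh g).obj G).obj.mapIso (EtCore.bcTopIso g).symm.op).toEquiv.injective.eq_iff
    (a := up g G (EtCoh.top S) a) (b := up g G (EtCoh.top S) b))

/-- An open subset containing the image of a morphism with injective pullbacks of sections is everything. -/
theorem eq_top_of_injective_secPull {X Y : Scheme.{u}} (h : Y ⟶ X)
    (hinj : ∀ F : EtDesc.Sh X, Function.Injective (EtDesc.secPull h F)) (W : Set X) (hW : IsOpen W)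
    (hr : ∀ y, h y ∈ W) (x : X) : x ∈ W := by
  let O : (EtCoh.top X).left.Opens := ⟨W, hW⟩
  have e : (ULift.up O : (opensSh X).obj.obj (op (EtCoh.top X))) = ULift.up ⊤ := by
    refine hinj (opensSh X) ((secPull_eq_iff h (opensSh X) _ _).2 (eq_of_locEq _ fun z => locEq_up h (opensSh X) ?_))
    let W' := EtFound.restrictEtale (EtCoh.top X) O
    have hz : pr h (EtCoh.top X) z ∈ O := by
      have := hr (((EtCoh.bc h).obj (EtCoh.top X)).hom z)
      rwa [← EtH0Lib.pullback_hom_point (W := EtCoh.top X) (f := h) z] at this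
    refine ⟨W', EtFound.restrictEtaleHom (EtCoh.top X) O, ⟨(⟨_, hz⟩ : O.toScheme), rfl⟩, ?_⟩
    exact congrArg ULift.up (TopologicalSpace.Opens.ext (Set.ext fun w => iff_of_true w.2 trivial))
  have e' : (W : Set X) = Set.univ := congrArg (fun O : ULift.{u + 1} (EtCoh.top X).left.Opens => ((O.down : (EtCoh.top X).left.Opens) : Set (EtCoh.top X).left)) e
  rw [e']; trivial

/-- Two pullbacks in a row, over any etale scheme. -/
theorem via_map_up {T S X : Scheme.{u}} (g : T ⟶ S) (a : S ⟶ X) (b : T ⟶ X) (w : g ≫ a = b) (F : EtDesc.Sh X)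
    {U : X.Etale} (x : F.obj.obj (op U)) {W : T.Etale} (m : W ⟶ (EtCoh.bc g).obj ((EtCoh.bc a).obj U))
    (n : W ⟶ (EtCoh.bc b).obj U) (hn : n ≫ viaC g a b w U = m) :
    (EtDesc.pullVia g a b w F).hom.hom.app (op W)
      (((EtDesc.pullSh g).obj ((EtDesc.pullSh a).obj F)).obj.map m.op
        (up g ((EtDesc.pullSh a).obj F) _ (up a F U x))) = ((EtDesc.pullSh b).obj F).obj.map n.op (up b F U x) := by
  subst hn
  rw [← mapF, NatTrans.naturality_apply]
  exact congrArg (((EtDesc.pullSh b).obj F).obj.map n.op) (unit_viaC g a b w F U x)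

theorem injective_secPull_of_surjective {S T : Scheme.{u}} (g : T ⟶ S) [Surjective g] (G : EtDesc.Sh S) :
    Function.Injective (EtDesc.secPull g G) :=
  secPull_injective_of_meets g fun x => by
    obtain ⟨z, rfl⟩ := g.surjective x
    exact ⟨z, specializes_rfl⟩

variable {X Y Xb Yb : Scheme.{u}} (h : Y ⟶ X) (p : Xb ⟶ X) (hb : Yb ⟶ Xb) (pY : Yb ⟶ Y)

theorem injective_of_surjective (w : hb ≫ p = pY ≫ h) [Surjective p]
    (hinj : ∀ Fb : EtDesc.Sh Xb, Function.Injective (EtDesc.secPull hb Fb)) (F : EtDesc.Sh X) :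
    Function.Injective (EtDesc.secPull h F) := fun s s' e => by
  refine injective_secPull_of_surjective p F (hinj _ ?_)
  refine (((sheafToPresheaf _ _).mapIso (EtDesc.pullVia hb p (pY ≫ h) w F)).app (op (EtCoh.top Yb))).toEquiv.injective ?_
  show (EtDesc.pullVia hb p (pY ≫ h) w F).hom.hom.app _ _ = (EtDesc.pullVia hb p (pY ≫ h) w F).hom.hom.app _ _
  rw [via_secPull, via_secPull, ← via_secPull pY h (pY ≫ h) rfl F s, e, via_secPull]

theorem viaC_bcSquare (w : hb ≫ p = pY ≫ h) (V : X.Etale) :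
    viaC pY h (pY ≫ h) rfl V ≫ EtFound.bcSquare w V = viaC hb p (pY ≫ h) w V := by
  obtain ⟨a₁, a₂⟩ := viaC_left pY h (pY ≫ h) rfl V
  obtain ⟨b₁, b₂⟩ := viaC_left hb p (pY ≫ h) w V
  refine MorphismProperty.Over.Hom.ext (pullback.hom_ext (pullback.hom_ext ?_ ?_) ?_)
  · refine Eq.trans ?_ b₁.symm
    refine (Category.assoc _ _ _).trans ((Category.assoc _ _ _).trans
      ((congrArg ((viaC pY h (pY ≫ h) rfl V).left ≫ ·) (EtFound.bcSquare_fst w V)).trans ?_))
    exact (Category.assoc _ _ _).symm.trans a₁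
  · refine Eq.trans ?_ b₂.symm
    refine (Category.assoc _ _ _).trans ((congrArg ((viaC pY h (pY ≫ h) rfl V ≫ EtFound.bcSquare w V).left ≫ ·)
      (pullback.condition (f := ((EtCoh.bc p).obj V).hom) (g := hb))).trans ?_)
    exact (Category.assoc _ _ _).symm.trans
      (congrArg (· ≫ hb) (MorphismProperty.Over.w (viaC pY h (pY ≫ h) rfl V ≫ EtFound.bcSquare w V)))
  · exact (MorphismProperty.Over.w (viaC pY h (pY ≫ h) rfl V ≫ EtFound.bcSquare w V)).trans
      (MorphismProperty.Over.w (viaC hb p (pY ≫ h) w V)).symm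

theorem locEq_of_mono {S : Scheme.{u}} {A B : EtDesc.Sh S} (a : A ⟶ B) [Mono a] {U : S.Etale}
    {x y : A.obj.obj (op U)} {z : U.left} (e : LocEq B.obj (a.hom.app (op U) x) (a.hom.app (op U) y) z) :
    LocEq A.obj x y z := by
  obtain ⟨W, k, hz, he⟩ := e
  refine ⟨W, k, hz, injective_app_of_mono a W ?_⟩
  rw [NatTrans.naturality_apply a.hom, NatTrans.naturality_apply a.hom, he]

theorem up_map_toTop {S T : Scheme.{u}} (g : T ⟶ S) (G : EtDesc.Sh S) {U : S.Etale} {W : T.Etale}
    {H : EtDesc.Sh T} (φ : (EtDesc.pullSh g).obj G ⟶ H) (c : W ⟶ (EtCoh.bc g).obj U)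
    (s : G.obj.obj (op (EtCoh.top S))) (σ : G.obj.obj (op U)) (hσ : σ = G.obj.map (toTop U).op s) :
    φ.hom.app (op W) (((EtDesc.pullSh g).obj G).obj.map c.op (up g G U σ)) =
      H.obj.map (toTop W).op (φ.hom.app (op (EtCoh.top T)) (EtDesc.secPull g G s)) := by
  subst hσ
  exact via_res g G φ c s

/-- Bijectivity of pullback of sections descends along surjective morphisms. -/
theorem bijective_of_surjective (w : hb ≫ p = pY ≫ h) [Surjective p] [Surjective pY]
    (hbij : ∀ Fb : EtDesc.Sh Xb, Function.Bijective (EtDesc.secPull hb Fb))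
    (hmono : ∀ Fb : EtDesc.Sh Xb, Mono (EtBC.baseChange0Sh p h pY hb w Fb)) (F : EtDesc.Sh X) :
    Function.Bijective (EtDesc.secPull h F) := by
  have hinj := injective_of_surjective h p hb pY w fun Fb => (hbij Fb).1
  refine ⟨hinj F, fun t => ?_⟩
  let b := pY ≫ h
  let Fb := (EtDesc.pullSh p).obj F
  let G := (EtDesc.pushSh p).obj Fb
  let η : F ⟶ G := (EtDesc.adjSh p).unit.app F
  have hη : ∀ U, Function.Injective (η.hom.app (op U)) := fun U x y e => eq_of_locEq F fun v => by
    obtain ⟨z, rfl⟩ := (MorphismProperty.pullback_fst (P := @Surjective) U.hom p inferInstance).surj v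
    refine locEq_of_up p F ?_
    rw [show up p F U x = up p F U y from e]
    exact LocEq.refl _ _
  obtain ⟨sb, hsb⟩ := (hbij Fb).2 ((EtDesc.pullVia hb p b w F).inv.hom.app (op (EtCoh.top Yb)) (tau pY h b rfl t))
  have hsb' : tau hb p b w sb = tau pY h b rfl t := by
    show (EtDesc.pullVia hb p b w F).hom.hom.app _ _ = _
    rw [hsb]
    exact app_inv_apply (EtDesc.pullVia hb p b w F).symm _ _
  let σ : G.obj.obj (op (EtCoh.top X)) := Fb.obj.map (EtCore.bcTopIso p).hom.op sb
  have hloc : ∀ y : Y, LocIn η σ (show (EtCoh.top X).left from h y) := fun y => by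
    obtain ⟨V, x, z, m, hz, hm⟩ := exists_locEq_up h F t y
    rw [(EtCore.topIsTerminal Y).hom_ext m (toTop _)] at hm
    have key : LocEq G.obj (η.hom.app (op V) x) (G.obj.map (toTop V).op σ) (pr h V z) := by
      refine locEq_of_up h G ?_
      haveI := hmono Fb
      refine locEq_of_mono (EtBC.baseChange0Sh p h pY hb w Fb) ?_
      rw [baseChange0Sh_up p h pY hb w Fb V, baseChange0Sh_up p h pY hb w Fb V]
      obtain ⟨W₁, k, hz₁, hk⟩ := hm
      refine ⟨W₁, k, hz₁, ?_⟩
      let c : (EtCoh.bc pY).obj W₁ ⟶ (EtCoh.bc hb).obj ((EtCoh.bc p).obj V) :=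
        (EtCoh.bc pY).map k ≫ EtFound.bcSquare w V
      let T := ((sheafToPresheaf _ _).mapIso (EtDesc.pullVia hb p b w F)).app (op ((EtCoh.bc pY).obj W₁))
      show ((EtDesc.pullSh hb).obj Fb).obj.map ((EtCoh.bc pY).map k).op
          (((EtDesc.pullSh hb).obj Fb).obj.map (EtFound.bcSquare w V).op (up hb Fb _ (up p F V x))) =
        ((EtDesc.pullSh hb).obj Fb).obj.map ((EtCoh.bc pY).map k).op
          (((EtDesc.pullSh hb).obj Fb).obj.map (EtFound.bcSquare w V).op (up hb Fb _ (G.obj.map (toTop V).op σ)))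
      rw [mapF, mapF]
      refine T.toEquiv.injective ?_
      show (EtDesc.pullVia hb p b w F).hom.hom.app _ _ = (EtDesc.pullVia hb p b w F).hom.hom.app _ _
      haveI := isIso_viaC pY h b rfl V
      have hR := up_map_toTop hb Fb (EtDesc.pullVia hb p b w F).hom c sb (G.obj.map (toTop V).op σ) (by
        show Fb.obj.map ((EtCoh.bc p).map (toTop V)).op (Fb.obj.map (EtCore.bcTopIso p).hom.op sb) = _
        rw [mapF, (EtCore.topIsTerminal Xb).hom_ext ((EtCoh.bc p).map (toTop V) ≫ (EtCore.bcTopIso p).hom) (toTop _)])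
      have hL := via_map_up hb p b w F x c (((EtCoh.bc pY).map k) ≫ inv (viaC pY h b rfl V)) (by
        rw [← viaC_bcSquare h p hb pY w V, Category.assoc, IsIso.inv_hom_id_assoc])
      have hM := via_map_up pY h b rfl F x ((EtCoh.bc pY).map k) (((EtCoh.bc pY).map k) ≫ inv (viaC pY h b rfl V))
        (by rw [Category.assoc, IsIso.inv_hom_id, Category.comp_id])
      have hN := up_map_toTop pY ((EtDesc.pullSh h).obj F) (EtDesc.pullVia pY h b rfl F).hom (𝟙 _) t
        (((EtDesc.pullSh h).obj F).obj.map k.op (up h F V x)) (hk.trans (map_toTop _ k t))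
      rw [op_id, CategoryTheory.Functor.map_id, ConcreteCategory.id_apply, up_map, hM] at hN
      refine hL.trans (hN.trans (Eq.trans ?_ hR.symm))
      exact congrArg (((EtDesc.pullSh b).obj F).obj.map (toTop ((EtCoh.bc pY).obj W₁)).op) hsb'.symm
    have hin := LocIn.of_map (toTop V) (key.symm.locIn (locIn_range x _))
    rwa [show (toTop V).left (pr h V z) = (show (EtCoh.top X).left from h y) from
      (toTop_left_apply _ _).trans ((EtH0Lib.pullback_hom_point z).trans (congrArg h hz))] at hin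
  obtain ⟨s, hs⟩ := mem_range_of_locIn (y := σ) hη fun x => eq_top_of_injective_secPull h hinj
    {x | LocIn η σ (show (EtCoh.top X).left from x)} (isOpen_locIn σ) hloc (show X from x)
  have hsp : EtDesc.secPull p F s = sb := by
    show Fb.obj.map (EtCore.bcTopIso p).inv.op (η.hom.app (op (EtCoh.top X)) s) = sb
    rw [hs, mapF, Iso.inv_hom_id, op_id, CategoryTheory.Functor.map_id]
    rfl
  refine ⟨s, injective_secPull_of_surjective pY _ ?_⟩
  refine (((sheafToPresheaf _ _).mapIso (EtDesc.pullVia pY h b rfl F)).app (op (EtCoh.top Yb))).toEquiv.injective ?_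
  show tau pY h b rfl (EtDesc.secPull h F s) = tau pY h b rfl t
  rw [← hsb', ← hsp]
  exact (via_secPull pY h b rfl F s).trans (via_secPull hb p b w F s).symm

end Groth.Agent.EtPBC0
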