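import Groth.Agent.EtPBC0.ZeroAcyc
import Groth.Agent.EtPBC0.StrictTensor
import Groth.Agent.EtPBC0.SurjDesc

/-!
# 0-acyclic morphisms to irreducible schemes have connected preimages of opens
-/

set_option autoImplicit false
set_option linter.style.haveILetI false

universe u

open CategoryTheory CategoryTheory.Limits AlgebraicGeometry Opposite TopologicalSpace
open Groth.Agent.BigSiteLib.DescSec Groth.Agent.EtH0Lib
open scoped TensorProduct

namespace Groth.Agent.EtPBC0

set_option backward.isDefEq.respectTransparency false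
set_option backward.isDefEq.respectTransparency.types false

theorem isUnit_of_basicOpen_eq_top {T : Type u} [CommRing T] {e : T} (h : PrimeSpectrum.basicOpen e = ⊤) : IsUnit e := by
  by_contra he
  obtain ⟨P, hP, heP⟩ := exists_max_ideal_of_mem_nonunits (mem_nonunits_iff.2 he)
  have : (⟨P, hP.isPrime⟩ : PrimeSpectrum T) ∈ PrimeSpectrum.basicOpen e := h ▸ trivial
  exact this heP

theorem bijective_secPull_of_isIso_unit {P V : Scheme.{u}} (p : P ⟶ V) (F : EtDesc.Sh V)
    [IsIso ((EtDesc.adjSh p).unit.app F)] : Function.Bijective (EtDesc.secPull p F) := by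
  haveI : IsIso ((sheafToPresheaf _ _).map ((EtDesc.adjSh p).unit.app F)) := Functor.map_isIso _ _
  have h : Function.Bijective (up p F (EtCoh.top V)) :=
    (isIso_iff_bijective _).1
      (inferInstanceAs (IsIso (((sheafToPresheaf _ _).map ((EtDesc.adjSh p).unit.app F)).app (op (EtCoh.top V)))))
  have h2 : Function.Bijective (((EtDesc.pullSh p).obj F).obj.map (EtCore.bcTopIso p).inv.op) :=
    (((EtDesc.pullSh p).obj F).obj.mapIso (EtCore.bcTopIso p).symm.op).toEquiv.bijective
  exact h2.comp h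

theorem exists_glue_disjoint {P : Scheme.{u}} (R : EtDesc.Sh P) {ι : Type u} (U : ι → (EtCoh.top P).left.Opens)
    (hU : ∀ w, ∃ i, w ∈ U i) (hdis : ∀ i j w, w ∈ U i → w ∈ U j → i = j) (s : ι → R.obj.obj (op (EtCoh.top P))) :
    ∃ γ, ∀ i w, w ∈ U i → LocEq R.obj γ (s i) w := by
  let W : ι → P.Etale := fun i => EtFound.restrictEtale (EtCoh.top P) (U i)
  let m : ∀ i, W i ⟶ EtCoh.top P := fun i => EtFound.restrictEtaleHom (EtCoh.top P) (U i)
  have hcov : Sieve.generate (Presieve.ofArrows W m) ∈ P.smallEtaleTopology (EtCoh.top P) := by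
    rw [EtFound.mem_topology_iff]
    intro w
    obtain ⟨i, hi⟩ := hU w
    exact ⟨W i, m i, ⟨w, hi⟩, ⟨_, 𝟙 _, _, ⟨i⟩, Category.id_comp _⟩, rfl⟩
  obtain ⟨γ, hγ, -⟩ := (Presieve.isSheafFor_arrows_iff _ _).1 ((Presieve.isSheafFor_iff_generate _).2
    (((isSheaf_iff_isSheaf_of_type _ _).1 R.property) _ hcov)) (fun i => R.obj.map (m i).op (s i)) fun i j Y p q e => by
      refine eq_of_locEq R fun y => ?_
      obtain rfl := hdis i j ((m i).left (p.left y)) (p.left y).2 (by
        rw [show (m i).left (p.left y) = (m j).left (q.left y) from congrArg (fun k : Y ⟶ EtCoh.top P => k.left y) e]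
        exact (q.left y).2)
      rw [mapF, mapF, e]
      exact LocEq.refl _ _
  exact ⟨γ, fun i w hw => LocEq.of_map (m i) (z := (⟨w, hw⟩ : (W i).left))
    (by rw [hγ i]; exact LocEq.refl _ _)⟩

theorem exists_glue_clopen {P : Scheme.{u}} (R : EtDesc.Sh P) (C : Set P) (hC : IsClopen C)
    (s₁ s₂ : R.obj.obj (op (EtCoh.top P))) :
    ∃ γ, ∀ p : P, (p ∈ C → LocEq R.obj γ s₁ (show (EtCoh.top P).left from p)) ∧
      (p ∉ C → LocEq R.obj γ s₂ (show (EtCoh.top P).left from p)) := by
  obtain ⟨γ, hγ⟩ := exists_glue_disjoint R (ι := ULift.{u} Bool)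
    (fun i => bif i.down then ⟨C, hC.2⟩ else ⟨Cᶜ, hC.compl.2⟩)
    (fun w => by
      by_cases hw : (show P from w) ∈ C
      · exact ⟨⟨true⟩, hw⟩
      · exact ⟨⟨false⟩, hw⟩)
    (fun i j w hi hj => by
      obtain ⟨_ | _⟩ := i <;> obtain ⟨_ | _⟩ := j
      · rfl
      · exact (hi hj).elim
      · exact (hj hi).elim
      · rfl)
    (fun i => bif i.down then s₁ else s₂)
  exact ⟨γ, fun p => ⟨fun hp => hγ ⟨true⟩ p hp, fun hp => hγ ⟨false⟩ p hp⟩⟩

theorem locEq_of_locEq_secPull {P V : Scheme.{u}} (π : P ⟶ V) (G : EtDesc.Sh V) (a b : G.obj.obj (op (EtCoh.top V)))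
    (p : P) (h : LocEq ((EtDesc.pullSh π).obj G).obj (EtDesc.secPull π G a) (EtDesc.secPull π G b)
      (show (EtCoh.top P).left from p)) : LocEq G.obj a b (show (EtCoh.top V).left from π p) := by
  obtain ⟨v', hv', hv''⟩ := Scheme.Pullback.exists_preimage_pullback (f := (EtCoh.top V).hom) (g := π)
    (show (EtCoh.top V).left from π p) p rfl
  have ht : (toTop ((EtCoh.bc π).obj (EtCoh.top V))).left v' = (show (EtCoh.top P).left from p) := by
    rw [toTop_left_apply]; exact hv''
  rw [← ht] at h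
  have h' := h.map (toTop ((EtCoh.bc π).obj (EtCoh.top V)))
  simp only [map_toTop_secPull, map_top_self] at h'
  have h'' := locEq_of_up π G h'
  rwa [show pr π (EtCoh.top V) v' = _ from hv'] at h''

theorem mem_iff_of_locEq_opens {V : Scheme.{u}} (A B : (EtCoh.top V).left.Opens) (x : (EtCoh.top V).left)
    (h : LocEq (opensSh V).obj (ULift.up A) (ULift.up B) x) : x ∈ A ↔ x ∈ B := by
  obtain ⟨U', k, ⟨u', hu'⟩, e⟩ := h
  have e' : k.left ⁻¹ᵁ A = k.left ⁻¹ᵁ B := congrArg ULift.down e
  rw [← hu']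
  exact (SetLike.ext_iff.1 e' u')

theorem exists_open_of_clopen {P V : Scheme.{u}} (π : P ⟶ V)
    (H : ∀ G : EtDesc.Sh V, Function.Bijective (EtDesc.secPull π G)) (C : Set P) (hC : IsClopen C) :
    ∃ O : Set V, IsOpen O ∧ C = π ⁻¹' O := by
  obtain ⟨γ, hγ⟩ := exists_glue_clopen ((EtDesc.pullSh π).obj (opensSh V)) C hC
    (EtDesc.secPull π (opensSh V) (ULift.up ⊤)) (EtDesc.secPull π (opensSh V) (ULift.up ⊥))
  obtain ⟨⟨O⟩, hO⟩ := (H (opensSh V)).2 γ
  refine ⟨(O : Set (EtCoh.top V).left), O.isOpen, Set.ext fun p => ?_⟩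
  subst hO
  by_cases hp : p ∈ C
  · exact iff_of_true hp ((mem_iff_of_locEq_opens O ⊤ _ (locEq_of_locEq_secPull π _ _ _ p ((hγ p).1 hp))).2 trivial)
  · exact iff_of_false hp fun h =>
      ((mem_iff_of_locEq_opens O ⊥ _ (locEq_of_locEq_secPull π _ _ _ p ((hγ p).2 hp))).1 h).elim

variable {M Y : Scheme.{u}} {h : M ⟶ Y}

theorem nonempty_preimage_of_zeroAcyclic (hh : EtAcyc.IsZeroAcyclic h) {U : Y.Opens} {y : Y} (hy : y ∈ U) :
    ∃ m : M, h m ∈ U := by
  by_contra hne
  push Not at hne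
  haveI : ∀ G, IsIso ((EtDesc.adjSh (EtAcyc.prj h (EtDesc.ofOpen U))).unit.app G) := fun G => hh _ G
  refine (eq_top_of_injective_secPull (EtAcyc.prj h (EtDesc.ofOpen U))
    (fun G => (bijective_secPull_of_isIso_unit _ G).1) ∅ isOpen_empty (fun p => ?_) (⟨y, hy⟩ : U.toScheme) : _)
  refine (hne (pullback.snd (EtDesc.ofOpen U).hom h p) ?_).elim
  rw [← Scheme.Hom.comp_apply, ← pullback.condition, Scheme.Hom.comp_apply]
  exact (pullback.fst (EtDesc.ofOpen U).hom h p).2

theorem preimage_connected_of_zeroAcyclic [IrreducibleSpace Y] (hh : EtAcyc.IsZeroAcyclic h) {U : Y.Opens} {y : Y}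
    (hy : y ∈ U) : _root_.IsConnected (h ⁻¹' (U : Set Y)) := by
  let E := EtDesc.ofOpen U
  let π := EtAcyc.prj h E
  haveI : ∀ G, IsIso ((EtDesc.adjSh π).unit.app G) := fun G => hh _ G
  have hrange : Set.range (pullback.snd E.hom h) = h ⁻¹' (U : Set Y) := by
    rw [Scheme.Pullback.range_snd, show Set.range E.hom = (U : Set Y) from U.range_ι]
    rfl
  have hπ : ∀ p, h (pullback.snd E.hom h p) = U.ι (π p) := fun p => by
    rw [← Scheme.Hom.comp_apply, ← pullback.condition, Scheme.Hom.comp_apply]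
    rfl
  haveI : Nonempty ↥(pullback E.hom h) := by
    obtain ⟨m, hm⟩ := nonempty_preimage_of_zeroAcyclic hh hy
    obtain ⟨p, -⟩ := Scheme.Pullback.exists_preimage_pullback (f := E.hom) (g := h) (⟨h m, hm⟩ : U.toScheme) m rfl
    exact ⟨p⟩
  haveI : ConnectedSpace ↥(pullback E.hom h) := by
    rw [connectedSpace_iff_clopen]
    refine ⟨inferInstance, fun C hC => ?_⟩
    obtain ⟨O, hO, hCO⟩ := exists_open_of_clopen π (fun G => bijective_secPull_of_isIso_unit π G) C hC
    obtain ⟨O', hO', hCO'⟩ := exists_open_of_clopen π (fun G => bijective_secPull_of_isIso_unit π G) _ hC.compl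
    by_contra hne
    push Not at hne
    obtain ⟨c, hc⟩ := hne.1
    obtain ⟨c', hc'⟩ := Set.nonempty_compl.2 hne.2
    obtain ⟨v, hv, hv'⟩ := nonempty_preirreducible_inter (U.ι.isOpenEmbedding.isOpenMap _ hO)
      (U.ι.isOpenEmbedding.isOpenMap _ hO') ⟨_, π c, hCO.le hc, rfl⟩ ⟨_, π c', hCO'.le hc', rfl⟩
    obtain ⟨m, hm⟩ := nonempty_preimage_of_zeroAcyclic hh (U := ⟨U.ι '' O ∩ U.ι '' O',
      (U.ι.isOpenEmbedding.isOpenMap _ hO).inter (U.ι.isOpenEmbedding.isOpenMap _ hO')⟩) (y := v) ⟨hv, hv'⟩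
    obtain ⟨⟨w, hw, e⟩, ⟨w', hw', e'⟩⟩ := hm
    obtain ⟨p, hp, hp'⟩ := Scheme.Pullback.exists_preimage_pullback (f := E.hom) (g := h) w m e
    have h1 : p ∈ C := by rw [hCO]; show π p ∈ O; rw [show π p = w from hp]; exact hw
    have h2 : p ∈ Cᶜ := by
      rw [hCO']; show π p ∈ O'
      rw [show π p = w from hp, U.ι.isOpenEmbedding.injective (e.trans e'.symm)]; exact hw'
    exact h2 h1
  rw [← hrange, ← Set.image_univ]
  exact isConnected_univ.image _ (pullback.snd E.hom h).continuous.continuousOn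

/-- The generic fibre of a 0-acyclic affine morphism to an integral scheme is connected. -/
theorem connectedSpace_fraction_tensor {N M : Type u} [CommRing N] [IsDomain N] [CommRing M] [Algebra N M]
    (hh : EtAcyc.IsZeroAcyclic (Spec.map (CommRingCat.ofHom (algebraMap N M)))) (K : Type u) [Field K] [Algebra N K]
    [IsFractionRing N K] : ConnectedSpace (PrimeSpectrum (K ⊗[N] M)) := by
  haveI : IrreducibleSpace ↥(Spec (CommRingCat.of N)) := inferInstanceAs (IrreducibleSpace (PrimeSpectrum N))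
  have gen : ∀ a : N, a ≠ 0 → ∃ y : Spec (CommRingCat.of N), y ∈ (PrimeSpectrum.basicOpen a : (Spec (CommRingCat.of N)).Opens) :=
    fun a ha => ⟨⟨⊥, Ideal.isPrime_bot⟩, fun h => ha h⟩
  have hconn : ∀ a : N, a ≠ 0 → ConnectedSpace (PrimeSpectrum (Localization.Away (algebraMap N M a))) := fun a ha => by
    obtain ⟨y, hy⟩ := gen a ha
    have := preimage_connected_of_zeroAcyclic hh hy
    have he := PrimeSpectrum.localization_away_isOpenEmbedding (Localization.Away (algebraMap N M a)) (algebraMap N M a)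
    have hr := PrimeSpectrum.localization_away_comap_range (Localization.Away (algebraMap N M a)) (algebraMap N M a)
    have h2 : _root_.IsConnected (PrimeSpectrum.comap (algebraMap M (Localization.Away (algebraMap N M a))) '' Set.univ) := by
      rw [Set.image_univ, hr]
      exact this
    rw [connectedSpace_iff_univ]
    exact ⟨h2.nonempty.of_image, he.isInducing.isPreconnected_image.1 h2.isPreconnected⟩
  have key : ∀ e : K ⊗[N] M, IsIdempotentElem e → e = 0 ∨ e = 1 := by
    intro e he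
    obtain ⟨⟨m, s⟩, hs⟩ := IsLocalizedModule.surj (nonZeroDivisors N) (TensorProduct.mk N K M 1) e
    have hs' : algebraMap N (K ⊗[N] M) s * e = (1 : K) ⊗ₜ[N] m := by
      rw [← Algebra.smul_def]; exact hs
    have h0 : (TensorProduct.mk N K M 1) (m * m) = (TensorProduct.mk N K M 1) (algebraMap N M s * m) := by
      show (1 : K) ⊗ₜ[N] (m * m) = (1 : K) ⊗ₜ[N] (algebraMap N M s * m)
      rw [← Algebra.smul_def, TensorProduct.tmul_smul, Algebra.smul_def, show (1 : K) ⊗ₜ[N] (m * m) =
        ((1 : K) ⊗ₜ[N] m) * ((1 : K) ⊗ₜ[N] m) by rw [Algebra.TensorProduct.tmul_mul_tmul, one_mul], ← hs',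
        mul_mul_mul_comm, he.eq, mul_assoc]
    obtain ⟨s', hs''⟩ := (IsLocalizedModule.eq_iff_exists (nonZeroDivisors N) (TensorProduct.mk N K M 1)).1 h0
    have ha : (s : N) * s' ≠ 0 := mul_ne_zero (nonZeroDivisors.coe_ne_zero s) (nonZeroDivisors.coe_ne_zero s')
    let b := algebraMap N M ((s : N) * s')
    let Mb := Localization.Away b
    haveI := hconn _ ha
    haveI : Nontrivial Mb := PrimeSpectrum.nontrivial (Classical.arbitrary (PrimeSpectrum Mb))
    have hu : IsUnit (algebraMap M Mb (algebraMap N M s)) ∧ IsUnit (algebraMap M Mb (algebraMap N M s')) := by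
      rw [← IsUnit.mul_iff, ← map_mul, ← map_mul]
      exact IsLocalization.Away.algebraMap_isUnit b
    obtain ⟨u, hu'⟩ := hu.1
    have hid : IsIdempotentElem ((↑u⁻¹ : Mb) * algebraMap M Mb m) := by
      have h2 : algebraMap M Mb (m * m) = algebraMap M Mb (algebraMap N M s * m) := by
        refine hu.2.mul_left_cancel ?_
        rw [← map_mul, ← map_mul]
        refine congrArg _ ?_
        rwa [Submonoid.smul_def, Submonoid.smul_def, Algebra.smul_def, Algebra.smul_def] at hs''
      rw [map_mul, map_mul, ← hu'] at h2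
      show _ * _ = _
      rw [mul_mul_mul_comm, h2, mul_mul_mul_comm, Units.inv_mul, one_mul]
    have fin : ∀ m' : M, algebraMap M Mb m' = 0 → (1 : K) ⊗ₜ[N] m' = 0 := fun m' hm' => by
      obtain ⟨⟨_, k, rfl⟩, hk⟩ := (IsLocalization.map_eq_zero_iff (Submonoid.powers b) Mb m').1 hm'
      have hk' : (((s : N) * s') ^ k) • ((1 : K) ⊗ₜ[N] m') = 0 := by
        rw [← TensorProduct.tmul_smul, Algebra.smul_def, map_pow]
        exact (congrArg _ hk).trans (TensorProduct.tmul_zero _ _)
      rw [Algebra.smul_def, IsScalarTower.algebraMap_apply N K (K ⊗[N] M)] at hk'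
      exact (((IsUnit.mk0 _ ((map_ne_zero_iff _ (IsFractionRing.injective N K)).2 (pow_ne_zero k ha))).map _).mul_right_eq_zero).1 hk'
    have hsu : IsUnit (algebraMap N (K ⊗[N] M) s) := by
      rw [IsScalarTower.algebraMap_apply N K (K ⊗[N] M)]
      exact (IsUnit.mk0 _ ((map_ne_zero_iff _ (IsFractionRing.injective N K)).2 (nonZeroDivisors.coe_ne_zero s))).map _
    rcases isClopen_iff.1 (PrimeSpectrum.isClopen_iff.mpr ⟨_, hid, rfl⟩) with h | h
    · left
      have h1 : (↑u⁻¹ : Mb) * algebraMap M Mb m = 0 := hid.eq_zero_of_isNilpotent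
        ((PrimeSpectrum.basicOpen_eq_bot_iff _).1 (SetLike.coe_injective h))
      rw [Units.mul_right_eq_zero] at h1
      exact hsu.mul_right_eq_zero.1 (hs'.trans (fin m h1))
    · right
      have h1 : IsUnit ((↑u⁻¹ : Mb) * algebraMap M Mb m) :=
        isUnit_of_basicOpen_eq_top (SetLike.coe_injective h)
      have h2 : (↑u⁻¹ : Mb) * algebraMap M Mb m = 1 := (IsIdempotentElem.iff_eq_one_of_isUnit h1).1 hid
      rw [Units.inv_mul_eq_one, hu'] at h2
      have h3 := fin (m - algebraMap N M s) (by rw [map_sub, ← h2, sub_self])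
      rw [TensorProduct.tmul_sub, sub_eq_zero] at h3
      refine hsu.mul_left_cancel ?_
      rw [hs', h3, mul_one, ← Algebra.TensorProduct.includeRight_apply, AlgHom.commutes]
  haveI : Nontrivial (K ⊗[N] M) := by
    refine ⟨0, 1, fun h0 => ?_⟩
    have h1 : (TensorProduct.mk N K M 1) 0 = (TensorProduct.mk N K M 1) 1 := by rw [map_zero]; exact h0
    obtain ⟨s, hs⟩ := (IsLocalizedModule.eq_iff_exists (nonZeroDivisors N) (TensorProduct.mk N K M 1)).1 h1
    haveI := hconn s (nonZeroDivisors.coe_ne_zero s)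
    haveI : Nontrivial (Localization.Away (algebraMap N M s)) :=
      PrimeSpectrum.nontrivial (Classical.arbitrary (PrimeSpectrum _))
    have hb : algebraMap N M s = 0 := by
      rw [smul_zero, Submonoid.smul_def, Algebra.smul_def, mul_one] at hs
      exact hs.symm
    have hu := IsLocalization.Away.algebraMap_isUnit (S := Localization.Away (algebraMap N M s)) (algebraMap N M s)
    exact hu.ne_zero (by rw [hb, map_zero])
  exact connectedSpace_of_idem _ key

end Groth.Agent.EtPBC0
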