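import Groth.Agent.EtH0Lib.H0Tau

/-!
# Pulling sections over etale schemes back along lifts
-/

set_option autoImplicit false
set_option linter.style.haveILetI false

universe u

open CategoryTheory CategoryTheory.Limits AlgebraicGeometry Opposite TopologicalSpace
open Groth.Agent.BigSiteLib.DescSec Groth.Agent.EtH0Lib

namespace Groth.Agent.EtPBC0

set_option backward.isDefEq.respectTransparency.types false

variable {X S T : Scheme.{u}}

/-- A lift to an etale scheme as a section of the base change. -/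
noncomputable def secHom (k : S ⟶ X) (U : X.Etale) (σ : S ⟶ U.left) (w : σ ≫ U.hom = k) :
    EtCoh.top S ⟶ (EtCoh.bc k).obj U :=
  MorphismProperty.Over.homMk (pullback.lift σ (𝟙 S) (w.trans (Category.id_comp k).symm))
    (pullback.lift_snd _ _ _)

theorem secHom_fst (k : S ⟶ X) (U : X.Etale) (σ : S ⟶ U.left) (w : σ ≫ U.hom = k) :
    (secHom k U σ w).left ≫ pullback.fst U.hom k = σ := pullback.lift_fst _ _ _

theorem hom_top_ext {k : S ⟶ X} {U : X.Etale} {p q : EtCoh.top S ⟶ (EtCoh.bc k).obj U}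
    (h : p.left ≫ pullback.fst U.hom k = q.left ≫ pullback.fst U.hom k) : p = q :=
  MorphismProperty.Over.Hom.ext (pullback.hom_ext h
    ((MorphismProperty.Over.w p).trans (MorphismProperty.Over.w q).symm))

theorem pr_secHom (k : S ⟶ X) (U : X.Etale) (σ : S ⟶ U.left) (w : σ ≫ U.hom = k) (p : S) :
    pr k U ((secHom k U σ w).left p) = σ p :=
  (Scheme.Hom.comp_apply _ _ p).symm.trans (congrArg (fun q : S ⟶ U.left => q p) (secHom_fst k U σ w))

/-- A section over an etale scheme pulled back along a lift. -/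
noncomputable def atPt (k : S ⟶ X) (F : EtDesc.Sh X) (U : X.Etale) (σ : S ⟶ U.left) (w : σ ≫ U.hom = k)
    (x : F.obj.obj (op U)) : ((EtDesc.pullSh k).obj F).obj.obj (op (EtCoh.top S)) :=
  ((EtDesc.pullSh k).obj F).obj.map (secHom k U σ w).op (up k F U x)

theorem atPt_map (k : S ⟶ X) (F : EtDesc.Sh X) {U V : X.Etale} (m : V ⟶ U) (σ : S ⟶ V.left)
    (w : σ ≫ V.hom = k) (σ' : S ⟶ U.left) (w' : σ' ≫ U.hom = k) (e : σ ≫ m.left = σ') (x : F.obj.obj (op U)) :
    atPt k F V σ w (F.obj.map m.op x) = atPt k F U σ' w' x := by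
  rw [atPt, atPt, up_map, mapF]
  have : secHom k V σ w ≫ (EtCoh.bc k).map m = secHom k U σ' w' := hom_top_ext (by
    refine ((Category.assoc _ _ _).trans ((congrArg ((secHom k V σ w).left ≫ ·) (pullback.lift_fst _ _ _)).trans
      ((Category.assoc _ _ _).symm.trans ((congrArg (· ≫ m.left) (secHom_fst k V σ w)).trans
        (e.trans (secHom_fst k U σ' w').symm))))))
  rw [this]

theorem isIso_viaC (g : T ⟶ S) (a : S ⟶ X) (b : T ⟶ X) (w : g ≫ a = b) (V : X.Etale) :
    IsIso (viaC g a b w V) := by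
  haveI := isIso_bcC g a V
  delta viaC
  infer_instance

/-- Two pullbacks in a row. -/
theorem pullVia_map_up (g : T ⟶ S) (a : S ⟶ X) (b : T ⟶ X) (w : g ≫ a = b) (F : EtDesc.Sh X) (U : X.Etale)
    (x : F.obj.obj (op U)) (m : EtCoh.top T ⟶ (EtCoh.bc g).obj ((EtCoh.bc a).obj U)) (σ : T ⟶ U.left)
    (hσ : σ ≫ U.hom = b)
    (hm : m.left ≫ pullback.fst ((EtCoh.bc a).obj U).hom g ≫ pullback.fst U.hom a = σ) :
    (EtDesc.pullVia g a b w F).hom.hom.app (op (EtCoh.top T))
      (((EtDesc.pullSh g).obj ((EtDesc.pullSh a).obj F)).obj.map m.op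
        (up g ((EtDesc.pullSh a).obj F) _ (up a F U x))) = atPt b F U σ hσ x := by
  haveI := isIso_viaC g a b w U
  have e : m = (m ≫ inv (viaC g a b w U)) ≫ viaC g a b w U := by
    rw [Category.assoc, IsIso.inv_hom_id, Category.comp_id]
  have e2 : m ≫ inv (viaC g a b w U) = secHom b U σ hσ := hom_top_ext (by
    rw [secHom_fst]
    have h1 := (viaC_left g a b w U).1
    have h2 : m.left = (m ≫ inv (viaC g a b w U)).left ≫ (viaC g a b w U).left :=
      congrArg (fun q : EtCoh.top T ⟶ _ => q.left) e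
    rw [← h1, ← hm]
    conv_rhs => rw [h2]
    simp only [Category.assoc])
  rw [e2] at e
  rw [e, ← mapF, atPt, NatTrans.naturality_apply]
  exact congrArg (((EtDesc.pullSh b).obj F).obj.map (secHom b U σ hσ).op) (unit_viaC g a b w F U x)

/-- Pulling back a section pulled back along a lift. -/
theorem tau_atPt (g : T ⟶ S) (a : S ⟶ X) (b : T ⟶ X) (w : g ≫ a = b) (F : EtDesc.Sh X) (U : X.Etale)
    (σ : S ⟶ U.left) (hσ : σ ≫ U.hom = a) (σ' : T ⟶ U.left) (hσ' : σ' ≫ U.hom = b) (e : g ≫ σ = σ')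
    (x : F.obj.obj (op U)) :
    tau g a b w (atPt a F U σ hσ x) = atPt b F U σ' hσ' x := by
  have h : EtDesc.secPull g ((EtDesc.pullSh a).obj F) (atPt a F U σ hσ x) =
      ((EtDesc.pullSh g).obj ((EtDesc.pullSh a).obj F)).obj.map
        ((EtCore.bcTopIso g).inv ≫ (EtCoh.bc g).map (secHom a U σ hσ)).op
        (up g ((EtDesc.pullSh a).obj F) _ (up a F U x)) := by
    rw [atPt, ← mapF, ← up_map]
    rfl
  show (EtDesc.pullVia g a b w F).hom.hom.app _ _ = _
  rw [h]
  refine pullVia_map_up g a b w F U x _ σ' hσ' ?_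
  subst e
  have h1 : ((EtCore.bcTopIso g).inv.left ≫ pullback.fst (EtCoh.top S).hom g) ≫ (𝟙 S) = 𝟙 T ≫ g := by
    refine (Category.assoc _ _ _).trans ?_
    have hw := MorphismProperty.Over.w (EtCore.bcTopIso g).inv
    refine ((congrArg ((EtCore.bcTopIso g).inv.left ≫ ·) (pullback.condition (f := (EtCoh.top S).hom) (g := g))).trans
      ((Category.assoc _ _ _).symm.trans (congrArg (· ≫ g) hw)))
  replace h1 := (Category.comp_id _).symm.trans (h1.trans (Category.id_comp g))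
  refine (Category.assoc _ _ _).trans ?_
  refine (congrArg ((EtCore.bcTopIso g).inv.left ≫ ·) ((Category.assoc _ _ _).symm.trans
    ((congrArg (· ≫ pullback.fst U.hom a) (pullback.lift_fst _ _ _)).trans (Category.assoc _ _ _)))).trans ?_
  refine (Category.assoc _ _ _).symm.trans ?_
  exact (congrArg (((EtCore.bcTopIso g).inv.left ≫ pullback.fst (EtCoh.top S).hom g) ≫ ·)
    (secHom_fst a U σ hσ)).trans (congrArg (· ≫ σ) h1)

theorem locEq_of_tau_eq (g : T ⟶ S) (a : S ⟶ X) (b : T ⟶ X) (w : g ≫ a = b) {F : EtDesc.Sh X}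
    {σ σ' : ((EtDesc.pullSh a).obj F).obj.obj (op (EtCoh.top S))} (h : tau g a b w σ = tau g a b w σ') (t : T) :
    LocEq ((EtDesc.pullSh a).obj F).obj σ σ' (show (EtCoh.top S).left from g t) := by
  let G := (EtDesc.pullSh a).obj F
  have h' : EtDesc.secPull g G σ = EtDesc.secPull g G σ' :=
    (((sheafToPresheaf _ _).mapIso (EtDesc.pullVia g a b w F)).app (op (EtCoh.top T))).toEquiv.injective h
  obtain ⟨z', hz'₁, -⟩ := Scheme.Pullback.exists_preimage_pullback (f := (EtCoh.top S).hom) (g := g)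
    (show (EtCoh.top S).left from g t) t rfl
  have h'' := congrArg (((EtDesc.pullSh g).obj G).obj.map (EtCore.bcTopIso g).hom.op) h'
  simp only [EtDesc.secPull, mapF, Iso.hom_inv_id, op_id, CategoryTheory.Functor.map_id] at h''
  have e : up g G (EtCoh.top S) σ = up g G (EtCoh.top S) σ' := h''
  have := locEq_of_up g G (a := σ) (b := σ') (z := z') (by rw [e]; exact LocEq.refl _ _)
  rwa [show pr g (EtCoh.top S) z' = g t from hz'₁] at this

theorem bcMap_comp {R : Scheme.{u}} (h : R ⟶ T) (g : T ⟶ S) (a : S ⟶ X) (b : T ⟶ X) (w : g ≫ a = b)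
    (c : R ⟶ X) (w₁ : h ≫ b = c) (w₂ : (h ≫ g) ≫ a = c) (V : X.Etale) (y : ((EtCoh.bc c).obj V).left) :
    bcMap g a b w V (bcMap h b c w₁ V y) = bcMap (h ≫ g) a c w₂ V y := by
  have e : bcMap h b c w₁ V ≫ bcMap g a b w V = bcMap (h ≫ g) a c w₂ V := by
    obtain ⟨a₁, a₂⟩ := viaC_left h b c w₁ V
    obtain ⟨b₁, b₂⟩ := viaC_left g a b w V
    obtain ⟨c₁, c₂⟩ := viaC_left (h ≫ g) a c w₂ V
    refine pullback.hom_ext ?_ ?_
    · exact ((Category.assoc _ _ _).trans ((congrArg (bcMap h b c w₁ V ≫ ·) b₁).trans a₁)).trans c₁.symm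
    · refine ((Category.assoc _ _ _).trans ((congrArg (bcMap h b c w₁ V ≫ ·) b₂).trans
        ((Category.assoc _ _ _).symm.trans ((congrArg (· ≫ g) a₂).trans (Category.assoc _ _ _))))).trans c₂.symm
  rw [← Scheme.Hom.comp_apply]
  exact congrArg (fun q : ((EtCoh.bc c).obj V).left ⟶ _ => q y) e

theorem exists_bcMap_eq' (g : T ⟶ S) (a : S ⟶ X) (b : T ⟶ X) (w : g ≫ a = b) (V : X.Etale)
    {u : ((EtCoh.bc a).obj V).left} {t : T} (h : ((EtCoh.bc a).obj V).hom u = g t) :
    ∃ y : ((EtCoh.bc b).obj V).left, bcMap g a b w V y = u ∧ ((EtCoh.bc b).obj V).hom y = t := by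
  obtain ⟨y', hy', hy''⟩ := Scheme.Pullback.exists_preimage_pullback (f := ((EtCoh.bc a).obj V).hom) (g := g) u t h
  haveI := isIso_viaC g a b w V
  let m := inv (viaC g a b w V)
  have hm : (viaC g a b w V).left (m.left y') = y' := by
    rw [← Scheme.Hom.comp_apply]
    exact congrArg (fun q : ((EtCoh.bc g).obj ((EtCoh.bc a).obj V)) ⟶ _ => q.left y') (IsIso.inv_hom_id (viaC g a b w V))
  refine ⟨m.left y', ?_, ?_⟩
  · rw [Scheme.Hom.comp_apply, hm]
    exact hy'
  · rw [← Scheme.Hom.comp_apply, MorphismProperty.Over.w m]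
    exact hy''

/-- Transports compose. -/
theorem tau_tau {R : Scheme.{u}} (h : R ⟶ T) (g : T ⟶ S) (a : S ⟶ X) (b : T ⟶ X) (w : g ≫ a = b)
    (c : R ⟶ X) (w₁ : h ≫ b = c) (w₂ : (h ≫ g) ≫ a = c) {F : EtDesc.Sh X}
    (σ : ((EtDesc.pullSh a).obj F).obj.obj (op (EtCoh.top S))) :
    tau h b c w₁ (tau g a b w σ) = tau (h ≫ g) a c w₂ σ := by
  refine eq_of_locEq _ fun t => ?_
  obtain ⟨V, x, z, m, hz, hm⟩ := exists_locEq_up a F σ ((h ≫ g) (show R from t))
  rw [(EtCore.topIsTerminal S).hom_ext m (toTop _)] at hm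
  obtain ⟨w₀, hz', hw₀'⟩ := exists_bcMap_eq' (h ≫ g) a c w₂ V (u := z) (t := (show R from t)) hz
  have key₂ : Match c (tau (h ≫ g) a c w₂ σ) V x w₀ := match_tau _ _ _ _ (by rw [hz']; exact hm)
  have key₁ : Match c (tau h b c w₁ (tau g a b w σ)) V x w₀ :=
    match_tau _ _ _ _ (match_tau _ _ _ _ (by rw [bcMap_comp h g a b w c w₁ w₂, hz']; exact hm))
  rw [show (show (EtCoh.top R).left from t) = (toTop ((EtCoh.bc c).obj V)).left w₀ from
    ((toTop_left_apply _ _).trans hw₀').symm]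
  exact LocEq.of_map _ (key₁.symm.trans key₂)

end Groth.Agent.EtPBC0
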