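import Groth.Agent.EtPBC0.BaseChangeAb
import Groth.Agent.BigSiteLib.FinitePushIso
import Groth.Agent.BigSiteLib.FppfDesc.Main

/-!
# Direct images along proper morphisms commute with pullback to the big sites, in degree zero
-/

set_option autoImplicit false
set_option linter.style.haveILetI false

universe u

open CategoryTheory CategoryTheory.Limits AlgebraicGeometry Opposite

namespace Groth.Agent.EtPBC0

open BigSiteLib BigSiteLib.FppfDesc

set_option backward.isDefEq.respectTransparency false
set_option backward.isDefEq.respectTransparency.types false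

variable {X Y : Scheme.{u}} (f : X ⟶ Y) (F : EtCoh.Ab X)

theorem smallComp_eq_baseChange0 {Y' X' : Scheme.{u}} {g : Y' ⟶ Y} {g' : X' ⟶ X} {f' : X' ⟶ Y'}
    (hsq : IsPullback g' f' f g) : smallComp f F hsq = EtCoh.baseChange0 f g f' g' hsq.w F := by
  refine ((EtCoh.pullPushAdj g).homEquiv _ _).injective ?_
  rw [Adjunction.homEquiv_unit, Adjunction.homEquiv_unit]
  apply ObjectProperty.hom_ext
  refine NatTrans.ext (funext fun V => ?_)
  obtain ⟨V⟩ := V
  exact (smallComp_unit f F hsq V).trans (EtFound.baseChange0_unit f g f' g' hsq.w F V).symm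

/-- The comparison of small and big direct images is invertible for proper morphisms. -/
theorem isIso_theta_proper [IsProper f] : IsIso (theta f F) := by
  refine isIso_of_resEtAlong _ fun {Y'} g => ?_
  have hsq := IsPullback.of_hasPullback f g
  haveI hβ : IsIso (smallComp f F hsq) := by
    rw [smallComp_eq_baseChange0]
    exact isIso_baseChange0 f g (pullback.snd f g) (pullback.fst f g) hsq F
  have e : (BigSite.resEtAlong Scheme.etalePrecoverage g).map (theta f F) =
      (resAlongPiPullIso g ((EtCoh.push f).obj F)).inv ≫ smallComp f F hsq ≫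
        (EtCoh.push (pullback.snd f g)).map (resAlongPiPullIso (pullback.fst f g) F).hom ≫
        (resAlongPushIso f hsq).inv.app (piX F) := by
    simp only [smallComp, Category.assoc, Iso.inv_hom_id_assoc]
    rw [← Functor.map_comp_assoc, Iso.inv_hom_id, CategoryTheory.Functor.map_id, Category.id_comp, Iso.hom_inv_id_app]
    exact (Category.comp_id _).symm
  rw [e]
  infer_instance

theorem nonempty_aPull_push [IsProper f] [EtFppf.ACont X] [EtFppf.ACont Y] :
    Nonempty ((EtFppf.aPull Y).obj ((EtCoh.push f).obj F) ≅
      (EtFppf.pushBig f).obj ((EtFppf.aPull X).obj F)) := by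
  haveI := isIso_theta_proper f F
  let e : piFppf ((EtCoh.push f).obj F) ≅ (EtFppf.pushBig f).obj (piFppf F) :=
    (fullyFaithfulSheafToPresheaf _ _).preimageIso
      (show (piFppf ((EtCoh.push f).obj F)).obj ≅ _ from
        (sheafToPresheaf (QuotSh.J Scheme.etalePrecoverage Y) _).mapIso (asIso (theta f F)))
  exact ⟨aPullIso _ ≪≫ e ≪≫ (EtFppf.pushBig f).mapIso (aPullIso F).symm⟩

end Groth.Agent.EtPBC0
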