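import Groth.Agent.EtPBC0.BaseChange
import Groth.Agent.BigSiteLib.FinitePushIso

/-!
# Direct images of sheaves of sets along proper morphisms commute with pullback to the big etale site
-/

set_option autoImplicit false
set_option linter.style.haveILetI false

universe u

open CategoryTheory CategoryTheory.Limits AlgebraicGeometry Opposite

namespace Groth.Agent.EtPBC0

set_option backward.isDefEq.respectTransparency.types false

open BigSiteLib

/-- Sheaves of sets on the big etale site. -/
abbrev BigSh (S : Scheme.{u}) := Sheaf (QuotSh.J Scheme.etalePrecoverage S) (Type (u + 1))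

/-- Restriction to the small etale site. -/
noncomputable abbrev resS (S : Scheme.{u}) : BigSh S ⥤ EtDesc.Sh S :=
  (EtFppf.a S).sheafPushforwardContinuous (Type (u + 1)) S.smallEtaleTopology (QuotSh.J Scheme.etalePrecoverage S)

/-- Pullback from the small etale site. -/
noncomputable abbrev piS (S : Scheme.{u}) : EtDesc.Sh S ⥤ BigSh S :=
  (EtFppf.a S).sheafPullback (Type (u + 1)) S.smallEtaleTopology (QuotSh.J Scheme.etalePrecoverage S)

/-- The adjunction between the small and the big etale site. -/
noncomputable abbrev piAdjS (S : Scheme.{u}) : piS S ⊣ resS S :=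
  (EtFppf.a S).sheafAdjunctionContinuous (Type (u + 1)) S.smallEtaleTopology (QuotSh.J Scheme.etalePrecoverage S)

variable {X Y : Scheme.{u}} (f : X ⟶ Y)

/-- Small and big direct images. -/
noncomputable def pushResS : BigSite.pushBig Scheme.etalePrecoverage f (Type (u + 1)) ⋙ resS Y ≅
    resS X ⋙ EtDesc.pushSh f :=
  haveI : (EtFppf.a Y ⋙ Over.pullback f).IsContinuous Y.smallEtaleTopology (QuotSh.J Scheme.etalePrecoverage X) :=
    Functor.isContinuous_comp _ _ _ (QuotSh.J Scheme.etalePrecoverage Y) _
  haveI : (EtCoh.bc f ⋙ EtFppf.a X).IsContinuous Y.smallEtaleTopology (QuotSh.J Scheme.etalePrecoverage X) :=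
    Functor.isContinuous_comp _ _ _ X.smallEtaleTopology _
  Functor.sheafPushforwardContinuousComp (EtFppf.a Y) (Over.pullback f) (Type (u + 1))
      Y.smallEtaleTopology (QuotSh.J Scheme.etalePrecoverage Y) (QuotSh.J Scheme.etalePrecoverage X) ≪≫
    Functor.sheafPushforwardContinuousIso
      (F := EtFppf.a Y ⋙ Over.pullback f) (F' := EtCoh.bc f ⋙ EtFppf.a X)
      (MorphismProperty.Over.pullbackCompForgetIso (P := EtCoh.etaleMP.{u}) (Q := ⊤) f).symm (Type (u + 1)) _ _ ≪≫
    (Functor.sheafPushforwardContinuousComp (EtCoh.bc f) (EtFppf.a X) (Type (u + 1))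
      Y.smallEtaleTopology X.smallEtaleTopology (QuotSh.J Scheme.etalePrecoverage X)).symm

/-- Pullback from the small site commutes with localization. -/
noncomputable def piPullS : EtDesc.pullSh f ⋙ piS X ≅
    piS Y ⋙ BigSite.pullBig Scheme.etalePrecoverage f (Type (u + 1)) :=
  Adjunction.leftAdjointUniq
    (((EtDesc.adjSh f).comp (piAdjS X)).ofNatIsoRight (pushResS f).symm)
    ((piAdjS Y).comp (BigSite.bigAdj Scheme.etalePrecoverage f (Type (u + 1))))

/-- Pullback from the small site, restricted along a morphism. -/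
noncomputable def resAlongPiS (G : EtDesc.Sh Y) :
    (EtDesc.pullSh f).obj G ≅
      (resS X).obj ((BigSite.pullBig Scheme.etalePrecoverage f (Type (u + 1))).obj ((piS Y).obj G)) :=
  haveI := isIso_unit_types X ((EtDesc.pullSh f).obj G)
  asIso ((piAdjS X).unit.app ((EtDesc.pullSh f).obj G)) ≪≫ (resS X).mapIso ((piPullS f).app G)

theorem unit_resAlongPiS (F : EtDesc.Sh Y) :
    (EtDesc.adjSh f).unit.app F ≫ (EtDesc.pushSh f).map (resAlongPiS f F).hom =
      (piAdjS Y).unit.app F ≫
        (resS Y).map ((BigSite.bigAdj Scheme.etalePrecoverage f (Type (u + 1))).unit.app ((piS Y).obj F)) ≫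
        (pushResS f).hom.app _ := by
  let A1 := (EtDesc.adjSh f).comp (piAdjS X)
  let A2 := (piAdjS Y).comp (BigSite.bigAdj Scheme.etalePrecoverage f (Type (u + 1)))
  have h := Adjunction.unit_leftAdjointUniq_hom_app (A1.ofNatIsoRight (pushResS f).symm) A2 F
  have h1 : (A1.ofNatIsoRight (pushResS f).symm).unit.app F = A1.unit.app F ≫ (pushResS f).inv.app _ := by
    simp [Adjunction.ofNatIsoRight, Adjunction.mkOfHomEquiv, Adjunction.equivHomsetRightOfNatIso, A1, Adjunction.homEquiv_unit]
  rw [h1, Category.assoc] at h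
  have h2 : (A1.unit.app F ≫ (resS X ⋙ EtDesc.pushSh f).map ((piPullS f).hom.app F)) ≫
      (pushResS f).inv.app _ = A2.unit.app F := by
    rw [Category.assoc, (pushResS f).inv.naturality]
    exact h
  have h3 := congrArg (· ≫ (pushResS f).hom.app _) h2
  simp only [Category.assoc, Iso.inv_hom_id_app, Category.comp_id] at h3
  refine Eq.trans ?_ (h3.trans ?_)
  · simp [resAlongPiS, A1, Adjunction.comp_unit_app, Functor.map_comp]
  · simp [A2, Adjunction.comp_unit_app]

theorem unit_resAlongPiS_app (F : EtDesc.Sh Y) (V : Y.Etale) :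
    ((EtDesc.adjSh f).unit.app F).hom.app (op V) ≫ (resAlongPiS f F).hom.hom.app (op ((EtCoh.bc f).obj V)) =
      ((piAdjS Y).unit.app F).hom.app (op V) ≫ ((piS Y).obj F).obj.map (bcProj f V).op := by
  refine (congr($(unit_resAlongPiS f F).hom.app (op V))).trans ?_
  show ((piAdjS Y).unit.app F).hom.app (op V) ≫
    ((piS Y).obj F).obj.map ((Over.mapPullbackAdj f).counit.app ((EtFppf.a Y).obj V)).op ≫
      ((pushResS f).hom.app ((BigSite.pullBig Scheme.etalePrecoverage f (Type (u + 1))).obj ((piS Y).obj F))).hom.app (op V) = _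
  congr 1
  simp only [pushResS, Iso.trans_hom, NatTrans.comp_app]
  dsimp [Functor.sheafPushforwardContinuousComp, Functor.sheafPushforwardContinuousIso]
  refine (congrArg (((piS Y).obj F).obj.map
    ((Over.mapPullbackAdj f).counit.app ((EtFppf.a Y).obj V)).op ≫ ·) ((Category.id_comp _).trans (Category.comp_id _))).trans ?_
  refine (((piS Y).obj F).obj.map_comp _ _).symm.trans
    (congrArg ((piS Y).obj F).obj.map ?_)
  refine Quiver.Hom.unop_inj (Over.OverMorphism.ext ?_)
  simp [bcProj]
  rfl

variable {Y' X' : Scheme.{u}} {g : Y' ⟶ Y} {g' : X' ⟶ X} {f' : X' ⟶ Y'}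

/-- Base change of big direct images, restricted to small sites. -/
noncomputable def resAlongPushS (hsq : IsPullback g' f' f g) :
    BigSite.pushBig Scheme.etalePrecoverage f (Type (u + 1)) ⋙
        (BigSite.pullBig Scheme.etalePrecoverage g (Type (u + 1)) ⋙ resS Y') ≅
      (BigSite.pullBig Scheme.etalePrecoverage g' (Type (u + 1)) ⋙ resS X') ⋙ EtDesc.pushSh f' :=
  haveI : (EtFppf.a Y' ⋙ Over.map g).IsContinuous Y'.smallEtaleTopology (QuotSh.J Scheme.etalePrecoverage Y) :=
    Functor.isContinuous_comp _ _ _ (QuotSh.J Scheme.etalePrecoverage Y') _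
  haveI : (EtFppf.a X' ⋙ Over.map g').IsContinuous X'.smallEtaleTopology (QuotSh.J Scheme.etalePrecoverage X) :=
    Functor.isContinuous_comp _ _ _ (QuotSh.J Scheme.etalePrecoverage X') _
  haveI : ((EtFppf.a Y' ⋙ Over.map g) ⋙ Over.pullback f).IsContinuous Y'.smallEtaleTopology (QuotSh.J Scheme.etalePrecoverage X) :=
    Functor.isContinuous_comp _ _ _ (QuotSh.J Scheme.etalePrecoverage Y) _
  haveI : (EtCoh.bc f' ⋙ EtFppf.a X' ⋙ Over.map g').IsContinuous Y'.smallEtaleTopology (QuotSh.J Scheme.etalePrecoverage X) :=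
    Functor.isContinuous_comp _ _ _ X'.smallEtaleTopology _
  Functor.sheafPushforwardContinuousComp (EtFppf.a Y' ⋙ Over.map g) (Over.pullback f) (Type (u + 1))
      Y'.smallEtaleTopology (QuotSh.J Scheme.etalePrecoverage Y) (QuotSh.J Scheme.etalePrecoverage X) ≪≫
    Functor.sheafPushforwardContinuousIso (bcSmallIso f hsq).symm (Type (u + 1)) _ _ ≪≫
    (Functor.sheafPushforwardContinuousComp (EtCoh.bc f') (EtFppf.a X' ⋙ Over.map g') (Type (u + 1))
      Y'.smallEtaleTopology X'.smallEtaleTopology (QuotSh.J Scheme.etalePrecoverage X)).symm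

/-- Small direct image into the restriction of the big one. -/
noncomputable def pushToResS : EtDesc.pushSh f ⟶
    piS X ⋙ BigSite.pushBig Scheme.etalePrecoverage f (Type (u + 1)) ⋙ resS Y :=
  Functor.whiskerRight (piAdjS X).unit (EtDesc.pushSh f) ≫ Functor.whiskerLeft (piS X) (pushResS f).inv

/-- The comparison of the small and big direct images. -/
noncomputable def thetaS : EtDesc.pushSh f ⋙ piS Y ⟶
    piS X ⋙ BigSite.pushBig Scheme.etalePrecoverage f (Type (u + 1)) where
  app F := ((piAdjS Y).homEquiv _ _).symm ((pushToResS f).app F)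
  naturality F G a := by
    refine ((piAdjS Y).homEquiv_naturality_left_symm _ _).symm.trans ?_
    rw [(pushToResS f).naturality a]
    exact (piAdjS Y).homEquiv_naturality_right_symm _ _

theorem unit_thetaS (F : EtDesc.Sh X) : (piAdjS Y).unit.app ((EtDesc.pushSh f).obj F) ≫
    (resS Y).map ((thetaS f).app F) = (pushToResS f).app F := by
  exact ((Adjunction.homEquiv_unit (piAdjS Y)) _ _ ((thetaS f).app F)).symm.trans
    (((piAdjS Y).homEquiv _ _).apply_symm_apply ((pushToResS f).app F))

/-- The comparison along a square, on small sites. -/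
noncomputable def smallCompS (hsq : IsPullback g' f' f g) (F : EtDesc.Sh X) :
    (EtDesc.pullSh g).obj ((EtDesc.pushSh f).obj F) ⟶ (EtDesc.pushSh f').obj ((EtDesc.pullSh g').obj F) :=
  (resAlongPiS g ((EtDesc.pushSh f).obj F)).hom ≫
    (BigSite.pullBig Scheme.etalePrecoverage g (Type (u + 1)) ⋙ resS Y').map ((thetaS f).app F) ≫
    (resAlongPushS f hsq).hom.app ((piS X).obj F) ≫ (EtDesc.pushSh f').map (resAlongPiS g' F).inv

theorem smallCompS_unit (hsq : IsPullback g' f' f g) (F : EtDesc.Sh X) (V : Y.Etale) :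
    ((EtDesc.adjSh g).unit.app ((EtDesc.pushSh f).obj F)).hom.app (op V) ≫
        (smallCompS f hsq F).hom.app (op ((EtCoh.bc g).obj V)) =
      ((EtDesc.adjSh g').unit.app F).hom.app (op ((EtCoh.bc f).obj V)) ≫
        ((EtDesc.pullSh g').obj F).obj.map (EtFound.bcSquare hsq.w V).op := by
  let W := (EtCoh.bc g).obj V
  let G := (BigSite.pushBig Scheme.etalePrecoverage f (Type (u + 1))).obj ((piS X).obj F)
  let η := (piAdjS X).unit.app F
  haveI : IsIso ((resAlongPiS g' F).hom.hom.app (op ((EtCoh.bc f').obj W))) :=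
    ((((sheafToPresheaf _ _).mapIso (resAlongPiS g' F)).app (op ((EtCoh.bc f').obj W))).isIso_hom)
  refine (cancel_mono ((resAlongPiS g' F).hom.hom.app (op ((EtCoh.bc f').obj W)))).1 ?_
  have e1 := unit_resAlongPiS_app g ((EtDesc.pushSh f).obj F) V
  have e2 : ((piAdjS Y).unit.app ((EtDesc.pushSh f).obj F)).hom.app (op V) ≫
      ((thetaS f).app F).hom.app (op ((EtFppf.a Y).obj V)) = ((pushToResS f).app F).hom.app (op V) :=
    congr($(unit_thetaS f F).hom.app (op V))
  have e3 := ((thetaS f).app F).hom.naturality (bcProj g V).op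
  have e4 := (resAlongPiS g' F).hom.hom.naturality (EtFound.bcSquare hsq.w V).op
  have e5 := unit_resAlongPiS_app g' F ((EtCoh.bc f).obj V)
  have eL : ((EtDesc.adjSh g).unit.app ((EtDesc.pushSh f).obj F)).hom.app (op V) ≫
      (resAlongPiS g ((EtDesc.pushSh f).obj F)).hom.hom.app (op W) ≫ ((thetaS f).app F).hom.app _ =
      ((pushToResS f).app F).hom.app (op V) ≫ G.obj.map (bcProj g V).op := by
    refine (Category.assoc _ _ _).symm.trans ((congrArg (· ≫ _) e1).trans ?_)
    refine (Category.assoc _ _ _).trans ((congrArg (_ ≫ ·) e3).trans ?_)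
    exact (Category.assoc _ _ _).symm.trans (congrArg (· ≫ _) e2)
  have eI : (resAlongPiS g' F).inv.hom.app (op ((EtCoh.bc f').obj W)) ≫
      (resAlongPiS g' F).hom.hom.app (op ((EtCoh.bc f').obj W)) = 𝟙 _ :=
    congr($((resAlongPiS g' F).inv_hom_id).hom.app (op ((EtCoh.bc f').obj W)))
  have eR : (((EtDesc.adjSh g').unit.app F).hom.app (op ((EtCoh.bc f).obj V)) ≫
        ((EtDesc.pullSh g').obj F).obj.map (EtFound.bcSquare hsq.w V).op) ≫
      (resAlongPiS g' F).hom.hom.app (op ((EtCoh.bc f').obj W)) =
      η.hom.app (op ((EtCoh.bc f).obj V)) ≫ ((piS X).obj F).obj.map ((Over.map g').map ((EtFppf.a X').map (EtFound.bcSquare hsq.w V)) ≫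
        bcProj g' ((EtCoh.bc f).obj V)).op := by
    refine (Category.assoc _ _ _).trans ((congrArg (_ ≫ ·) e4).trans ?_)
    refine (Category.assoc _ _ _).symm.trans ((congrArg (· ≫ _) e5).trans ?_)
    refine (Category.assoc _ _ _).trans (congrArg (_ ≫ ·) ?_)
    exact (((piS X).obj F).obj.map_comp _ _).symm.trans (congrArg ((piS X).obj F).obj.map (op_comp).symm)
  refine Eq.trans ?_ eR.symm
  show (((EtDesc.adjSh g).unit.app ((EtDesc.pushSh f).obj F)).hom.app (op V) ≫
      (resAlongPiS g ((EtDesc.pushSh f).obj F)).hom.hom.app (op W) ≫ ((thetaS f).app F).hom.app _ ≫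
      ((resAlongPushS f hsq).hom.app ((piS X).obj F)).hom.app (op W) ≫
      (resAlongPiS g' F).inv.hom.app (op ((EtCoh.bc f').obj W))) ≫ _ = _
  simp only [Category.assoc]
  refine (congrArg (fun t => _ ≫ _ ≫ _ ≫ t) ((congrArg (_ ≫ ·) eI).trans (Category.comp_id _))).trans ?_
  refine (congrArg (_ ≫ ·) (Category.assoc _ _ _).symm).trans ?_
  refine (Category.assoc _ _ _).symm.trans ((congrArg (· ≫ _) eL).trans ?_)
  refine (Category.assoc _ _ _).trans ?_
  refine (Category.assoc _ _ _).trans (congrArg (η.hom.app (op ((EtCoh.bc f).obj V)) ≫ ·) ?_)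
  simp only [pushResS, resAlongPushS, Iso.trans_inv, Iso.trans_hom, NatTrans.comp_app, Functor.whiskerLeft_app]
  dsimp [Functor.sheafPushforwardContinuousComp, Functor.sheafPushforwardContinuousIso]
  refine (congrArg₂ (· ≫ ·) ((Category.id_comp _).trans (Category.comp_id _))
    (congrArg (_ ≫ ·) ((Category.id_comp _).trans (Category.comp_id _)))).trans ?_
  refine ((congrArg (_ ≫ ·) (((piS X).obj F).obj.map_comp _ _).symm).trans (((piS X).obj F).obj.map_comp _ _).symm).trans ?_
  refine congrArg ((piS X).obj F).obj.map (Quiver.Hom.unop_inj (Over.OverMorphism.ext ?_))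
  refine pullback.hom_ext ?_ ?_
  · simp [bcProj, bcSmallIso, bcIso]
    refine Eq.trans ?_ ((Category.assoc _ _ _).trans (EtFound.bcSquare_fst hsq.w V)).symm
    refine (Category.assoc _ _ _).trans ?_
    erw [Category.id_comp, Category.assoc, Category.assoc, Category.id_comp, pullback.lift_fst,
      IsPullback.isoPullback_hom_fst_assoc]
    rfl
  · simp [bcProj, bcSmallIso, bcIso]
    refine Eq.trans ?_ ((Category.assoc _ _ _).trans ((congrArg (_ ≫ ·) pullback.condition).trans
      ((Category.assoc _ _ _).symm.trans (congrArg (· ≫ g') (MorphismProperty.Over.w (EtFound.bcSquare hsq.w V)))))).symm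
    refine (Category.assoc _ _ _).trans ?_
    erw [Category.id_comp, Category.assoc, Category.assoc, Category.id_comp, pullback.lift_snd,
      IsPullback.isoPullback_hom_snd]
    rfl

set_option backward.isDefEq.respectTransparency false in
set_option maxHeartbeats 1000000 in
theorem smallCompS_eq_baseChange0Sh (hsq : IsPullback g' f' f g) (F : EtDesc.Sh X) :
    smallCompS f hsq F = EtBC.baseChange0Sh f g f' g' hsq.w F := by
  refine ((EtDesc.adjSh g).homEquiv _ _).injective ?_
  rw [Adjunction.homEquiv_unit, Adjunction.homEquiv_unit]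
  apply ObjectProperty.hom_ext
  refine NatTrans.ext (funext fun V => ?_)
  obtain ⟨V⟩ := V
  refine ConcreteCategory.hom_ext _ _ fun x => ?_
  have h₁ := ConcreteCategory.congr_hom (smallCompS_unit f hsq F V) x
  have h₂ := baseChange0Sh_up f g f' g' hsq.w F V x
  exact h₁.trans h₂.symm

/-- A morphism of big sheaves of sets is invertible when all its restrictions to small sites are. -/
theorem isIso_of_resS {S : Scheme.{u}} {G G' : BigSh S} (φ : G ⟶ G')
    (h : ∀ {T : Scheme.{u}} (g : T ⟶ S),
      IsIso ((BigSite.pullBig Scheme.etalePrecoverage g (Type (u + 1)) ⋙ resS T).map φ)) : IsIso φ := by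
  haveI : ∀ W, IsIso (φ.hom.app W) := fun W => by
    haveI := h W.unop.hom
    haveI h0 : IsIso (((BigSite.pullBig Scheme.etalePrecoverage W.unop.hom (Type (u + 1)) ⋙ resS W.unop.left).map φ).hom.app
        (op (EtCoh.top W.unop.left))) :=
      inferInstanceAs (IsIso (((sheafToPresheaf _ _).map ((BigSite.pullBig Scheme.etalePrecoverage W.unop.hom (Type (u + 1)) ⋙
        resS W.unop.left).map φ)).app _))
    let W0 : Over S := (Over.map W.unop.hom).obj ((EtFppf.a W.unop.left).obj (EtCoh.top W.unop.left))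
    haveI h1 : IsIso (φ.hom.app (op W0)) := h0
    let e : W0 ≅ W.unop := Over.isoMk (Iso.refl _) ((Category.id_comp _).trans (Category.id_comp _).symm)
    have he : φ.hom.app W = G.obj.map e.hom.op ≫ φ.hom.app (op W0) ≫ G'.obj.map e.inv.op := by
      rw [← Category.assoc, φ.hom.naturality, Category.assoc, ← Functor.map_comp, ← op_comp, e.inv_hom_id, op_id,
        CategoryTheory.Functor.map_id, Category.comp_id]
    rw [he]
    infer_instance
  haveI : IsIso ((sheafToPresheaf _ _).map φ) := NatIso.isIso_of_isIso_app φ.hom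
  exact isIso_of_reflects_iso φ (sheafToPresheaf _ _)

theorem isIso_thetaS_app [IsProper f] (F : EtDesc.Sh X) : IsIso ((thetaS f).app F) := by
  refine isIso_of_resS _ fun {Y'} g => ?_
  have hsq := IsPullback.of_hasPullback f g
  haveI hβ : IsIso (smallCompS f hsq F) := by
    rw [smallCompS_eq_baseChange0Sh]
    exact isIso_baseChange0Sh f g (pullback.snd f g) (pullback.fst f g) hsq F
  have e : (BigSite.pullBig Scheme.etalePrecoverage g (Type (u + 1)) ⋙ resS Y').map ((thetaS f).app F) =
      (resAlongPiS g ((EtDesc.pushSh f).obj F)).inv ≫ smallCompS f hsq F ≫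
        (EtDesc.pushSh (pullback.snd f g)).map (resAlongPiS (pullback.fst f g) F).hom ≫
        (resAlongPushS f hsq).inv.app ((piS X).obj F) := by
    simp only [smallCompS, Category.assoc, Iso.inv_hom_id_assoc]
    rw [← Functor.map_comp_assoc, Iso.inv_hom_id, CategoryTheory.Functor.map_id, Category.id_comp, Iso.hom_inv_id_app]
    exact (Category.comp_id _).symm
  rw [e]
  infer_instance

/-- Small direct images followed by pullback to the big site, for proper morphisms. -/
theorem nonempty_push_piS [IsProper f] :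
    Nonempty (EtDesc.pushSh f ⋙ piS Y ≅ piS X ⋙ BigSite.pushBig Scheme.etalePrecoverage f (Type (u + 1))) := by
  haveI := isIso_thetaS_app f
  haveI : IsIso (thetaS f) := NatIso.isIso_of_isIso_app _
  exact ⟨asIso (thetaS f)⟩

end Groth.Agent.EtPBC0
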