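import Groth.Agent.BigSiteLib.PiInduced
import Groth.Agent.HTopCov.Misc
import Groth.Agent.HTopCov.Sheaf

/-!
# Pullbacks from the small etale site are sheaves for coverings by V families
-/

set_option autoImplicit false
set_option linter.style.haveILetI false

universe w u

open CategoryTheory CategoryTheory.Limits AlgebraicGeometry Opposite TopologicalSpace HTop

namespace Groth.Agent.EtPBC0

theorem isVCover_of_isPhCover {T : Scheme.{u}} (E : PreZeroHypercover.{w} T) (hE : IsPhCover E) : IsVCover E :=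
  fun U => by
    obtain ⟨F, hF, hr⟩ := hE.2 U
    exact ⟨F, HTopCov.standardV_of_standardPh F hF, hr⟩

/-- A set with open preimages under a V family is open. -/
theorem isOpen_of_isVCover {T : Scheme.{u}} (E : PreZeroHypercover.{w} T) (hE : IsVCover E) (Z : Set T)
    (hZ : ∀ i, IsOpen (E.f i ⁻¹' Z)) : IsOpen Z := by
  rw [IsOpenCover.isOpen_iff_coe_preimage (U := fun U : T.affineOpens => U.1) (iSup_affineOpens_eq_top T)]
  intro U
  obtain ⟨F, hF, hr⟩ := hE U
  rw [← isClosed_compl_iff]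
  refine HTopCov.isClosed_of_standardV F hF _ fun j => ?_
  obtain ⟨i, k, hk⟩ := hr j
  have e : F.f j ⁻¹' (((↑) : U.1 → T) ⁻¹' Z)ᶜ = k ⁻¹' (E.f i ⁻¹' Z)ᶜ := by
    ext x
    change ¬ U.1.ι (F.f j x) ∈ Z ↔ ¬ E.f i (k x) ∈ Z
    exact iff_of_eq (congrArg (fun t => ¬ t ∈ Z) congr($hk x).symm)
  exact e ▸ (hZ i).isClosed_compl.preimage k.continuous

theorem exists_mem_range_of_isVCover {T : Scheme.{u}} (E : PreZeroHypercover.{w} T) (hE : IsVCover E) (t : T) :
    ∃ i, t ∈ Set.range (E.f i) := by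
  obtain ⟨U, hU, ht, -⟩ := exists_isAffineOpen_mem_and_subset (U := ⊤) (x := t) trivial
  obtain ⟨F, hF, hr⟩ := hE ⟨U, hU⟩
  obtain ⟨j, x, hx⟩ := HTopCov.exists_point_of_hasValLift F hF.lift ⟨t, ht⟩
  obtain ⟨i, k, hk⟩ := hr j
  exact ⟨i, k x, (congr($hk x)).trans (congrArg U.ι hx)⟩

/-- The topology of the sieves containing a V family. -/
def vTop : GrothendieckTopology Scheme.{u} where
  sieves T := {R | ∃ E : PreZeroHypercover.{u + 1} T, IsVCover E ∧ ∀ i, R (E.f i)}
  top_mem' T := ⟨PreZeroHypercover.singleton.{u + 1} (𝟙 T),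
    isVCover_of_isPhCover _ (HTopCov.isPhCover_of_proper (𝟙 T)), fun _ => trivial⟩
  pullback_stable' T T' R g := fun ⟨E, hE, hR⟩ => ⟨E.pullback₁ g, HTopCov.isVCover_pullback₁ g E hE, fun i => by
    show R (pullback.fst g (E.f i) ≫ g)
    rw [pullback.condition]
    exact R.downward_closed (hR i) _⟩
  transitive' T R := fun ⟨E, hE, hR⟩ R' h => by
    choose F hF hF' using fun i => h (hR i)
    exact ⟨E.bind F, HTopCov.isVCover_bind E hE F hF, fun p => hF' p.1 p.2⟩

theorem toGrothendieck_le_vTop (K : Precoverage Scheme.{u})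
    (h : ∀ (T : Scheme.{u}) (R : Presieve T), R ∈ K T → ∃ E : PreZeroHypercover.{u + 1} T, IsVCover E ∧ E.presieve₀ = R) :
    K.toGrothendieck ≤ vTop := by
  rw [Precoverage.toGrothendieck_le_iff_le_toPrecoverage]
  intro T R hR
  obtain ⟨E, hE, rfl⟩ := h T R hR
  exact ⟨E, hE, fun i => Sieve.le_generate _ _ _ ⟨i⟩⟩

theorem phTopology_le_vTop : phTopology.{u} ≤ vTop :=
  toGrothendieck_le_vTop _ fun T R hR => by
    obtain ⟨E, rfl⟩ := R.exists_eq_preZeroHypercover
    exact ⟨E, isVCover_of_isPhCover E ((presieve₀_mem_phPrecoverage_iff E).1 hR), rfl⟩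

theorem hTopology_le_vTop : hTopology.{u} ≤ vTop :=
  toGrothendieck_le_vTop _ fun T R hR => by
    obtain ⟨E, rfl⟩ := R.exists_eq_preZeroHypercover
    exact ⟨E, ((presieve₀_mem_hPrecoverage_iff E).1 hR).2, rfl⟩

variable {S : Scheme.{u}}

theorem isSheaf_vTop_of_etInduced {P : (Over S)ᵒᵖ ⥤ Type (u + 1)} (hP : BigSiteLib.EtInd.EtInduced P) :
    Presieve.IsSheaf (vTop.over S) P := by
  intro Y R hR
  obtain ⟨E, hE, hmem⟩ := (GrothendieckTopology.mem_over_iff _ _).1 hR
  refine BigSiteLib.EtInd.isSheafFor_fam hP (T := fun i => Over.mk (E.f i ≫ Y.hom))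
    (fun i => Over.homMk (E.f i)) (fun y => exists_mem_range_of_isVCover E hE y) (fun V k _ Z hZ => ?_) R
    fun i => (Sieve.overEquiv_iff R (E.f i)).1 (hmem i)
  exact isOpen_of_isVCover (E.pullback₁ k.left) (HTopCov.isVCover_pullback₁ k.left E hE) Z hZ

theorem isSheaf_piPull {J : GrothendieckTopology Scheme.{u}} (hJ : J ≤ vTop) (F : EtCoh.Ab S) :
    Presheaf.IsSheaf (J.over S) ((BigSite.piEtPull Scheme.etalePrecoverage S).obj F).obj :=
  (Presheaf.isSheaf_iff_isSheaf_forget _ _ (forget AddCommGrpCat.{u + 1})).2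
    ((isSheaf_iff_isSheaf_of_type _ _).2
      (Presieve.isSheaf_of_le _
        (show J.over S ≤ vTop.over S from fun Y R h => hJ _ h)
        (isSheaf_vTop_of_etInduced (BigSiteLib.etInduced_piP F))))

end Groth.Agent.EtPBC0
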