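import Groth.Agent.EtPBC0.FiniteLift
import Groth.Agent.EtPBC0.VDescent
import Groth.Agent.HTopPh.Refine
import Mathlib.RingTheory.Unramified.LocalStructure
import Mathlib.AlgebraicGeometry.Morphisms.Etale
import Mathlib.AlgebraicGeometry.Morphisms.Finite

/-!
# Etale coverings are ph and h coverings
-/

set_option autoImplicit false
set_option linter.style.haveILetI false
set_option backward.isDefEq.respectTransparency false
set_option backward.isDefEq.respectTransparency.types false

universe w u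

open CategoryTheory CategoryTheory.Limits AlgebraicGeometry TopologicalSpace HTop

namespace Groth.Agent.EtPBC0

theorem isPhCover_of_etale {T : Scheme.{u}} (E : PreZeroHypercover.{w} T) (he : ∀ i, Etale (E.f i))
    (hs : ∀ t : T, ∃ i, t ∈ Set.range (E.f i)) : IsPhCover E := by
  refine ⟨fun i => by haveI := he i; infer_instance, fun U => ?_⟩
  let A := Γ(T, U.1)
  let ι := Σ i : E.I₀, {W : (E.X i).Opens // IsAffineOpen W ∧ W ≤ (E.f i) ⁻¹ᵁ U.1}
  let C : ι → Type u := fun a => Γ(E.X a.1, a.2.1)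
  let χ : ∀ a : ι, Γ(T, U.1) ⟶ Γ(E.X a.1, a.2.1) := fun a => (E.f a.1).appLE U.1 a.2.1 a.2.2.2
  letI : ∀ a, Algebra A (C a) := fun a => (χ a).hom.toAlgebra
  haveI hE : ∀ a, Algebra.Etale A (C a) := fun a => by
    haveI := he a.1
    have h : (χ a).hom.Etale := HasRingHomProperty.appLE @Etale _ inferInstance U ⟨a.2.1, a.2.2.1⟩ a.2.2.2
    exact RingHom.etale_algebraMap.1 h
  haveI : ∀ a, Module.Flat A (C a) := fun a => by
    haveI := he a.1
    have h : (χ a).hom.Flat := HasRingHomProperty.appLE @Flat _ inferInstance U ⟨a.2.1, a.2.2.1⟩ a.2.2.2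
    exact h
  haveI : ∀ a, Algebra.QuasiFinite A (C a) := fun a => inferInstance
  obtain ⟨B', _, _, hfin, hsurj, hlift⟩ := exists_finite_local_sections A C fun p => by
    let t := U.2.fromSpec p
    have ht : t ∈ U.1 := U.2.range_fromSpec.subset ⟨p, rfl⟩
    obtain ⟨i, z, hz⟩ := hs t
    obtain ⟨W, hW, hzW, hWU⟩ := exists_isAffineOpen_mem_and_subset (x := z)
      (U := (E.f i) ⁻¹ᵁ U.1) (show E.f i z ∈ U.1 by rw [hz]; exact ht)
    obtain ⟨Q, hQ⟩ : z ∈ Set.range hW.fromSpec := by rw [hW.range_fromSpec]; exact hzW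
    refine ⟨⟨i, W, hW, hWU⟩, Q, U.2.fromSpec.isOpenEmbedding.injective ?_⟩
    show U.2.fromSpec (Spec.map ((E.f i).appLE U.1 W hWU) Q) = t
    rw [← Scheme.Hom.comp_apply, U.2.SpecMap_appLE_fromSpec (E.f i) hW hWU, Scheme.Hom.comp_apply, hQ, hz]
  haveI : IsAffine (U.1 : Scheme) := U.2
  let g : Spec (CommRingCat.of B') ⟶ (U.1 : Scheme) :=
    Spec.map (CommRingCat.ofHom (algebraMap A B')) ≫ U.2.isoSpec.inv
  haveI : IsFinite (Spec.map (CommRingCat.ofHom (algebraMap A B'))) := by
    rw [IsFinite.SpecMap_iff]; exact RingHom.finite_algebraMap.2 hfin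
  haveI : Surjective (Spec.map (CommRingCat.ofHom (algebraMap A B'))) := ⟨hsurj⟩
  haveI : IsProper g := inferInstance
  haveI : Surjective g := inferInstance
  obtain ⟨F, hF, hFV⟩ := HTopPh.exists_standardPh_of_local g
    (fun a : ι => (a.2.1 : Scheme))
    (fun a => IsOpenImmersion.lift U.1.ι (a.2.1.ι ≫ E.f a.1) (by
      rintro _ ⟨x, rfl⟩
      rw [Scheme.Opens.range_ι]
      exact a.2.2.2 x.2))
    fun P => by
      obtain ⟨b, hb, a, ⟨σ⟩⟩ := hlift P
      let j : Spec (CommRingCat.of (Localization.Away b)) ⟶ Spec (CommRingCat.of B') :=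
        Spec.map (CommRingCat.ofHom (algebraMap B' (Localization.Away b)))
      haveI : IsOpenImmersion j := IsOpenImmersion.of_isLocalization b
      refine ⟨j.opensRange, a,
        j.isoOpensRange.inv ≫ Spec.map (CommRingCat.ofHom σ.toRingHom : Γ(E.X a.1, a.2.1) ⟶ _) ≫ a.2.2.1.isoSpec.inv, ?_, ?_⟩
      · show P ∈ Set.range (PrimeSpectrum.comap (algebraMap B' (Localization.Away b)))
        rw [PrimeSpectrum.localization_away_comap_range (Localization.Away b) b]
        exact hb
      · rw [← cancel_mono U.1.ι]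
        simp only [Category.assoc, IsOpenImmersion.lift_fac, g, IsAffineOpen.isoSpec_inv_ι, ← Category.assoc _ a.2.1.ι]
        have e : Spec.map (CommRingCat.ofHom σ.toRingHom : Γ(E.X a.1, a.2.1) ⟶ _) ≫ a.2.2.1.fromSpec ≫ E.f a.1 =
            j ≫ Spec.map (CommRingCat.ofHom (algebraMap A B')) ≫ U.2.fromSpec := by
          rw [← U.2.SpecMap_appLE_fromSpec (E.f a.1) a.2.2.1 a.2.2.2, ← Category.assoc, ← Spec.map_comp]
          simp only [j, ← Category.assoc, ← Spec.map_comp]
          congr 2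
          ext x
          exact (σ.commutes x).trans (IsScalarTower.algebraMap_apply A B' (Localization.Away b) x)
        rw [e, Scheme.Hom.isoOpensRange_inv_comp_assoc]
  refine ⟨F, hF, fun k => ?_⟩
  obtain ⟨a, e, he'⟩ := hFV k
  refine ⟨a.1, e ≫ a.2.1.ι, ?_⟩
  rw [← he', Category.assoc, Category.assoc, IsOpenImmersion.lift_fac]

theorem etale_mem_phPrecoverage {T : Scheme.{u}} (R : Presieve T) (hR : R ∈ Scheme.etalePrecoverage T) :
    R ∈ phPrecoverage T := by
  obtain ⟨E, rfl⟩ := R.exists_eq_preZeroHypercover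
  obtain ⟨hs, he⟩ := (Scheme.presieve₀_mem_precoverage_iff E).1 hR
  exact (presieve₀_mem_phPrecoverage_iff E).2 (isPhCover_of_etale E he hs)

theorem etale_mem_hPrecoverage {T : Scheme.{u}} (R : Presieve T) (hR : R ∈ Scheme.etalePrecoverage T) :
    R ∈ hPrecoverage T := by
  obtain ⟨E, rfl⟩ := R.exists_eq_preZeroHypercover
  obtain ⟨hs, he⟩ := (Scheme.presieve₀_mem_precoverage_iff E).1 hR
  exact (presieve₀_mem_hPrecoverage_iff E).2
    ⟨fun i => by haveI := he i; infer_instance, isVCover_of_isPhCover E (isPhCover_of_etale E he hs)⟩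

theorem etaleTopology_le_phTopology : Scheme.etalePrecoverage.toGrothendieck ≤ phTopology.{u} :=
  Precoverage.toGrothendieck_mono fun _ R hR => etale_mem_phPrecoverage R hR

theorem etaleTopology_le_hTopology : Scheme.etalePrecoverage.toGrothendieck ≤ hTopology.{u} :=
  Precoverage.toGrothendieck_mono fun _ R hR => etale_mem_hPrecoverage R hR

end Groth.Agent.EtPBC0
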