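import Groth.Agent.EtPBC0.PerfectIntCl
import Groth.Agent.EtPBC0.StrictIdem
import Mathlib.FieldTheory.PurelyInseparable.PerfectClosure

/-!
# Strictly henselian algebras over a field
-/

set_option autoImplicit false
set_option linter.style.haveILetI false

universe u

open scoped TensorProduct
open IsLocalRing

namespace Groth.Agent.EtPBC0

set_option backward.isDefEq.respectTransparency false
set_option backward.isDefEq.respectTransparency.types false

/-! ### Radicial maps -/

/-- Every element has some `q ^ n`-th power in the image. -/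
def Radicial {R T : Type u} [CommRing R] [CommRing T] (q : ℕ) (f : R →+* T) : Prop :=
  ∀ z : T, ∃ (n : ℕ) (r : R), f r = z ^ (q ^ n)

/-- `x ↦ x ^ q ^ n` is additive. -/
def AddPow (q : ℕ) (T : Type u) [CommRing T] : Prop :=
  0 < q ∧ ∀ (x y : T) (n : ℕ), (x + y) ^ (q ^ n) = x ^ (q ^ n) + y ^ (q ^ n)

theorem addPow_of_algebra (k : Type u) [Field k] (q : ℕ) [ExpChar k q] (T : Type u) [CommRing T] [Algebra k T] :
    AddPow q T := by
  refine ⟨expChar_pos k q, fun x y n => ?_⟩
  rcases subsingleton_or_nontrivial T with h | h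
  · exact Subsingleton.elim _ _
  · haveI : ExpChar T q := expChar_of_injective_ringHom (algebraMap k T).injective q
    exact add_pow_expChar_pow x y q n

section

variable {R T : Type u} [CommRing R] [CommRing T] {q : ℕ} {f : R →+* T}

theorem Radicial.injective_comap (hf : Radicial q f) (hq : 0 < q) :
    Function.Injective (PrimeSpectrum.comap f) := fun P P' h => by
  have key : ∀ (A B : PrimeSpectrum T), PrimeSpectrum.comap f A = PrimeSpectrum.comap f B →
      A.asIdeal ≤ B.asIdeal := fun A B hAB z hz => by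
    obtain ⟨n, r, hr⟩ := hf z
    have h₁ : r ∈ A.asIdeal.comap f := show f r ∈ A.asIdeal from hr ▸ A.asIdeal.pow_mem_of_mem hz _ (pow_pos hq n)
    rw [show A.asIdeal.comap f = B.asIdeal.comap f from congrArg PrimeSpectrum.asIdeal hAB] at h₁
    exact B.isPrime.mem_of_pow_mem _ (hr ▸ h₁ : z ^ q ^ n ∈ B.asIdeal)
  exact PrimeSpectrum.ext (le_antisymm (key P P' h) (key P' P h.symm))

theorem Radicial.isIntegral (hf : Radicial q f) (hq : 0 < q) : f.IsIntegral := fun z => by
  obtain ⟨n, r, hr⟩ := hf z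
  exact ⟨Polynomial.X ^ (q ^ n) - Polynomial.C r, Polynomial.monic_X_pow_sub_C r (pow_pos hq n).ne', by
    simp [hr]⟩

theorem radicial_of_generators (hT : AddPow q T) (s : Set T)
    (hgen : ∀ S : Subsemiring T, Set.range f ⊆ S → s ⊆ S → S = ⊤)
    (hs : ∀ z ∈ s, ∃ (n : ℕ) (r : R), f r = z ^ (q ^ n)) : Radicial q f := by
  let S : Subsemiring T :=
    { carrier := {z | ∃ (n : ℕ) (r : R), f r = z ^ (q ^ n)}
      zero_mem' := ⟨0, 0, by simp⟩
      one_mem' := ⟨0, 1, by simp⟩
      add_mem' := by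
        rintro x y ⟨n, a, ha⟩ ⟨m, b, hb⟩
        exact ⟨n + m, a ^ (q ^ m) + b ^ (q ^ n), by
          rw [map_add, map_pow, map_pow, ha, hb, hT.2, ← pow_mul, ← pow_mul, ← pow_add, ← pow_add, add_comm m n]⟩
      mul_mem' := by
        rintro x y ⟨n, a, ha⟩ ⟨m, b, hb⟩
        exact ⟨n + m, a ^ (q ^ m) * b ^ (q ^ n), by
          rw [map_mul, map_pow, map_pow, ha, hb, mul_pow, ← pow_mul, ← pow_mul, ← pow_add, ← pow_add, add_comm m n]⟩ }
  have hS := hgen S (by rintro _ ⟨r, rfl⟩; exact ⟨0, r, by simp⟩) hs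
  exact fun z => (show z ∈ S from hS ▸ trivial)

end

theorem radicial_includeRight {A B C : Type u} [CommRing A] [CommRing B] [CommRing C] [Algebra A B] [Algebra A C]
    {q : ℕ} (h : Radicial q (algebraMap A B)) (hT : AddPow q (B ⊗[A] C)) :
    Radicial q (Algebra.TensorProduct.includeRight : C →ₐ[A] B ⊗[A] C).toRingHom := by
  refine radicial_of_generators hT (Set.range fun b : B => b ⊗ₜ[A] (1 : C)) (fun S h₁ h₂ => ?_) ?_
  · refine eq_top_iff.2 fun z _ => ?_
    induction z with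
    | zero => exact zero_mem _
    | add x y hx hy => exact add_mem (hx trivial) (hy trivial)
    | tmul b c =>
      have : b ⊗ₜ[A] c = b ⊗ₜ[A] (1 : C) * (1 : B) ⊗ₜ[A] c := by simp
      exact this ▸ mul_mem (h₂ ⟨b, rfl⟩) (h₁ ⟨c, rfl⟩)
  · rintro _ ⟨b, rfl⟩
    obtain ⟨n, a, ha⟩ := h b
    refine ⟨n, algebraMap A C a, ?_⟩
    show (1 : B) ⊗ₜ[A] algebraMap A C a = _
    rw [Algebra.TensorProduct.tmul_pow, one_pow, ← ha, Algebra.algebraMap_eq_smul_one a,
      Algebra.algebraMap_eq_smul_one a, TensorProduct.smul_tmul]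

/-- Trivial idempotents, from a radicial extension of the data where integral closure commutes. -/
theorem connectedSpace_tensor_of_model {RS RX D RS' D' K : Type u} [CommRing RS] [IsLocalRing RS]
    [CommRing RX] [IsLocalRing RX] [Algebra RS RX] [IsLocalHom (algebraMap RS RX)] [Module.Flat RS RX]
    [CommRing D] [Algebra RS D] [Algebra D RX] [IsScalarTower RS D RX] [Algebra.WeaklyEtale D RX]
    [Field K] [Algebra RS K]
    [CommRing RS'] [HenselianLocalRing RS'] [IsSepClosed (ResidueField RS')] [Algebra RS RS']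
    [IsLocalHom (algebraMap RS RS')] [Algebra RS' K] [IsScalarTower RS RS' K]
    [CommRing D'] [Algebra RS' D'] [Algebra D D'] [Module.Flat RS' D'] (q : ℕ)
    (hcomp : (algebraMap RS' D').comp (algebraMap RS RS') = (algebraMap D D').comp (algebraMap RS D))
    (hS : Radicial q (algebraMap RS RS')) (hD : Radicial q (algebraMap D D'))
    (hadd : AddPow q (D' ⊗[D] RX))
    (hIC : Function.Surjective (TensorProduct.toIntegralClosure RS' D' K))
    {Q : Type u} [CommRing Q] [Nontrivial Q] (mk : RX ⊗[RS] K →+* Q) (hmk : ∀ a, mk a = 0 → IsNilpotent a)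
    (sD : D' →+* Q) (hsS : ∀ r, sD (algebraMap RS' D' r) = mk ((1 : RX) ⊗ₜ[RS] algebraMap RS' K r))
    (hsD : ∀ d, sD (algebraMap D D' d) = mk (algebraMap D RX d ⊗ₜ[RS] (1 : K))) :
    ConnectedSpace (PrimeSpectrum (RX ⊗[RS] K)) := by
  haveI : Module.FaithfullyFlat RS RX := Module.FaithfullyFlat.of_flat_of_isLocalHom
  haveI : Nontrivial (RX ⊗[RS] K) := inferInstance
  refine connectedSpace_of_idem _ fun e he => ?_
  haveI : SMulCommClass D RS' D' := ⟨fun d r x => by simp only [Algebra.smul_def]; ring⟩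
  haveI : Module.Flat RS' (D' ⊗[D] RX) := Module.Flat.trans RS' D' (D' ⊗[D] RX)
  let iX : RX →+* D' ⊗[D] RX := (Algebra.TensorProduct.includeRight : RX →ₐ[D] D' ⊗[D] RX).toRingHom
  have hiX : ∀ r : RS, iX (algebraMap RS RX r) = algebraMap RS' (D' ⊗[D] RX) (algebraMap RS RS' r) := fun r => by
    show (Algebra.TensorProduct.includeRight : RX →ₐ[D] D' ⊗[D] RX) (algebraMap RS RX r) =
      algebraMap D' (D' ⊗[D] RX) (algebraMap RS' D' (algebraMap RS RS' r))
    rw [IsScalarTower.algebraMap_apply RS D RX, AlgHom.commutes, ← RingHom.comp_apply (algebraMap RS' D'), hcomp]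
    rfl
  -- the map to the reduced comparison ring
  let qX : RX →+* Q :=
    mk.comp (Algebra.TensorProduct.includeLeft : RX →ₐ[RS] RX ⊗[RS] K).toRingHom
  let qK : K →+* Q :=
    mk.comp (Algebra.TensorProduct.includeRight : K →ₐ[RS] RX ⊗[RS] K).toRingHom
  letI : Algebra D (Q) := (qX.comp (algebraMap D RX)).toAlgebra
  let θ : D' ⊗[D] RX →ₐ[D] Q := Algebra.TensorProduct.lift
    { sD with commutes' := hsD } { qX with commutes' := fun _ => rfl } fun _ _ => Commute.all _ _
  haveI : Nontrivial (D' ⊗[D] RX) := θ.toRingHom.domain_nontrivial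
  -- `D' ⊗ RX` is local, and so is the map to it
  have hX : Radicial q iX := radicial_includeRight hD hadd
  haveI : IsLocalRing (D' ⊗[D] RX) := by
    obtain ⟨M₀, hM₀⟩ := Ideal.exists_maximal (D' ⊗[D] RX)
    refine IsLocalRing.of_unique_max_ideal ⟨M₀, hM₀, fun M hM => ?_⟩
    haveI := hM₀
    haveI := hM
    have h₁ : M.comap iX = M₀.comap iX :=
      (IsLocalRing.eq_maximalIdeal (Ideal.isMaximal_comap_of_isIntegral_of_isMaximal' iX (hX.isIntegral hadd.1) M)).trans
        (IsLocalRing.eq_maximalIdeal (Ideal.isMaximal_comap_of_isIntegral_of_isMaximal' iX (hX.isIntegral hadd.1) M₀)).symm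
    exact congrArg PrimeSpectrum.asIdeal
      (hX.injective_comap hadd.1 (a₁ := ⟨M, inferInstance⟩) (a₂ := ⟨M₀, inferInstance⟩) (PrimeSpectrum.ext h₁))
  haveI : IsLocalHom (algebraMap RS' (D' ⊗[D] RX)) := by
    refine ⟨fun a ha => ?_⟩
    by_contra hn
    obtain ⟨n, r, hr⟩ := hS a
    have hr₁ : r ∈ maximalIdeal RS := fun hu => hn ((isUnit_pow_iff (pow_pos hadd.1 n).ne').1 (hr ▸ hu.map _))
    have hr₂ : algebraMap RS RX r ∈ maximalIdeal RX := map_nonunit _ _ hr₁
    have hm : (maximalIdeal (D' ⊗[D] RX)).comap iX = maximalIdeal RX :=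
      IsLocalRing.eq_maximalIdeal (Ideal.isMaximal_comap_of_isIntegral_of_isMaximal' iX (hX.isIntegral hadd.1) _)
    rw [← hm] at hr₂
    have hr₃ : algebraMap RS' (D' ⊗[D] RX) (algebraMap RS RS' r) ∈ maximalIdeal (D' ⊗[D] RX) := hiX r ▸ hr₂
    rw [hr, map_pow] at hr₃
    exact hr₃ (ha.pow _)
  have hIC' : Function.Surjective (TensorProduct.toIntegralClosure RS' (D' ⊗[D] RX) K) :=
    (TensorProduct.toIntegralClosure_bijective_of_tower
      ⟨TensorProduct.toIntegralClosure_injective_of_flat, hIC⟩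
      (toIntegralClosure_bijective_of_weaklyEtale D' (D' ⊗[D] RX) (D' ⊗[RS'] K))).2
  -- comparison
  letI : Algebra RS ((D' ⊗[D] RX) ⊗[RS'] K) :=
    ((algebraMap RS' ((D' ⊗[D] RX) ⊗[RS'] K)).comp (algebraMap RS RS')).toAlgebra
  let Λ : RX ⊗[RS] K →ₐ[RS] (D' ⊗[D] RX) ⊗[RS'] K := Algebra.TensorProduct.lift
    { (Algebra.TensorProduct.includeLeft : (D' ⊗[D] RX) →ₐ[RS'] (D' ⊗[D] RX) ⊗[RS'] K).toRingHom.comp iX with
      commutes' := fun r => (congrArg _ (hiX r)).trans
        ((Algebra.TensorProduct.includeLeft : (D' ⊗[D] RX) →ₐ[RS'] (D' ⊗[D] RX) ⊗[RS'] K).commutes _) }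
    { (Algebra.TensorProduct.includeRight : K →ₐ[RS'] (D' ⊗[D] RX) ⊗[RS'] K).toRingHom with
      commutes' := fun r => (congrArg _ (IsScalarTower.algebraMap_apply RS RS' K r)).trans
        ((Algebra.TensorProduct.includeRight : K →ₐ[RS'] (D' ⊗[D] RX) ⊗[RS'] K).commutes _) }
    fun _ _ => Commute.all _ _
  letI : Algebra RS' (Q) := (qK.comp (algebraMap RS' K)).toAlgebra
  let θS : D' ⊗[D] RX →ₐ[RS'] Q :=
    { θ.toRingHom with
      commutes' := fun r => by
        show θ (algebraMap RS' D' r ⊗ₜ (1 : RX)) = qK (algebraMap RS' K r)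
        rw [Algebra.TensorProduct.lift_tmul, map_one, mul_one]
        exact hsS r }
  let qKS : K →ₐ[RS'] Q := { qK with commutes' := fun _ => rfl }
  let Θ : (D' ⊗[D] RX) ⊗[RS'] K →ₐ[RS'] Q :=
    Algebra.TensorProduct.lift θS qKS fun _ _ => Commute.all _ _
  have hΘ : ∀ z : RX ⊗[RS] K, Θ (Λ z) = mk z := fun z => by
    induction z with
    | zero => simp
    | add x y hx hy => simp only [map_add, hx, hy]
    | tmul a b =>
      rw [Algebra.TensorProduct.lift_tmul, map_mul]
      show Θ (iX a ⊗ₜ (1 : K)) * Θ ((1 : D' ⊗[D] RX) ⊗ₜ b) = _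
      rw [Algebra.TensorProduct.lift_tmul, Algebra.TensorProduct.lift_tmul, map_one, map_one, mul_one, one_mul]
      show θ ((1 : D') ⊗ₜ a) * qK b = _
      rw [Algebra.TensorProduct.lift_tmul, map_one, one_mul]
      show mk (a ⊗ₜ (1 : K)) * mk ((1 : RX) ⊗ₜ b) = _
      rw [← map_mul]
      simp
  have hnil : ∀ a, Λ a = 0 → IsNilpotent a := fun a ha =>
    hmk a (by rw [← hΘ, ha, map_zero])
  rcases idem_tensor_eq_zero_or_one RS' (D' ⊗[D] RX) K hIC' (Λ e) (he.map Λ) with h | h
  · exact Or.inl (he.eq_zero_of_isNilpotent (hnil e h))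
  · refine Or.inr (sub_eq_zero.1 ?_).symm
    exact he.one_sub.eq_zero_of_isNilpotent (hnil (1 - e) (by rw [map_sub, map_one, h, sub_self]))

/-- The radicial model over a perfect field, abstractly. -/
theorem connectedSpace_tensor_of_perfectModel {k kp C RS RX RS' C' K : Type u} [Field k] [Field kp] [PerfectField kp]
    [Algebra k kp] [IsPurelyInseparable k kp] [CommRing C] [Algebra k C] [CommRing RS] [IsLocalRing RS] [Algebra k RS]
    [CommRing RX] [IsLocalRing RX] [Algebra RS RX] [IsLocalHom (algebraMap RS RX)]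
    [Algebra (RS ⊗[k] C) RX] [IsScalarTower RS (RS ⊗[k] C) RX] [Algebra.WeaklyEtale (RS ⊗[k] C) RX]
    [CommRing RS'] [HenselianLocalRing RS'] [IsSepClosed (ResidueField RS')] [Algebra RS RS']
    [IsLocalHom (algebraMap RS RS')] [Algebra kp RS'] [CommRing C'] [IsReduced C'] [Algebra kp C']
    [Field K] [Algebra RS K] [Algebra RS' K] [IsScalarTower RS RS' K] [Algebra kp K] [IsScalarTower kp RS' K]
    (q : ℕ) [ExpChar k q] (hk : Radicial q (algebraMap k kp)) (hS : Radicial q (algebraMap RS RS'))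
    (hkS : ∀ a, algebraMap RS RS' (algebraMap k RS a) = algebraMap kp RS' (algebraMap k kp a))
    (jC : C →+* C') (hkC : ∀ a, jC (algebraMap k C a) = algebraMap kp C' (algebraMap k kp a))
    (hgen : ∀ S : Subsemiring C', Set.range jC ⊆ S → Set.range (algebraMap kp C') ⊆ S → S = ⊤)
    (hlift : ∀ (Q : Type u) [CommRing Q] [IsReduced Q] (g : C →+* Q) (h : kp →+* Q),
      (∀ a, g (algebraMap k C a) = h (algebraMap k kp a)) →
      ∃ g' : C' →+* Q, (∀ c, g' (jC c) = g c) ∧ ∀ a, g' (algebraMap kp C' a) = h a) :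
    ConnectedSpace (PrimeSpectrum (RX ⊗[RS] K)) := by
  haveI : Module.Flat RS RX := Module.Flat.trans RS (RS ⊗[k] C) RX
  haveI : Module.FaithfullyFlat RS RX := Module.FaithfullyFlat.of_flat_of_isLocalHom
  let jR := (Algebra.TensorProduct.includeRight : C' →ₐ[kp] RS' ⊗[kp] C')
  letI : Algebra k (RS' ⊗[kp] C') := ((algebraMap kp (RS' ⊗[kp] C')).comp (algebraMap k kp)).toAlgebra
  have hl : ∀ a, algebraMap RS' (RS' ⊗[kp] C') (algebraMap kp RS' a) = algebraMap kp (RS' ⊗[kp] C') a :=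
    fun a => (IsScalarTower.algebraMap_apply kp RS' (RS' ⊗[kp] C') a).symm
  let cC : C →ₐ[k] RS' ⊗[kp] C' :=
    { jR.toRingHom.comp jC with
      commutes' := fun a => (congrArg jR (hkC a)).trans (jR.commutes _) }
  let cS : RS →ₐ[k] RS' ⊗[kp] C' :=
    { (algebraMap RS' (RS' ⊗[kp] C')).comp (algebraMap RS RS') with
      commutes' := fun a => (congrArg (algebraMap RS' (RS' ⊗[kp] C')) (hkS a)).trans (hl _) }
  let π : RS ⊗[k] C →ₐ[k] RS' ⊗[kp] C' :=
    Algebra.TensorProduct.lift cS cC fun _ _ => Commute.all _ _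
  have hπl : ∀ r : RS, π (r ⊗ₜ (1 : C)) = cS r := fun r => by
    rw [Algebra.TensorProduct.lift_tmul, map_one, mul_one]
  have hπr : ∀ c : C, π ((1 : RS) ⊗ₜ c) = cC c := fun c => by
    rw [Algebra.TensorProduct.lift_tmul, map_one, one_mul]
  letI : Algebra (RS ⊗[k] C) (RS' ⊗[kp] C') := π.toRingHom.toAlgebra
  have hD : Radicial q (algebraMap (RS ⊗[k] C) (RS' ⊗[kp] C')) := by
    refine radicial_of_generators (addPow_of_algebra k q _)
      (Set.range (algebraMap RS' (RS' ⊗[kp] C'))) (fun S h₁ h₂ => ?_) ?_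
    · let S' : Subsemiring C' := S.comap jR.toRingHom
      have hS' : S' = ⊤ := hgen S' (by rintro _ ⟨c, rfl⟩; exact h₁ ⟨1 ⊗ₜ c, hπr c⟩)
        (by rintro _ ⟨a, rfl⟩; show jR (algebraMap kp C' a) ∈ S; rw [jR.commutes, ← hl]; exact h₂ ⟨_, rfl⟩)
      refine eq_top_iff.2 fun z _ => ?_
      induction z with
      | zero => exact zero_mem _
      | add x y hx hy => exact add_mem (hx trivial) (hy trivial)
      | tmul w c =>
        have e : (w ⊗ₜ c : RS' ⊗[kp] C') = algebraMap RS' _ w * jR c := by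
          show _ = w ⊗ₜ (1 : C') * (1 : RS') ⊗ₜ c
          simp
        rw [e]
        exact mul_mem (h₂ ⟨w, rfl⟩) (show c ∈ S' from hS' ▸ trivial)
    · rintro _ ⟨w, rfl⟩
      obtain ⟨n, r, hr⟩ := hS w
      exact ⟨n, r ⊗ₜ 1, (hπl r).trans ((congrArg (algebraMap RS' (RS' ⊗[kp] C')) hr).trans (map_pow _ _ _))⟩
  haveI : Nontrivial (RX ⊗[RS] K) := inferInstance
  let Z := RX ⊗[RS] K
  let mk := Ideal.Quotient.mk (nilradical (RX ⊗[RS] K))
  haveI : IsReduced ((RX ⊗[RS] K) ⧸ nilradical (RX ⊗[RS] K)) := (Ideal.isRadical_iff_quotient_reduced _).1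
    (Ideal.radical_isRadical (0 : Ideal (RX ⊗[RS] K)))
  haveI : Nontrivial ((RX ⊗[RS] K) ⧸ nilradical (RX ⊗[RS] K)) := Ideal.Quotient.nontrivial_iff.2 fun h =>
    not_isNilpotent_one (mem_nilradical.1 (h ▸ Submodule.mem_top (x := (1 : RX ⊗[RS] K))))
  let qX := mk.comp (Algebra.TensorProduct.includeLeft : RX →ₐ[RS] RX ⊗[RS] K).toRingHom
  let qK := mk.comp (Algebra.TensorProduct.includeRight : K →ₐ[RS] RX ⊗[RS] K).toRingHom
  have hq' : ∀ r : RS, qX (algebraMap RS RX r) = qK (algebraMap RS K r) := fun r =>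
    congrArg mk (((Algebra.TensorProduct.includeLeft : RX →ₐ[RS] RX ⊗[RS] K).commutes r).trans
      ((Algebra.TensorProduct.includeRight : K →ₐ[RS] RX ⊗[RS] K).commutes r).symm)
  obtain ⟨g', hg₁, hg₂⟩ := hlift ((RX ⊗[RS] K) ⧸ nilradical (RX ⊗[RS] K))
    (qX.comp ((algebraMap (RS ⊗[k] C) RX).comp (Algebra.TensorProduct.includeRight : C →ₐ[k] RS ⊗[k] C).toRingHom))
    (qK.comp (algebraMap kp K)) fun a => by
      show qX (algebraMap (RS ⊗[k] C) RX
        ((Algebra.TensorProduct.includeRight : C →ₐ[k] RS ⊗[k] C) (algebraMap k C a))) = qK (algebraMap kp K (algebraMap k kp a))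
      rw [AlgHom.commutes, IsScalarTower.algebraMap_apply k RS (RS ⊗[k] C),
        ← IsScalarTower.algebraMap_apply RS (RS ⊗[k] C) RX, hq', IsScalarTower.algebraMap_apply RS RS' K, hkS,
        ← IsScalarTower.algebraMap_apply kp RS' K]
  letI : Algebra kp ((RX ⊗[RS] K) ⧸ nilradical (RX ⊗[RS] K)) := (qK.comp (algebraMap kp K)).toAlgebra
  let sC : C' →ₐ[kp] (RX ⊗[RS] K) ⧸ nilradical (RX ⊗[RS] K) := { g' with commutes' := hg₂ }
  let sS : RS' →ₐ[kp] (RX ⊗[RS] K) ⧸ nilradical (RX ⊗[RS] K) :=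
    { qK.comp (algebraMap RS' K) with
      commutes' := fun a => congrArg qK (IsScalarTower.algebraMap_apply kp RS' K a).symm }
  let sD := Algebra.TensorProduct.lift sS sC fun _ _ => Commute.all _ _
  have hsS : ∀ r, sD (algebraMap RS' _ r) = qK (algebraMap RS' K r) := fun r => by
    show sD (r ⊗ₜ (1 : C')) = _
    rw [Algebra.TensorProduct.lift_tmul, map_one, mul_one]
    rfl
  refine connectedSpace_tensor_of_model q (RS' := RS') (D := RS ⊗[k] C) ?_ hS hD ?_
    (toIntegralClosure_surjective_of_perfect kp RS' K C') mk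
    (fun a ha => mem_nilradical.1 (Ideal.Quotient.eq_zero_iff_mem.1 ha)) sD.toRingHom hsS fun d => ?_
  · exact RingHom.ext fun r => (hπl r).symm
  · letI : Algebra k ((RS' ⊗[kp] C') ⊗[RS ⊗[k] C] RX) :=
      ((algebraMap (RS' ⊗[kp] C') _).comp (algebraMap k (RS' ⊗[kp] C'))).toAlgebra
    exact addPow_of_algebra k q _
  · show sD (π d) = qX (algebraMap (RS ⊗[k] C) RX d)
    induction d with
    | zero => simp
    | add x y hx hy => simp only [map_add, hx, hy]
    | tmul r c =>
      have e : (r ⊗ₜ c : RS ⊗[k] C) = algebraMap RS (RS ⊗[k] C) r * (1 : RS) ⊗ₜ c := by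
        show _ = r ⊗ₜ (1 : C) * _
        simp
      rw [e, map_mul, map_mul, map_mul, map_mul]
      congr 1
      · rw [show π (algebraMap RS (RS ⊗[k] C) r) = cS r from hπl r, ← IsScalarTower.algebraMap_apply, hq',
          IsScalarTower.algebraMap_apply RS RS' K]
        exact hsS _
      · rw [hπr]
        show sD ((1 : RS') ⊗ₜ jC c) = _
        rw [Algebra.TensorProduct.lift_tmul, map_one, one_mul]
        exact hg₁ c

attribute [local instance] Algebra.TensorProduct.rightAlgebra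

theorem connectedSpace_tensor_of_perfectExt (k kp : Type u) [Field k] [Field kp] [PerfectField kp] [Algebra k kp]
    [IsPurelyInseparable k kp] (C RS RX : Type u) [CommRing C] [Algebra k C]
    [CommRing RS] [HenselianLocalRing RS] [IsSepClosed (ResidueField RS)] [Algebra k RS]
    [CommRing RX] [IsLocalRing RX] [Algebra RS RX] [IsLocalHom (algebraMap RS RX)]
    [Algebra (RS ⊗[k] C) RX] [IsScalarTower RS (RS ⊗[k] C) RX] [Algebra.WeaklyEtale (RS ⊗[k] C) RX]
    (K : Type u) [Field K] [IsAlgClosed K] [Algebra RS K] [Algebra k K] [IsScalarTower k RS K] (ικ : kp →ₐ[k] K) :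
    ConnectedSpace (PrimeSpectrum (RX ⊗[RS] K)) := by
  letI : Algebra kp K := ικ.toRingHom.toAlgebra
  let q := ringExpChar k
  have hq0 : 0 < q := expChar_pos k q
  have hk : Radicial q (algebraMap k kp) := fun a => by
    obtain ⟨n, r, hr⟩ := IsPurelyInseparable.pow_mem k q a
    exact ⟨n, r, hr⟩
  have hS : Radicial q (algebraMap RS (RS ⊗[k] kp)) := by
    intro z
    obtain ⟨n, r, hr⟩ := radicial_includeRight (C := RS) hk (addPow_of_algebra k q _)
      (Algebra.TensorProduct.comm k RS kp z)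
    refine ⟨n, r, (Algebra.TensorProduct.comm k RS kp).injective ?_⟩
    rw [map_pow, ← hr]
    rfl
  let qS : RS ⊗[k] kp →ₐ[k] K := Algebra.TensorProduct.lift (IsScalarTower.toAlgHom k RS K) ικ
    fun _ _ => Commute.all _ _
  haveI : Nontrivial (RS ⊗[k] kp) := qS.toRingHom.domain_nontrivial
  haveI : Algebra.IsIntegral RS (RS ⊗[k] kp) := ⟨hS.isIntegral hq0⟩
  haveI : IsLocalRing (RS ⊗[k] kp) := by
    obtain ⟨M₀, hM₀⟩ := Ideal.exists_maximal (RS ⊗[k] kp)
    refine IsLocalRing.of_unique_max_ideal ⟨M₀, hM₀, fun M hM => ?_⟩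
    haveI := hM₀
    haveI := hM
    have h₁ : M.comap (algebraMap RS (RS ⊗[k] kp)) = M₀.comap (algebraMap RS (RS ⊗[k] kp)) :=
      (IsLocalRing.eq_maximalIdeal (Ideal.isMaximal_comap_of_isIntegral_of_isMaximal M)).trans
        (IsLocalRing.eq_maximalIdeal (Ideal.isMaximal_comap_of_isIntegral_of_isMaximal M₀)).symm
    exact congrArg PrimeSpectrum.asIdeal
      (hS.injective_comap hq0 (a₁ := ⟨M, inferInstance⟩) (a₂ := ⟨M₀, inferInstance⟩) (PrimeSpectrum.ext h₁))
  haveI : HenselianLocalRing (RS ⊗[k] kp) := Hensel.henselianLocalRing_of_isIntegral_local RS _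
  haveI : IsLocalHom (algebraMap RS (RS ⊗[k] kp)) := Hensel.isLocalHom_of_isIntegral_local RS _
  haveI : IsSepClosed (ResidueField (RS ⊗[k] kp)) := (Hensel.residueField_of_isIntegral RS (RS ⊗[k] kp)).1
  letI : Algebra (RS ⊗[k] kp) K := qS.toRingHom.toAlgebra
  have hqS : ∀ r : RS, algebraMap RS K r = qS (algebraMap RS (RS ⊗[k] kp) r) := fun r => by
    show _ = qS (r ⊗ₜ (1 : kp))
    rw [Algebra.TensorProduct.lift_tmul, map_one, mul_one]
    rfl
  haveI : IsScalarTower RS (RS ⊗[k] kp) K := IsScalarTower.of_algebraMap_eq hqS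
  haveI : IsScalarTower kp (RS ⊗[k] kp) K := IsScalarTower.of_algebraMap_eq fun a => by
    show ικ a = qS ((1 : RS) ⊗ₜ a)
    rw [Algebra.TensorProduct.lift_tmul, map_one, one_mul]
  haveI : IsReduced ((kp ⊗[k] C) ⧸ nilradical (kp ⊗[k] C)) := (Ideal.isRadical_iff_quotient_reduced _).1
    (Ideal.radical_isRadical (0 : Ideal (kp ⊗[k] C)))
  refine connectedSpace_tensor_of_perfectModel (kp := kp) (C := C) (RS' := RS ⊗[k] kp)
    (C' := (kp ⊗[k] C) ⧸ nilradical (kp ⊗[k] C)) q hk hS ?_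
    ((Ideal.Quotient.mk _).comp (Algebra.TensorProduct.includeRight : C →ₐ[k] kp ⊗[k] C).toRingHom) ?_ ?_ ?_
  · intro a
    exact ((Algebra.TensorProduct.includeLeft : RS →ₐ[k] RS ⊗[k] kp).commutes a).trans
      ((Algebra.TensorProduct.includeRight : kp →ₐ[k] RS ⊗[k] kp).commutes a).symm
  · intro a
    show Ideal.Quotient.mk _ ((Algebra.TensorProduct.includeRight : C →ₐ[k] kp ⊗[k] C) (algebraMap k C a)) = _
    rw [AlgHom.commutes, IsScalarTower.algebraMap_apply k kp (kp ⊗[k] C)]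
    rfl
  · intro S h₁ h₂
    refine eq_top_iff.2 fun z _ => ?_
    obtain ⟨z, rfl⟩ := Ideal.Quotient.mk_surjective z
    induction z with
    | zero => rw [map_zero]; exact zero_mem _
    | add x y hx hy => rw [map_add]; exact add_mem (hx trivial) (hy trivial)
    | tmul a c =>
      have : (a ⊗ₜ[k] c : kp ⊗[k] C) = algebraMap kp (kp ⊗[k] C) a * (1 : kp) ⊗ₜ c := by
        show _ = a ⊗ₜ (1 : C) * _
        simp
      rw [this, map_mul]
      exact mul_mem (h₂ ⟨a, rfl⟩) (h₁ ⟨c, rfl⟩)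
  · intro Q _ _ g h hgh
    letI : Algebra k Q := (h.comp (algebraMap k kp)).toAlgebra
    let l : kp ⊗[k] C →ₐ[k] Q := Algebra.TensorProduct.lift { h with commutes' := fun _ => rfl }
      { g with commutes' := hgh } fun _ _ => Commute.all _ _
    refine ⟨Ideal.Quotient.lift _ l.toRingHom fun a ha => IsNilpotent.eq_zero ((mem_nilradical.1 ha).map l),
      fun c => ?_, fun a => ?_⟩
    · show l ((1 : kp) ⊗ₜ c) = g c
      rw [Algebra.TensorProduct.lift_tmul, map_one, one_mul]
      rfl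
    · show l (a ⊗ₜ (1 : C)) = h a
      rw [Algebra.TensorProduct.lift_tmul, map_one, mul_one]
      rfl

/-- Over a field, a local weakly etale algebra over `RS ⊗ C` has no idempotents after extension to `K`. -/
theorem connectedSpace_tensor_of_fieldBase (k : Type u) [Field k] (C RS RX : Type u) [CommRing C] [Algebra k C]
    [CommRing RS] [HenselianLocalRing RS] [IsSepClosed (ResidueField RS)] [Algebra k RS]
    [CommRing RX] [IsLocalRing RX] [Algebra RS RX] [IsLocalHom (algebraMap RS RX)]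
    [Algebra (RS ⊗[k] C) RX] [IsScalarTower RS (RS ⊗[k] C) RX] [Algebra.WeaklyEtale (RS ⊗[k] C) RX]
    (K : Type u) [Field K] [IsAlgClosed K] [Algebra RS K] :
    ConnectedSpace (PrimeSpectrum (RX ⊗[RS] K)) := by
  letI : Algebra k K := ((algebraMap RS K).comp (algebraMap k RS)).toAlgebra
  haveI : IsScalarTower k RS K := IsScalarTower.of_algebraMap_eq fun _ => rfl
  exact connectedSpace_tensor_of_perfectExt k (perfectClosure k K) C RS RX K (perfectClosure k K).val

end Groth.Agent.EtPBC0
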