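import Groth.Agent.AICCover.Ring
import Groth.Agent.ModPairLocal.AIC
import Mathlib.FieldTheory.IsAlgClosed.AlgebraicClosure

/-!
# Quasi-finite flat coverings of a ring have sections locally on a finite covering
-/

set_option autoImplicit false
set_option linter.style.haveILetI false

universe w v u

open Polynomial

namespace Groth.Agent.EtPBC0

section Prod

variable {A : Type u} [CommRing A] {ι : Type v} (K : ι → Type u) [∀ i, Field (K i)] [Algebra A (∀ i, K i)]

/-- Monic polynomials over the integral closure in a product of algebraically closed fields have roots. -/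
theorem isAIC_integralClosure_pi [∀ i, IsAlgClosed (K i)] :
    Curves.IsAIC (integralClosure A (∀ i, K i)) := by
  intro f hf hd
  let e := (integralClosure A (∀ i, K i)).val.toRingHom
  have hroot : ∀ i, ∃ z : K i, (f.map ((Pi.evalRingHom K i).comp e)).IsRoot z := fun i => by
    haveI : Nontrivial (integralClosure A (∀ i, K i)) := RingHom.domain_nontrivial ((Pi.evalRingHom K i).comp e)
    refine IsAlgClosed.exists_root _ ?_
    rw [hf.degree_map]
    exact (natDegree_pos_iff_degree_pos.1 hd).ne'
  choose z hz using hroot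
  have h0 : eval₂ e z f = 0 := funext fun i => by
    show Pi.evalRingHom K i (eval₂ e z f) = 0
    rw [hom_eval₂, ← Polynomial.eval_map]
    exact hz i
  have hint : IsIntegral (integralClosure A (∀ i, K i)) (z : ∀ i, K i) := ⟨f, hf, h0⟩
  refine ⟨⟨z, isIntegral_trans z hint⟩, Subtype.ext ?_⟩
  show e (eval _ f) = 0
  rw [← eval₂_at_apply]
  exact h0

/-- The local rings of an integral closure in a product of fields are domains. -/
theorem isDomain_localization_integralClosure_pi (P : Ideal (integralClosure A (∀ i, K i))) [P.IsPrime] :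
    IsDomain (Localization.AtPrime P) := by
  classical
  have key : ∀ a b : integralClosure A (∀ i, K i), a * b = 0 → ∃ t ∉ P, t * a = 0 ∨ t * b = 0 := by
    intro a b hab
    let e₀ : ∀ i, K i := fun x => if a.1 x = 0 then 0 else 1
    have he : e₀ ∈ integralClosure A (∀ i, K i) := by
      refine ⟨Polynomial.X * (Polynomial.X - Polynomial.C 1), monic_X.mul (monic_X_sub_C 1), ?_⟩
      rw [eval₂_mul, eval₂_sub, eval₂_X, eval₂_C, map_one]
      funext x
      show e₀ x * (e₀ x - 1) = 0
      simp only [e₀]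
      split_ifs <;> simp
    by_cases hP : (⟨e₀, he⟩ : integralClosure A (∀ i, K i)) ∈ P
    · refine ⟨1 - ⟨e₀, he⟩, fun h => (inferInstance : P.IsPrime).ne_top
        ((Ideal.eq_top_iff_one _).2 (by simpa using P.add_mem h hP)), Or.inl ?_⟩
      refine Subtype.ext (funext fun x => ?_)
      show (1 - e₀ x) * a.1 x = 0
      simp only [e₀]
      split_ifs with h <;> simp [h]
    · refine ⟨⟨e₀, he⟩, hP, Or.inr (Subtype.ext (funext fun x => ?_))⟩
      show e₀ x * b.1 x = 0
      simp only [e₀]
      split_ifs with h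
      · exact zero_mul _
      · rw [one_mul]
        exact (mul_eq_zero.1 (congrFun (congrArg Subtype.val hab) x)).resolve_left h
  haveI : NoZeroDivisors (Localization.AtPrime P) := by
    refine ⟨fun {u v} huv => ?_⟩
    obtain ⟨⟨a, s⟩, rfl⟩ := IsLocalization.mk'_surjective (S := Localization.AtPrime P) P.primeCompl u
    obtain ⟨⟨b, t⟩, rfl⟩ := IsLocalization.mk'_surjective (S := Localization.AtPrime P) P.primeCompl v
    rw [← IsLocalization.mk'_mul, IsLocalization.mk'_eq_zero_iff] at huv
    obtain ⟨c, hc⟩ := huv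
    obtain ⟨d, hd, hd'⟩ := key ((c : integralClosure A (∀ i, K i)) * a) b (by rw [mul_assoc]; exact hc)
    simp only [IsLocalization.mk'_eq_zero_iff]
    rcases hd' with h | h
    · exact Or.inl ⟨⟨d * c, P.primeCompl.mul_mem hd c.2⟩, by rw [mul_assoc]; exact h⟩
    · exact Or.inr ⟨⟨d, hd⟩, h⟩
  exact NoZeroDivisors.to_isDomain (Localization.AtPrime P)

end Prod

theorem exists_descend_away {A B C : Type u} [CommRing A] [CommRing B] [CommRing C] [Algebra A B] [Algebra A C]
    (B' : Subalgebra A B) (b : B') (σ : C →ₐ[A] Localization.Away (b : B)) (s : Finset C)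
    (hs : Algebra.adjoin A (s : Set C) = ⊤)
    (h : ∀ c ∈ s, ∃ (n : ℕ) (a : B'), σ c * algebraMap B _ ((b : B) ^ n) = algebraMap B _ (a : B)) :
    Nonempty (C →ₐ[A] Localization.Away b) := by
  haveI hloc : IsLocalization ((Submonoid.powers b).map B'.val.toRingHom) (Localization.Away (b : B)) := by
    rw [Submonoid.map_powers]
    exact inferInstanceAs (IsLocalization.Away (b : B) (Localization.Away (b : B)))
  let θ : Localization.Away b →+* Localization.Away (b : B) :=
    IsLocalization.map (Localization.Away (b : B)) B'.val.toRingHom (Submonoid.powers b).le_comap_map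
  have hθ₀ : Function.Injective θ := IsLocalization.map_injective_of_injective (Submonoid.powers b)
    (Localization.Away b) (Localization.Away (b : B)) (g := B'.val.toRingHom) Subtype.val_injective
  have hθ : ∀ x : B', θ (algebraMap B' _ x) = algebraMap B _ (x : B) := fun x => IsLocalization.map_eq _ x
  let θa : Localization.Away b →ₐ[A] Localization.Away (b : B) := AlgHom.mk θ fun a => by
    change θ (algebraMap A (Localization.Away b) a) = algebraMap A (Localization.Away (b : B)) a
    rw [IsScalarTower.algebraMap_apply A B' (Localization.Away b), hθ, IsScalarTower.algebraMap_apply A B (Localization.Away (b : B))]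
    rfl
  have hle : σ.range ≤ θa.range := by
    rw [← Algebra.map_top, ← hs, AlgHom.map_adjoin, Algebra.adjoin_le_iff]
    rintro _ ⟨c, hc, rfl⟩
    obtain ⟨n, a, ha⟩ := h c hc
    refine ⟨IsLocalization.mk' _ a (⟨b ^ n, n, rfl⟩ : Submonoid.powers b), ?_⟩
    have hu : IsUnit (algebraMap B (Localization.Away (b : B)) ((b : B) ^ n)) :=
      IsLocalization.map_units _ (⟨(b : B) ^ n, n, rfl⟩ : Submonoid.powers (b : B))
    refine hu.mul_left_inj.1 ?_
    show θ _ * _ = σ c * _
    rw [ha, ← hθ a, ← IsLocalization.mk'_spec (Localization.Away b) a (⟨b ^ n, n, rfl⟩ : Submonoid.powers b), map_mul, hθ]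
    simp
  exact ⟨((AlgEquiv.ofInjective θa hθ₀).symm.toAlgHom.comp (Subalgebra.inclusion hle)).comp σ.rangeRestrict⟩

/-- Flat quasi-finite coverings have sections locally on a finite covering. -/
theorem exists_finite_local_sections (A : Type u) [CommRing A] {ι : Type w} (C : ι → Type u) [∀ i, CommRing (C i)]
    [∀ i, Algebra A (C i)] [∀ i, Module.Flat A (C i)] [∀ i, Algebra.FinitePresentation A (C i)]
    [∀ i, Algebra.QuasiFinite A (C i)]
    (hcov : ∀ p : PrimeSpectrum A, ∃ (i : ι) (Q : PrimeSpectrum (C i)), PrimeSpectrum.comap (algebraMap A (C i)) Q = p) :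
    ∃ (B' : Type u) (_ : CommRing B') (_ : Algebra A B'), Module.Finite A B' ∧
      Function.Surjective (PrimeSpectrum.comap (algebraMap A B')) ∧
      ∀ P : PrimeSpectrum B', ∃ b : B', b ∉ P.asIdeal ∧ ∃ i, Nonempty (C i →ₐ[A] Localization.Away b) := by
  classical
  let K : PrimeSpectrum A → Type u := fun p => AlgebraicClosure p.asIdeal.ResidueField
  let B := integralClosure A (∀ p, K p)
  have hker : ∀ p : PrimeSpectrum A, RingHom.ker (algebraMap A (∀ p, K p)) ≤ p.asIdeal := fun p a ha => by
    have h0 : algebraMap A (K p) a = 0 := congrFun (show algebraMap A (∀ p, K p) a = 0 from ha) p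
    rw [IsScalarTower.algebraMap_apply A p.asIdeal.ResidueField (K p), map_eq_zero,
      Ideal.algebraMap_residueField_eq_zero] at h0
    exact h0
  have hloc : ∀ P : PrimeSpectrum B, ∃ b : B, b ∉ P.asIdeal ∧ ∃ i, Nonempty (C i →ₐ[A] Localization.Away b) := fun P => by
    obtain ⟨i, Q, hQ⟩ := hcov (PrimeSpectrum.comap (algebraMap A B) P)
    haveI := isDomain_localization_integralClosure_pi K P.asIdeal
    obtain ⟨b, hb, hσ⟩ := AICCover.exists_section_near A B (C i) P.asIdeal
      (ModPairLocal.isAIC_localization P.asIdeal.primeCompl (isAIC_integralClosure_pi K)) Q.asIdeal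
      (congrArg PrimeSpectrum.asIdeal hQ).symm
    exact ⟨b, hb, i, hσ⟩
  choose bb hbb ii hσ using hloc
  let σ := fun P => (hσ P).some
  have hspan : Ideal.span (Set.range bb) = ⊤ := by
    by_contra h
    obtain ⟨m, hm, hle⟩ := Ideal.exists_le_maximal _ h
    exact hbb ⟨m, hm.isPrime⟩ (hle (Ideal.subset_span ⟨_, rfl⟩))
  obtain ⟨t, ht⟩ := Finsupp.mem_span_range_iff_exists_finsupp.1 (hspan ▸ (Submodule.mem_top : (1 : B) ∈ ⊤))
  have hgen : ∀ P, ∃ s : Finset (C (ii P)), Algebra.adjoin A (s : Set (C (ii P))) = ⊤ := fun P =>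
    (Algebra.FiniteType.out (R := A) (A := C (ii P)))
  choose s hs using hgen
  have hnum : ∀ P (c : C (ii P)), ∃ (n : ℕ) (a : B), σ P c * algebraMap B _ (bb P ^ n) = algebraMap B _ a := fun P c => by
    obtain ⟨⟨a, ⟨_, n, rfl⟩⟩, h⟩ := IsLocalization.surj (Submonoid.powers (bb P)) (σ P c)
    exact ⟨n, a, h⟩
  choose nn aa haa using hnum
  let T : Set B := ⋃ P ∈ t.support, ({bb P, t P} ∪ aa P '' (s P : Set (C (ii P))))
  have hT : T.Finite := t.support.finite_toSet.biUnion fun P _ =>
    ((Set.finite_singleton _).insert _).union ((s P).finite_toSet.image _)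
  let B' := Algebra.adjoin A T
  have hsub : ∀ P ∈ t.support, bb P ∈ B' ∧ t P ∈ B' ∧ ∀ c ∈ s P, aa P c ∈ B' := fun P hP =>
    ⟨Algebra.subset_adjoin (Set.mem_biUnion hP (Or.inl (Or.inl rfl))),
      Algebra.subset_adjoin (Set.mem_biUnion hP (Or.inl (Or.inr rfl))),
      fun c hc => Algebra.subset_adjoin (Set.mem_biUnion hP (Or.inr ⟨c, hc, rfl⟩))⟩
  haveI : Module.Finite A B' :=
    Module.Finite.iff_fg.2 (fg_adjoin_of_finite hT fun x _ => Algebra.IsIntegral.isIntegral x)
  refine ⟨B', inferInstance, inferInstance, inferInstance, fun p => ?_, fun P' => ?_⟩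
  · obtain ⟨Q, -, hQp, hQ⟩ := Ideal.exists_ideal_over_prime_of_isIntegral (R := A) (S := B') p.asIdeal ⊥ (by
      intro a ha
      refine hker p ?_
      have h1 : algebraMap A B' a = 0 := ha
      exact congrArg (fun x : B' => ((x : B) : ∀ p, K p)) h1)
    exact ⟨⟨Q, hQp⟩, PrimeSpectrum.ext hQ⟩
  · obtain ⟨P, hP, hPb⟩ : ∃ P, ∃ hP : P ∈ t.support, (⟨bb P, (hsub P hP).1⟩ : B') ∉ P'.asIdeal := by
      by_contra h
      push Not at h
      have e : (∑ P ∈ t.support.attach, (⟨t P.1, (hsub P.1 P.2).2.1⟩ : B') * ⟨bb P.1, (hsub P.1 P.2).1⟩) = 1 := by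
        refine Subtype.ext ?_
        rw [AddSubmonoidClass.coe_finsetSum]
        show (∑ P ∈ t.support.attach, t P.1 * bb P.1) = 1
        rw [Finset.sum_attach t.support fun P => t P * bb P]
        exact ht
      exact P'.isPrime.ne_top ((Ideal.eq_top_iff_one _).2 (e ▸ Ideal.sum_mem _ fun P _ => Ideal.mul_mem_left _ _ (h P.1 P.2)))
    exact ⟨_, hPb, ii P, exists_descend_away B' ⟨bb P, (hsub P hP).1⟩ (σ P) (s P) (hs P)
      fun c hc => ⟨nn P c, ⟨aa P c, (hsub P hP).2.2 c hc⟩, haa P c⟩⟩

end Groth.Agent.EtPBC0
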