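import Groth.Agent.S9431
import Groth.Agent.GrpSchLib.Reduced
import Mathlib.RingTheory.Smooth.IntegralClosure

/-!
# Integral closure and reduced algebras over perfect fields
-/

set_option autoImplicit false
set_option linter.style.haveILetI false

universe u

open scoped TensorProduct

namespace Groth.Agent.EtPBC0

variable {k : Type u} [Field k] {RS K : Type u} [CommRing RS] [CommRing K] [Algebra k RS] [Algebra k K]
  [Algebra RS K] [IsScalarTower k RS K]

section Cmp

variable (k RS K) (A : Type u) [CommRing A] [Algebra k A]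

/-- `(RS ⊗ A) ⊗ K → A ⊗ K`. -/
noncomputable def cancelHom : (RS ⊗[k] A) ⊗[RS] K →ₗ[k] A ⊗[k] K :=
  (TensorProduct.comm k K A).toLinearMap ∘ₗ
    ((TensorProduct.AlgebraTensorModule.cancelBaseChange k RS K K A).toLinearMap.restrictScalars k) ∘ₗ
      ((TensorProduct.comm RS (RS ⊗[k] A) K).toLinearMap.restrictScalars k)

theorem cancelHom_tmul (r : RS) (a : A) (y : K) :
    cancelHom k RS K A ((r ⊗ₜ[k] a) ⊗ₜ[RS] y) = a ⊗ₜ[k] (r • y) := by
  simp [cancelHom]

/-- The inverse of `cancelHom`. -/
noncomputable def uncancelHom : A ⊗[k] K →ₐ[k] (RS ⊗[k] A) ⊗[RS] K :=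
  Algebra.TensorProduct.lift
    (((Algebra.TensorProduct.includeLeft : RS ⊗[k] A →ₐ[k] (RS ⊗[k] A) ⊗[RS] K)).comp
      (Algebra.TensorProduct.includeRight : A →ₐ[k] RS ⊗[k] A))
    ((Algebra.TensorProduct.includeRight : K →ₐ[RS] (RS ⊗[k] A) ⊗[RS] K).restrictScalars k)
    fun _ _ => Commute.all _ _

theorem uncancelHom_tmul (a : A) (y : K) : uncancelHom k RS K A (a ⊗ₜ[k] y) = ((1 : RS) ⊗ₜ[k] a) ⊗ₜ[RS] y := by
  simp [uncancelHom]

theorem cancel_uncancel (z : A ⊗[k] K) : cancelHom k RS K A (uncancelHom k RS K A z) = z := by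
  induction z with
  | zero => simp
  | tmul a y => rw [uncancelHom_tmul, cancelHom_tmul, one_smul]
  | add x y hx hy => rw [map_add, map_add, hx, hy]

theorem uncancel_cancel (z : (RS ⊗[k] A) ⊗[RS] K) : uncancelHom k RS K A (cancelHom k RS K A z) = z := by
  induction z with
  | zero => simp
  | add x y hx hy => rw [map_add, map_add, hx, hy]
  | tmul d y =>
    induction d with
    | zero => simp
    | tmul r a =>
      rw [cancelHom_tmul, uncancelHom_tmul, ← TensorProduct.smul_tmul]
      congr 1
      rw [TensorProduct.smul_tmul', smul_eq_mul, mul_one]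
    | add x z hx hz => rw [TensorProduct.add_tmul, map_add, map_add, hx, hz]

/-- Scalars for `A ⊗ K`. -/
noncomputable def coefHom : A ⊗[k] RS →ₐ[k] A ⊗[k] K :=
  Algebra.TensorProduct.map (AlgHom.id k A) (IsScalarTower.toAlgHom k RS K)

theorem uncancel_coefHom (c : A ⊗[k] RS) : uncancelHom k RS K A (coefHom k RS K A c) =
    algebraMap (RS ⊗[k] A) ((RS ⊗[k] A) ⊗[RS] K) (Algebra.TensorProduct.comm k A RS c) := by
  induction c with
  | zero => simp
  | tmul a r =>
    simp only [coefHom, Algebra.TensorProduct.map_tmul, AlgHom.id_apply, IsScalarTower.coe_toAlgHom',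
      uncancelHom_tmul, Algebra.TensorProduct.comm_tmul]
    rw [Algebra.algebraMap_eq_smul_one r, ← TensorProduct.smul_tmul, TensorProduct.smul_tmul', smul_eq_mul, mul_one]
    rfl
  | add x y hx hy => simp only [map_add, hx, hy]

end Cmp

theorem exists_finset_mem_range {L : Type u} [CommRing L] [Algebra k L] {M : Type u} [AddCommGroup M] [Module k M]
    (z : L ⊗[k] M) : ∃ E : Finset L, ∀ A : Subalgebra k L, (↑E : Set L) ⊆ (A : Set L) →
      z ∈ LinearMap.range (A.val.toLinearMap.rTensor M) := by
  classical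
  induction z with
  | zero => exact ⟨∅, fun A _ => zero_mem _⟩
  | tmul a y =>
    exact ⟨{a}, fun A hA => ⟨(⟨a, hA (by simp)⟩ : A) ⊗ₜ y, by simp⟩⟩
  | add x y hx hy =>
    obtain ⟨E, hE⟩ := hx
    obtain ⟨E', hE'⟩ := hy
    refine ⟨E ∪ E', fun A hA => add_mem (hE A ?_) (hE' A ?_)⟩
    · exact fun a ha => hA (Finset.mem_union_left _ ha)
    · exact fun a ha => hA (Finset.mem_union_right _ ha)

theorem mem_range_of_integral_smooth (A : Type u) [CommRing A] [Algebra k A] [Algebra.Smooth k A] (ξ : A ⊗[k] K)
    (h : (coefHom k RS K A).toRingHom.IsIntegralElem ξ) :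
    ξ ∈ LinearMap.range (((integralClosure RS K).val.toLinearMap.restrictScalars k).lTensor A) := by
  have hint : IsIntegral (RS ⊗[k] A) (uncancelHom k RS K A ξ) := by
    obtain ⟨p, hp, hpx⟩ := h
    refine ⟨p.map (Algebra.TensorProduct.comm k A RS).toRingHom, hp.map _, ?_⟩
    have hc : (algebraMap (RS ⊗[k] A) ((RS ⊗[k] A) ⊗[RS] K)).comp (Algebra.TensorProduct.comm k A RS).toRingHom =
        (uncancelHom k RS K A).toRingHom.comp (coefHom k RS K A).toRingHom :=
      RingHom.ext fun c => (uncancel_coefHom k RS K A c).symm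
    rw [Polynomial.eval₂_map, hc]
    exact (Polynomial.hom_eval₂ p _ (uncancelHom k RS K A).toRingHom ξ).symm.trans
      ((congrArg (uncancelHom k RS K A).toRingHom hpx).trans (map_zero _))
  obtain ⟨w, hw⟩ := (TensorProduct.toIntegralClosure_bijective_of_smooth (R := RS) (S := RS ⊗[k] A) (B := K)).2
    ⟨_, hint⟩
  have key : ∀ v : (RS ⊗[k] A) ⊗[RS] integralClosure RS K,
      cancelHom k RS K A (TensorProduct.toIntegralClosure RS (RS ⊗[k] A) K v : (RS ⊗[k] A) ⊗[RS] K) ∈
        LinearMap.range (((integralClosure RS K).val.toLinearMap.restrictScalars k).lTensor A) := fun v => by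
    induction v with
    | zero => simp
    | add x y hx hy => rw [map_add, Subalgebra.coe_add, map_add]; exact add_mem hx hy
    | tmul d y =>
      induction d with
      | zero => simp
      | add x z hx hz => rw [TensorProduct.add_tmul, map_add, Subalgebra.coe_add, map_add]; exact add_mem hx hz
      | tmul r a =>
        refine ⟨a ⊗ₜ (r • y), ?_⟩
        simp [TensorProduct.toIntegralClosure, cancelHom_tmul]
  have := key w
  rwa [hw, cancel_uncancel] at this

theorem mem_range_of_integral_field (L : Type u) [Field L] [Algebra k L] [Algebra.IsGeometricallyReduced k L]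
    (ξ : L ⊗[k] K) (h : (coefHom k RS K L).toRingHom.IsIntegralElem ξ) :
    ξ ∈ LinearMap.range (((integralClosure RS K).val.toLinearMap.restrictScalars k).lTensor L) := by
  classical
  obtain ⟨p, hp, hpx⟩ := h
  obtain ⟨E, hE⟩ := exists_finset_mem_range ξ
  choose E' hE' using fun i : ℕ => exists_finset_mem_range (p.coeff i)
  obtain ⟨A, hA, hsm⟩ := S9431.result k L (E ∪ (Finset.range (p.natDegree + 1)).biUnion E')
  haveI := hsm
  let ι : A ⊗[k] K →ₐ[k] L ⊗[k] K := Algebra.TensorProduct.map A.val (AlgHom.id k K)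
  let ι' : A ⊗[k] RS →ₐ[k] L ⊗[k] RS := Algebra.TensorProduct.map A.val (AlgHom.id k RS)
  have hι : ∀ z, A.val.toLinearMap.rTensor K z = ι z := fun z => by
    induction z with
    | zero => simp
    | tmul a b => simp [ι]
    | add x y hx hy => rw [map_add, map_add, hx, hy]
  have hι' : ∀ z, A.val.toLinearMap.rTensor RS z = ι' z := fun z => by
    induction z with
    | zero => simp
    | tmul a b => simp [ι']
    | add x y hx hy => rw [map_add, map_add, hx, hy]
  obtain ⟨ξ', hξ'⟩ := hE A fun a ha => hA (Finset.mem_union_left _ ha)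
  have hco : ∀ i, p.coeff i ∈ ι'.toRingHom.range := fun i => by
    by_cases hi : i ≤ p.natDegree
    · obtain ⟨c, hc⟩ := hE' i A fun a ha => hA (Finset.mem_union_right _
        (Finset.mem_biUnion.2 ⟨i, Finset.mem_range.2 (Nat.lt_succ_of_le hi), ha⟩))
      exact ⟨c, (hι' c).symm.trans hc⟩
    · rw [Polynomial.coeff_eq_zero_of_natDegree_lt (not_le.1 hi)]; exact zero_mem _
  obtain ⟨q, hq, -, hqm⟩ := Polynomial.lifts_and_natDegree_eq_and_monic
    ((Polynomial.lifts_iff_coeff_lifts p).2 fun i => hco i) hp
  have hinj : Function.Injective ι := fun a b hab => by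
    refine (Module.Flat.rTensor_preserves_injective_linearMap (M := K) A.val.toLinearMap Subtype.val_injective) ?_
    rw [hι, hι, hab]
  have hA' : (coefHom k RS K A).toRingHom.IsIntegralElem ξ' := by
    refine ⟨q, hqm, hinj ?_⟩
    have hc : ι.toRingHom.comp (coefHom k RS K A).toRingHom = (coefHom k RS K L).toRingHom.comp ι'.toRingHom := by
      refine RingHom.ext fun z => ?_
      show ι (coefHom k RS K A z) = coefHom k RS K L (ι' z)
      induction z with
      | zero => simp
      | tmul a b => simp [ι, ι', coefHom]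
      | add x y hx hy => simp only [map_add, hx, hy]
    rw [map_zero]
    show ι.toRingHom _ = 0
    rw [Polynomial.hom_eval₂, hc, ← Polynomial.eval₂_map, hq, show ι.toRingHom ξ' = ξ from (hι ξ').symm.trans hξ', hpx]
  obtain ⟨w, hw⟩ := mem_range_of_integral_smooth A ξ' hA'
  refine ⟨A.val.toLinearMap.rTensor _ w, ?_⟩
  rw [← LinearMap.comp_apply, LinearMap.lTensor_comp_rTensor, ← LinearMap.rTensor_comp_lTensor,
    LinearMap.comp_apply, hw, hξ']

variable (k RS K) in
/-- For a reduced algebra over a perfect field, integral closure commutes with the base change. -/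
theorem toIntegralClosure_surjective_of_perfect [PerfectField k] (C : Type u) [CommRing C] [Algebra k C]
    [IsReduced C] : Function.Surjective (TensorProduct.toIntegralClosure RS (RS ⊗[k] C) K) := by
  classical
  rintro ⟨x, hx⟩
  let f := (integralClosure RS K).val.toLinearMap.restrictScalars k
  let N := LinearMap.range f
  let q : K →ₗ[k] K ⧸ N := N.mkQ
  have hex : Function.Exact f q := LinearMap.exact_map_mkQ_range f
  let ξ := cancelHom k RS K C x
  have hξ : (coefHom k RS K C).toRingHom.IsIntegralElem ξ := by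
    obtain ⟨p, hp, hpx⟩ := hx
    refine ⟨p.map (Algebra.TensorProduct.comm k RS C).toRingHom, hp.map _, ?_⟩
    have hinj : Function.Injective (uncancelHom k RS K C) := fun a b hab => by
      rw [← cancel_uncancel k RS K C a, hab, cancel_uncancel]
    have hc : (uncancelHom k RS K C).toRingHom.comp ((coefHom k RS K C).toRingHom.comp
        (Algebra.TensorProduct.comm k RS C).toRingHom) = algebraMap (RS ⊗[k] C) ((RS ⊗[k] C) ⊗[RS] K) := by
      refine RingHom.ext fun z => (uncancel_coefHom k RS K C _).trans (congrArg _ ?_)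
      exact (Algebra.TensorProduct.comm k RS C).symm_apply_apply z
    refine hinj ?_
    rw [map_zero, Polynomial.eval₂_map]
    show (uncancelHom k RS K C).toRingHom _ = 0
    rw [Polynomial.hom_eval₂, hc, show (uncancelHom k RS K C).toRingHom ξ = x from uncancel_cancel k RS K C x]
    exact hpx
  have h0 : q.lTensor C ξ = 0 := by
    let b := Module.Free.chooseBasis k (K ⧸ N)
    let e := TensorProduct.equivFinsuppOfBasisRight (M := C) b
    refine e.injective (Finsupp.ext fun i => ?_)
    rw [map_zero, Finsupp.zero_apply]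
    refine IsNilpotent.eq_zero (nilpotent_iff_mem_prime.2 fun P hP => ?_)
    let L := P.ResidueField
    let φ : C →ₐ[k] L := IsScalarTower.toAlgHom k C L
    haveI : Algebra.IsGeometricallyReduced k L := GrpSchLib.isGeometricallyReduced_of_isReduced k L
    let g : C ⊗[k] K →ₐ[k] L ⊗[k] K := Algebra.TensorProduct.map φ (AlgHom.id k K)
    have hgint : (coefHom k RS K L).toRingHom.IsIntegralElem (g ξ) := by
      obtain ⟨p, hp, hpx⟩ := hξ
      let g' : C ⊗[k] RS →ₐ[k] L ⊗[k] RS := Algebra.TensorProduct.map φ (AlgHom.id k RS)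
      refine ⟨p.map g'.toRingHom, hp.map _, ?_⟩
      have hc : (coefHom k RS K L).toRingHom.comp g'.toRingHom = g.toRingHom.comp (coefHom k RS K C).toRingHom := by
        refine RingHom.ext fun z => ?_
        show coefHom k RS K L (g' z) = g (coefHom k RS K C z)
        induction z with
        | zero => simp
        | tmul a b => simp [g, g', coefHom]
        | add x y hx hy => simp only [map_add, hx, hy]
      rw [Polynomial.eval₂_map, hc]
      exact (Polynomial.hom_eval₂ p _ g.toRingHom ξ).symm.trans ((congrArg g.toRingHom hpx).trans (map_zero _))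
    obtain ⟨w, hw⟩ := mem_range_of_integral_field L (g ξ) hgint
    have hz : q.lTensor L (g ξ) = 0 := by
      rw [← hw]
      exact (lTensor_exact L hex N.mkQ_surjective).apply_apply_eq_zero w
    have hnat : ∀ z : C ⊗[k] K, q.lTensor L (g z) = φ.toLinearMap.rTensor (K ⧸ N) (q.lTensor C z) := fun z => by
      induction z with
      | zero => simp
      | tmul a y => simp [g]
      | add x y hx hy => simp only [map_add, hx, hy]
    have hcoord : ∀ z : C ⊗[k] (K ⧸ N),
        TensorProduct.equivFinsuppOfBasisRight (M := L) b (φ.toLinearMap.rTensor _ z) i = φ (e z i) := fun z => by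
      induction z with
      | zero => simp
      | tmul a y => simp [e, TensorProduct.equivFinsuppOfBasisRight_apply_tmul_apply]
      | add x y hx hy => simp only [map_add, Finsupp.add_apply, hx, hy]
    have h3 : φ (e (q.lTensor C ξ) i) = 0 := by
      rw [← hcoord, ← hnat, hz, map_zero, Finsupp.zero_apply]
    exact (Ideal.algebraMap_residueField_eq_zero (I := P)).1 h3
  obtain ⟨w, hw⟩ := ((lTensor_exact C hex N.mkQ_surjective) ξ).1 h0
  have key : ∀ v : C ⊗[k] integralClosure RS K, ∃ v' : (RS ⊗[k] C) ⊗[RS] integralClosure RS K,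
      (TensorProduct.toIntegralClosure RS (RS ⊗[k] C) K v' : (RS ⊗[k] C) ⊗[RS] K) =
        uncancelHom k RS K C (f.lTensor C v) := fun v => by
    induction v with
    | zero => exact ⟨0, by simp⟩
    | tmul c y => exact ⟨((1 : RS) ⊗ₜ c) ⊗ₜ y, by simp [f, TensorProduct.toIntegralClosure, uncancelHom_tmul]⟩
    | add x y hx hy =>
      obtain ⟨a, ha⟩ := hx
      obtain ⟨b, hb⟩ := hy
      exact ⟨a + b, by simp only [map_add, Subalgebra.coe_add, ha, hb]⟩
  obtain ⟨v', hv'⟩ := key w
  exact ⟨v', Subtype.ext (hv'.trans ((congrArg _ hw).trans (uncancel_cancel k RS K C x)))⟩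

end Groth.Agent.EtPBC0
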