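import Groth.Agent.EtPBC0.BigComm
import Groth.Agent.EtPBC0.EtalePh

/-!
# Pullback from the small etale site to finer big sites
-/

set_option autoImplicit false
set_option linter.style.haveILetI false

universe u

open CategoryTheory CategoryTheory.Limits AlgebraicGeometry Opposite

namespace Groth.Agent.EtPBC0

open BigSiteLib

set_option backward.isDefEq.respectTransparency.types false

variable (J : GrothendieckTopology Scheme.{u}) (hle : J ≤ vTop) (het : Scheme.etalePrecoverage.toGrothendieck ≤ J)
  {S : Scheme.{u}} (F : EtCoh.Ab S)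

/-- The pullback to the big etale site, as a sheaf for a finer topology. -/
noncomputable abbrev piTop : Sheaf (J.over S) AddCommGrpCat.{u + 1} :=
  ⟨((BigSite.piEtPull Scheme.etalePrecoverage S).obj F).obj, isSheaf_piPull hle F⟩

variable [(EtFppf.a S).IsContinuous S.smallEtaleTopology (J.over S)]

/-- A sheaf for the finer topology as a big etale sheaf. -/
noncomputable abbrev toEtTop (G : Sheaf (J.over S) AddCommGrpCat.{u + 1}) :
    Sheaf (QuotSh.J Scheme.etalePrecoverage S) AddCommGrpCat.{u + 1} :=
  ⟨G.obj, fun A => Presieve.isSheaf_of_le _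
    (show QuotSh.J Scheme.etalePrecoverage S ≤ J.over S from fun _ _ h => het _ h) (G.property A)⟩

/-- Pullback to the finer site. -/
noncomputable abbrev topPull : EtCoh.Ab S ⥤ Sheaf (J.over S) AddCommGrpCat.{u + 1} :=
  (EtFppf.a S).sheafPullback AddCommGrpCat.{u + 1} S.smallEtaleTopology (J.over S)

/-- Its adjunction. -/
noncomputable abbrev topAdj : topPull J (S := S) ⊣
    (EtFppf.a S).sheafPushforwardContinuous AddCommGrpCat.{u + 1} S.smallEtaleTopology (J.over S) :=
  (EtFppf.a S).sheafAdjunctionContinuous AddCommGrpCat.{u + 1} S.smallEtaleTopology (J.over S)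

/-- The canonical map into the pullback to the big etale site. -/
noncomputable def topHom : (topPull J).obj F ⟶ piTop J hle F :=
  ((topAdj J).homEquiv F (piTop J hle F)).symm
    (ObjectProperty.homMk ((BigSite.piEtAdj Scheme.etalePrecoverage S).unit.app F).hom)

/-- The canonical map out of the pullback to the big etale site. -/
noncomputable def topInv : piTop J hle F ⟶ (topPull J).obj F :=
  ObjectProperty.homMk (((BigSite.piEtAdj Scheme.etalePrecoverage S).homEquiv F (toEtTop J het ((topPull J).obj F))).symm
    (ObjectProperty.homMk ((topAdj J).unit.app F).hom)).hom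

theorem res_topHom (V : S.Etale) :
    ((topAdj J).unit.app F).hom.app (op V) ≫ (topHom J hle F).hom.app (op ((EtFppf.a S).obj V)) =
      ((BigSite.piEtAdj Scheme.etalePrecoverage S).unit.app F).hom.app (op V) := by
  have h := ((topAdj J).homEquiv F (piTop J hle F)).apply_symm_apply
    (ObjectProperty.homMk ((BigSite.piEtAdj Scheme.etalePrecoverage S).unit.app F).hom)
  rw [Adjunction.homEquiv_unit] at h
  exact congr(($h).hom.app (op V))

theorem res_topInv (V : S.Etale) :
    ((BigSite.piEtAdj Scheme.etalePrecoverage S).unit.app F).hom.app (op V) ≫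
        (topInv J hle het F).hom.app (op ((EtFppf.a S).obj V)) =
      ((topAdj J).unit.app F).hom.app (op V) := by
  have h := ((BigSite.piEtAdj Scheme.etalePrecoverage S).homEquiv F (toEtTop J het ((topPull J).obj F))).apply_symm_apply
    (ObjectProperty.homMk ((topAdj J).unit.app F).hom)
  rw [Adjunction.homEquiv_unit] at h
  exact congr(($h).hom.app (op V))

/-- The two pullbacks agree. -/
noncomputable def topIso : (topPull J).obj F ≅ piTop J hle F where
  hom := topHom J hle F
  inv := topInv J hle het F
  hom_inv_id := ((topAdj J).homEquiv F _).injective (by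
    rw [Adjunction.homEquiv_unit, Adjunction.homEquiv_unit]
    ext1; ext1; funext V
    show ((topAdj J).unit.app F).hom.app V ≫ (topHom J hle F).hom.app _ ≫ (topInv J hle het F).hom.app _ =
      ((topAdj J).unit.app F).hom.app V ≫ 𝟙 _
    exact (Category.assoc _ _ _).symm.trans ((congrArg (· ≫ _) (res_topHom J hle F V.unop)).trans
      ((res_topInv J hle het F V.unop).trans (Category.comp_id _).symm)))
  inv_hom_id := by
    have h : (ObjectProperty.homMk (topInv J hle het F ≫ topHom J hle F).hom :
        (BigSite.piEtPull Scheme.etalePrecoverage S).obj F ⟶ (BigSite.piEtPull Scheme.etalePrecoverage S).obj F) = 𝟙 _ := by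
      refine ((BigSite.piEtAdj Scheme.etalePrecoverage S).homEquiv F _).injective ?_
      rw [Adjunction.homEquiv_unit, Adjunction.homEquiv_unit]
      ext1; ext1; funext V
      show ((BigSite.piEtAdj Scheme.etalePrecoverage S).unit.app F).hom.app V ≫ (topInv J hle het F).hom.app _ ≫
          (topHom J hle F).hom.app _ =
        ((BigSite.piEtAdj Scheme.etalePrecoverage S).unit.app F).hom.app V ≫ 𝟙 _
      exact (Category.assoc _ _ _).symm.trans ((congrArg (· ≫ _) (res_topInv J hle het F V.unop)).trans
        ((res_topHom J hle F V.unop).trans (Category.comp_id _).symm))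
    ext1
    exact congr(($h).hom)

include hle het

/-- Sections of the pullback to the finer site. -/
theorem topPull_sections {T : Scheme.{u}} (f : T ⟶ S) :
    Nonempty (((topPull J).obj F).obj.obj (op (Over.mk f)) ≅
      ((EtCoh.pull f).obj F).obj.obj (op (EtCoh.top T))) :=
  ⟨((sheafToPresheaf _ _).mapIso (topIso J hle het F)).app (op (Over.mk f)) ≪≫
    ((BigSite.piEtPull Scheme.etalePrecoverage S).obj F).obj.mapIso
      (Over.isoMk (Iso.refl _) ((Category.id_comp _).trans (Category.id_comp _).symm) :
        (Over.map f).obj ((EtFppf.a T).obj (EtCoh.top T)) ≅ Over.mk f).op ≪≫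
    (((sheafToPresheaf _ _).mapIso (resAlongPiPullIso f F)).app (op (EtCoh.top T))).symm⟩

/-- Direct images along proper morphisms commute with pullback to the finer site. -/
theorem nonempty_topPull_push {X : Scheme.{u}} (f : X ⟶ S) [IsProper f]
    [(EtFppf.a X).IsContinuous X.smallEtaleTopology (J.over X)]
    [(Over.pullback f).IsContinuous (J.over S) (J.over X)] (G : EtCoh.Ab X) :
    Nonempty ((topPull J).obj ((EtCoh.push f).obj G) ≅
      ((Over.pullback f).sheafPushforwardContinuous AddCommGrpCat.{u + 1} (J.over S) (J.over X)).obj ((topPull J).obj G)) := by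
  haveI := isIso_theta_proper f G
  let P := (Over.pullback f).sheafPushforwardContinuous AddCommGrpCat.{u + 1} (J.over S) (J.over X)
  let e : piTop J hle ((EtCoh.push f).obj G) ≅ P.obj (piTop J hle G) :=
    (fullyFaithfulSheafToPresheaf _ _).preimageIso
      (show (piTop J hle ((EtCoh.push f).obj G)).obj ≅ _ from
        (sheafToPresheaf (QuotSh.J Scheme.etalePrecoverage S) _).mapIso (asIso (theta f G)))
  exact ⟨topIso J hle het _ ≪≫ e ≪≫ P.mapIso (topIso J hle het G).symm⟩

end Groth.Agent.EtPBC0
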