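import Groth.Agent.EtPBC0.Stalk
import Groth.Agent.EtPBC0.BaseChange
import Groth.Agent.EtFound.Henselian

/-!
# Direct images along quasi-compact quasi-separated morphisms, near a strict localization
-/

set_option autoImplicit false
set_option linter.style.haveILetI false

universe u

open CategoryTheory CategoryTheory.Limits AlgebraicGeometry Opposite TopologicalSpace
open Groth.Agent.BigSiteLib.DescSec Groth.Agent.EtH0Lib

namespace Groth.Agent.EtPBC0

set_option backward.isDefEq.respectTransparency false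
set_option backward.isDefEq.respectTransparency.types false

section General

variable {X S B P : Scheme.{u}} (f : X ⟶ S) {b : B ⟶ S} (kP : P ⟶ X) (pP : P ⟶ B) (w : kP ≫ f = pP ≫ b)

/-- The part over an etale scheme with a lift of the base. -/
noncomputable def fibLiftB (V : S.Etale) (σ : B ⟶ V.left) (hσ : σ ≫ V.hom = b) : P ⟶ ((EtCoh.bc f).obj V).left :=
  pullback.lift (pP ≫ σ) kP (by rw [Category.assoc, hσ]; exact w.symm)

theorem fibLiftB_hom (V : S.Etale) (σ : B ⟶ V.left) (hσ : σ ≫ V.hom = b) :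
    fibLiftB f kP pP w V σ hσ ≫ ((EtCoh.bc f).obj V).hom = kP := pullback.lift_snd _ _ _

theorem fibLiftB_fst (V : S.Etale) (σ : B ⟶ V.left) (hσ : σ ≫ V.hom = b) :
    fibLiftB f kP pP w V σ hσ ≫ pullback.fst V.hom f = pP ≫ σ := pullback.lift_fst _ _ _

/-- A section over an etale scheme, restricted to the part over the base. -/
noncomputable def phiB (F : EtDesc.Sh X) (V : S.Etale) (σ : B ⟶ V.left) (hσ : σ ≫ V.hom = b)
    (x : F.obj.obj (op ((EtCoh.bc f).obj V))) : ((EtDesc.pullSh kP).obj F).obj.obj (op (EtCoh.top P)) :=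
  atPt kP F ((EtCoh.bc f).obj V) (fibLiftB f kP pP w V σ hσ) (fibLiftB_hom f kP pP w V σ hσ) x

theorem phiB_map (F : EtDesc.Sh X) {V V' : S.Etale} (m : V' ⟶ V) (σ' : B ⟶ V'.left) (hσ' : σ' ≫ V'.hom = b)
    (σ : B ⟶ V.left) (hσ : σ ≫ V.hom = b) (e : σ' ≫ m.left = σ) (x : F.obj.obj (op ((EtCoh.bc f).obj V))) :
    phiB f kP pP w F V' σ' hσ' (F.obj.map ((EtCoh.bc f).map m).op x) = phiB f kP pP w F V σ hσ x := by
  refine atPt_map kP F ((EtCoh.bc f).map m) _ _ _ _ (pullback.hom_ext ?_ ?_) x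
  · refine (Category.assoc _ _ _).trans ((congrArg (fibLiftB f kP pP w V' σ' hσ' ≫ ·) (EtCoh.isPullback_bc_map f m).w).trans ?_)
    refine ((Category.assoc _ _ _).symm.trans (congrArg (· ≫ m.left) (pullback.lift_fst _ _ _))).trans ?_
    exact ((Category.assoc _ _ _).trans (congrArg (pP ≫ ·) e)).trans (pullback.lift_fst _ _ _).symm
  · exact ((Category.assoc _ _ _).trans (congrArg (fibLiftB f kP pP w V' σ' hσ' ≫ ·)
      (MorphismProperty.Over.w ((EtCoh.bc f).map m)))).trans
      ((pullback.lift_snd _ _ _).trans (pullback.lift_snd _ _ _).symm)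

end General

section Limit

variable {X S : Scheme.{u}} (f : X ⟶ S) {ι : Type u} [Preorder ι] [Nonempty ι] [IsDirected ι (· ≤ ·)]
  (E : ιᵒᵖ ⥤ S.Etale) (c : Cone (EtContLib.stages E)) (h : c.pt ⟶ S)
  (wh : ∀ i, EtContLib.pr (EtContLib.stages E) c i ≫ (E.obj (op i)).hom = h)
  (hA : ∀ a, IsAffine (E.obj a).left) (hc : IsLimit c)

omit [Nonempty ι] [IsDirected ι (· ≤ ·)] in
include hA in
theorem isAffineHom_stages {a b : ιᵒᵖ} (m : a ⟶ b) : IsAffineHom ((EtContLib.stages E).map m) :=
  haveI : IsAffine ((EtContLib.stages E).obj a) := hA a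
  haveI : IsAffine ((EtContLib.stages E).obj b) := hA b
  isAffineHom_of_isAffine _

include wh hA hc in
theorem exists_stage_hom (V : S.Etale) (σ : c.pt ⟶ V.left) (hσ : σ ≫ V.hom = h) :
    ∃ (j : ι) (m : E.obj (op j) ⟶ V), EtContLib.pr (EtContLib.stages E) c j ≫ m.left = σ := by
  haveI := EtContLib.isCofiltered_op (ι := ι)
  haveI : ∀ {a b : ιᵒᵖ} (m : a ⟶ b), IsAffineHom ((EtContLib.stages E).map m) := fun m => isAffineHom_stages E hA m
  haveI : ∀ a, IsAffine ((EtContLib.stages E).obj a) := hA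
  haveI : Etale V.hom := V.prop
  let t : EtContLib.stages E ⟶ (Functor.const ιᵒᵖ).obj S :=
    { app := fun a => (E.obj a).hom
      naturality := fun a b m => by
        exact (MorphismProperty.Over.w (E.map m)).trans (Category.comp_id _).symm }
  obtain ⟨i, g, hg₁, hg₂⟩ := Scheme.exists_π_app_comp_eq_of_locallyOfFinitePresentation (EtContLib.stages E) t V.hom c hc σ (by
    ext a : 2
    exact (wh a.unop).trans hσ.symm)
  exact ⟨i.unop, MorphismProperty.Over.homMk g hg₂, hg₁⟩

variable [QuasiCompact f] [QuasiSeparated f] (F : EtDesc.Sh X)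

include hA hc in
/-- Sections on the part over the limit come from a stage. -/
theorem exists_phiB (s : ((EtDesc.pullSh (pullback.fst f h)).obj F).obj.obj (op (EtCoh.top (pullback f h)))) :
    ∃ i x, phiB f (pullback.fst f h) (pullback.snd f h) pullback.condition F (E.obj (op i))
      (EtContLib.pr (EtContLib.stages E) c i) (wh i) x = s :=
  exists_stage_section (EtContLib.bcE f E) (EtContLib.bcCone f E c h wh) (pullback.fst f h)
    (EtContLib.bcCone_wh f E c h wh) (fun _ _ m => EtContLib.isAffineHom_bcE f E hA m)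
    (fun a => (EtContLib.qcqs_bcE f E hA a).1) (fun a => (EtContLib.qcqs_bcE f E hA a).2)
    (EtContLib.isLimitBcCone f E c h wh hc) s

include wh hA hc in
/-- Sections with the same restriction to the part over the limit agree on some stage. -/
theorem exists_restrict_of_phiB_eq (V : S.Etale) (σ : c.pt ⟶ V.left) (hσ : σ ≫ V.hom = h)
    (x₁ x₂ : F.obj.obj (op ((EtCoh.bc f).obj V)))
    (e : phiB f (pullback.fst f h) (pullback.snd f h) pullback.condition F V σ hσ x₁ =
      phiB f (pullback.fst f h) (pullback.snd f h) pullback.condition F V σ hσ x₂) :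
    ∃ (i : ι) (m : E.obj (op i) ⟶ V), EtContLib.pr (EtContLib.stages E) c i ≫ m.left = σ ∧
      F.obj.map ((EtCoh.bc f).map m).op x₁ = F.obj.map ((EtCoh.bc f).map m).op x₂ := by
  haveI := EtContLib.isCofiltered_op (ι := ι)
  obtain ⟨j, m₀, hm₀⟩ := exists_stage_hom E c h wh hA hc V σ hσ
  let a₁ := F.obj.map ((EtCoh.bc f).map m₀).op x₁
  let a₂ := F.obj.map ((EtCoh.bc f).map m₀).op x₂
  let σj := fibLiftB f (pullback.fst f h) (pullback.snd f h) pullback.condition (E.obj (op j))
    (EtContLib.pr (EtContLib.stages E) c j) (wh j)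
  let hj := fibLiftB_hom f (pullback.fst f h) (pullback.snd f h) pullback.condition (E.obj (op j))
    (EtContLib.pr (EtContLib.stages E) c j) (wh j)
  have e' : phiB f (pullback.fst f h) (pullback.snd f h) pullback.condition F (E.obj (op j))
      (EtContLib.pr (EtContLib.stages E) c j) (wh j) a₁ =
      phiB f (pullback.fst f h) (pullback.snd f h) pullback.condition F (E.obj (op j))
      (EtContLib.pr (EtContLib.stages E) c j) (wh j) a₂ := by
    rw [phiB_map f _ _ _ F m₀ _ _ σ hσ hm₀, phiB_map f _ _ _ F m₀ _ _ σ hσ hm₀, e]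
  let O : ((EtCoh.bc f).obj (E.obj (op j))).left.Opens := ⟨{q | LocEq F.obj a₁ a₂ q}, isOpen_locEq a₁ a₂⟩
  have hO : ∀ p, σj p ∈ O := fun p => by
    have h₁ := LocEq.of_map (secHom (pullback.fst f h) ((EtCoh.bc f).obj (E.obj (op j))) σj hj)
      (show LocEq ((EtDesc.pullSh (pullback.fst f h)).obj F).obj
        (phiB f (pullback.fst f h) (pullback.snd f h) pullback.condition F (E.obj (op j)) (EtContLib.pr (EtContLib.stages E) c j) (wh j) a₁)
        (phiB f (pullback.fst f h) (pullback.snd f h) pullback.condition F (E.obj (op j)) (EtContLib.pr (EtContLib.stages E) c j) (wh j) a₂)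
        (show (EtCoh.top _).left from p) from e' ▸ LocEq.refl _ _)
    have h₂ := locEq_of_up (pullback.fst f h) F h₁
    rwa [pr_secHom] at h₂
  haveI : ∀ {a b : ιᵒᵖ} (m : a ⟶ b), IsAffineHom ((EtContLib.stages (EtContLib.bcE f E)).map m) :=
    fun m => EtContLib.isAffineHom_bcE f E hA m
  haveI : ∀ a, CompactSpace ((EtContLib.stages (EtContLib.bcE f E)).obj a) := fun a => (EtContLib.qcqs_bcE f E hA a).1
  obtain ⟨a, k, hk⟩ := exists_map_eq_top (EtContLib.stages (EtContLib.bcE f E)) _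
    (EtContLib.isLimitBcCone f E c h wh hc) (i := op j) O (top_le_iff.1 fun p _ => hO p)
  refine ⟨a.unop, E.map k ≫ m₀, ?_, eq_of_locEq F fun q => ?_⟩
  · show EtContLib.pr (EtContLib.stages E) c a.unop ≫ (E.map k).left ≫ m₀.left = σ
    rw [← Category.assoc]
    exact (congrArg (· ≫ m₀.left) (c.w k)).trans hm₀
  · have hq : LocEq F.obj a₁ a₂ (((EtCoh.bc f).map (E.map k)).left q) := hk.ge (Set.mem_univ q)
    have hq' := hq.map ((EtCoh.bc f).map (E.map k))
    rw [mapF, mapF, ← Functor.map_comp] at hq'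
    exact hq'

end Limit

section Henselian

variable (R : Type u) [CommRing R] [HenselianLocalRing R]
  {S : Scheme.{u}} (hR : Spec (CommRingCat.of R) ⟶ S)

/-- A point of an etale scheme over a strictly local point extends uniquely. -/
theorem existsUnique_lift (V : S.Etale) (v : Spec (CommRingCat.of (IsLocalRing.ResidueField R)) ⟶ V.left)
    (hv : v ≫ V.hom = EtFound.cpt R ≫ hR) :
    ∃! σ : Spec (CommRingCat.of R) ⟶ V.left, σ ≫ V.hom = hR ∧ EtFound.cpt R ≫ σ = v := by
  haveI : Etale V.hom := V.prop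
  obtain ⟨τ, ⟨h₁, h₂⟩, huniq⟩ := EtFound.existsUnique_section R (pullback.snd V.hom hR)
    (pullback.lift v (EtFound.cpt R) hv) (pullback.lift_snd _ _ _)
  refine ⟨τ ≫ pullback.fst V.hom hR, ⟨?_, ?_⟩, fun σ ⟨hσ₁, hσ₂⟩ => ?_⟩
  · rw [Category.assoc, pullback.condition, ← Category.assoc, h₁, Category.id_comp]
  · rw [← Category.assoc, h₂, pullback.lift_fst]
  · have e := huniq (pullback.lift σ (𝟙 _) (by rw [hσ₁, Category.id_comp])) ⟨pullback.lift_snd _ _ _, by
      refine pullback.hom_ext ?_ ?_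
      · rw [Category.assoc, pullback.lift_fst, pullback.lift_fst, hσ₂]
      · rw [Category.assoc, pullback.lift_snd, pullback.lift_snd, Category.comp_id]⟩
    rw [← e, pullback.lift_fst]

theorem eq_of_cpt_comp (V : S.Etale) (σ₁ σ₂ : Spec (CommRingCat.of R) ⟶ V.left) (h₁ : σ₁ ≫ V.hom = hR)
    (h₂ : σ₂ ≫ V.hom = hR) (e : EtFound.cpt R ≫ σ₁ = EtFound.cpt R ≫ σ₂) : σ₁ = σ₂ :=
  (existsUnique_lift R hR V (EtFound.cpt R ≫ σ₁) (by rw [Category.assoc, h₁])).unique ⟨h₁, rfl⟩ ⟨h₂, e.symm⟩

end Henselian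

end Groth.Agent.EtPBC0
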