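import Groth.Agent.EtPBC0.StrictConn
import Groth.Prelude.Def_EtAcyc

/-!
# 0-acyclic morphisms from connected geometric fibres
-/

set_option autoImplicit false
set_option linter.style.haveILetI false

universe u

open CategoryTheory CategoryTheory.Limits AlgebraicGeometry Opposite TopologicalSpace
open Groth.Agent.BigSiteLib.DescSec Groth.Agent.EtH0Lib

namespace Groth.Agent.EtPBC0

set_option backward.isDefEq.respectTransparency false
set_option backward.isDefEq.respectTransparency.types false

section Self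

variable {X : Scheme.{u}} (F : EtDesc.Sh X)

theorem locEq_of_atPt {S : Scheme.{u}} (k : S ⟶ X) (U : X.Etale) (σ : S ⟶ U.left) (w : σ ≫ U.hom = k)
    {a b : F.obj.obj (op U)} {p : S}
    (h : LocEq ((EtDesc.pullSh k).obj F).obj (atPt k F U σ w a) (atPt k F U σ w b)
      (show (EtCoh.top S).left from p)) : LocEq F.obj a b (σ p) := by
  have h₁ := LocEq.of_map (secHom k U σ w) h
  have h₂ := locEq_of_up k F h₁
  rwa [pr_secHom] at h₂

theorem injective_atPt_self (W : X.Etale) :
    Function.Injective (atPt W.hom F W (𝟙 _) (Category.id_comp _)) := fun a b h =>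
  eq_of_locEq F fun w =>
    locEq_of_atPt F W.hom W (𝟙 _) (Category.id_comp _) (p := w) (h ▸ LocEq.refl _ _)

theorem atPt_self_key (W E V : X.Etale) (s : ((EtDesc.pullSh W.hom).obj F).obj.obj (op (EtCoh.top W.left)))
    (π : E ⟶ W) (r : E ⟶ V) (ι : E.left ⟶ ((EtCoh.bc W.hom).obj V).left)
    (hπ : ι ≫ ((EtCoh.bc W.hom).obj V).hom = π.left) (hr : ι ≫ pullback.fst V.hom W.hom = r.left)
    (a : F.obj.obj (op V)) (m : (EtCoh.bc W.hom).obj V ⟶ EtCoh.top W.left)
    (hm : ∀ p, LocEq ((EtDesc.pullSh W.hom).obj F).obj (up W.hom F V a)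
      (((EtDesc.pullSh W.hom).obj F).obj.map m.op s) (ι p)) :
    atPt E.hom F E (𝟙 _) (Category.id_comp _) (F.obj.map r.op a) =
      tau π.left W.hom E.hom (MorphismProperty.Over.w π) s := by
  refine (atPt_map E.hom F r (𝟙 _) (Category.id_comp _) r.left (MorphismProperty.Over.w r) (Category.id_comp _) a).trans ?_
  let m' : EtCoh.top E.left ⟶ (EtCoh.bc π.left).obj ((EtCoh.bc W.hom).obj V) :=
    secHom π.left ((EtCoh.bc W.hom).obj V) ι hπ
  refine (pullVia_map_up π.left W.hom E.hom (MorphismProperty.Over.w π) F V a m' r.left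
    (MorphismProperty.Over.w r) ?_).symm.trans ?_
  · exact (Category.assoc _ _ _).symm.trans
      ((congrArg (· ≫ pullback.fst V.hom W.hom) (secHom_fst π.left _ ι hπ)).trans hr)
  show _ = (EtDesc.pullVia π.left W.hom E.hom _ F).hom.hom.app _ (EtDesc.secPull π.left ((EtDesc.pullSh W.hom).obj F) s)
  refine congrArg _ ((eq_of_locEq _ fun p => (locEq_up π.left ((EtDesc.pullSh W.hom).obj F)
    (a := up W.hom F V a) (b := ((EtDesc.pullSh W.hom).obj F).obj.map m.op s) ?_).map m').trans ?_)
  · show LocEq _ _ _ (pr π.left ((EtCoh.bc W.hom).obj V) (m'.left p))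
    rw [pr_secHom]
    exact hm p
  · rw [up_map, mapF]
    have : m' ≫ (EtCoh.bc π.left).map m = (EtCore.bcTopIso π.left).inv :=
      (cancel_mono (EtCore.bcTopIso π.left).hom).1 ((EtCore.topIsTerminal _).hom_ext _ _)
    rw [this]
    rfl

theorem atPt_self_map (W E Y : X.Etale) (s : ((EtDesc.pullSh W.hom).obj F).obj.obj (op (EtCoh.top W.left)))
    (π : E ⟶ W) (t : Y ⟶ E) (π' : Y ⟶ W) (hπ : t.left ≫ π.left = π'.left) (c : F.obj.obj (op E))
    (hc : atPt E.hom F E (𝟙 _) (Category.id_comp _) c = tau π.left W.hom E.hom (MorphismProperty.Over.w π) s) :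
    atPt Y.hom F Y (𝟙 _) (Category.id_comp _) (F.obj.map t.op c) =
      tau π'.left W.hom Y.hom (MorphismProperty.Over.w π') s :=
  have w₂ : (t.left ≫ π.left) ≫ W.hom = Y.hom := by
    rw [Category.assoc, MorphismProperty.Over.w π]; exact MorphismProperty.Over.w t
  ((atPt_map Y.hom F t (𝟙 _) (Category.id_comp _) t.left (MorphismProperty.Over.w t) (Category.id_comp _) c).trans
    (tau_atPt t.left E.hom Y.hom (MorphismProperty.Over.w t) F E (𝟙 _) (Category.id_comp _)
      t.left (MorphismProperty.Over.w t) (Category.comp_id _) c).symm).trans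
    ((congrArg (tau t.left E.hom Y.hom (MorphismProperty.Over.w t)) hc).trans
      ((tau_tau t.left π.left W.hom E.hom (MorphismProperty.Over.w π) Y.hom (MorphismProperty.Over.w t) w₂ s).trans
        (tau_congr hπ W.hom Y.hom w₂ (MorphismProperty.Over.w π') s)))

theorem eq_of_atPt_cover (W : X.Etale) (s : ((EtDesc.pullSh W.hom).obj F).obj.obj (op (EtCoh.top W.left)))
    (x : F.obj.obj (op W))
    (h : ∀ w : W.left, ∃ (E : X.Etale) (π : E ⟶ W) (c : F.obj.obj (op E)) (e : E.left), π.left e = w ∧
      F.obj.map π.op x = c ∧ atPt E.hom F E (𝟙 _) (Category.id_comp _) c = tau π.left W.hom E.hom (MorphismProperty.Over.w π) s) :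
    atPt W.hom F W (𝟙 _) (Category.id_comp _) x = s := by
  refine eq_of_locEq _ fun w => ?_
  obtain ⟨E, π, c, e, he, hx, hc⟩ := h w
  subst hx
  exact locEq_of_tau_eq' π.left W.hom E.hom (MorphismProperty.Over.w π)
    (((tau_atPt π.left W.hom E.hom (MorphismProperty.Over.w π) F W (𝟙 _)
      (Category.id_comp _) π.left (MorphismProperty.Over.w π) (Category.comp_id _) x).trans
      (atPt_map E.hom F π (𝟙 _) (Category.id_comp _) π.left (MorphismProperty.Over.w π)
        (Category.id_comp _) x).symm).trans hc) e w he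

/-- Sections over an etale scheme are the sections of the restricted sheaf. -/
theorem bijective_atPt_self (W : X.Etale) :
    Function.Bijective (atPt W.hom F W (𝟙 _) (Category.id_comp _)) := by
  refine ⟨injective_atPt_self F W, fun s => ?_⟩
  let k := W.hom
  let G := (EtDesc.pullSh k).obj F
  choose V a z m hz hm using fun w : W.left => exists_locEq_up k F s w
  let O : ∀ w, ((EtCoh.bc k).obj (V w)).left.Opens := fun w =>
    ⟨{z' | LocEq G.obj (up k F (V w) (a w)) (G.obj.map (m w).op s) z'}, isOpen_locEq _ _⟩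
  let W' : W.left → X.Etale := fun w =>
    MorphismProperty.Over.mk ⊤ (((O w).ι ≫ ((EtCoh.bc k).obj (V w)).hom) ≫ W.hom) (by
      haveI : Etale W.hom := W.prop
      haveI : Etale ((EtCoh.bc k).obj (V w)).hom := ((EtCoh.bc k).obj (V w)).prop
      exact inferInstanceAs (Etale (((O w).ι ≫ ((EtCoh.bc k).obj (V w)).hom) ≫ W.hom)))
  let π : ∀ w, W' w ⟶ W := fun w =>
    MorphismProperty.Over.homMk ((O w).ι ≫ ((EtCoh.bc k).obj (V w)).hom) rfl
  let r : ∀ w, W' w ⟶ V w := fun w =>
    MorphismProperty.Over.homMk ((O w).ι ≫ pullback.fst (V w).hom k) (by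
      refine (Category.assoc _ _ _).trans ?_
      refine (congrArg ((O w).ι ≫ ·) pullback.condition).trans ?_
      exact (Category.assoc _ _ _).symm)
  let c : ∀ w, F.obj.obj (op (W' w)) := fun w => F.obj.map (r w).op (a w)
  have key : ∀ w, atPt (W' w).hom F (W' w) (𝟙 _) (Category.id_comp _) (c w) =
      tau (π w).left k (W' w).hom (MorphismProperty.Over.w (π w)) s := fun w =>
    atPt_self_key F W (W' w) (V w) s (π w) (r w) (O w).ι rfl rfl (a w) (m w) fun p => (show (O w : Scheme) from p).2
  have hcomp : ∀ i j (Y : X.Etale) (p : Y ⟶ W' i) (q : Y ⟶ W' j), p ≫ π i = q ≫ π j →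
      F.obj.map p.op (c i) = F.obj.map q.op (c j) := fun i j Y p q e => injective_atPt_self F Y
    ((atPt_self_map F W (W' i) Y s (π i) p (p ≫ π i) rfl (c i) (key i)).trans
      (atPt_self_map F W (W' j) Y s (π j) q (p ≫ π i) (congrArg (fun n : Y ⟶ W => n.left) e.symm) (c j) (key j)).symm)
  have hcov : Sieve.generate (Presieve.ofArrows W' π) ∈ X.smallEtaleTopology W := by
    rw [EtFound.mem_topology_iff]
    intro u
    exact ⟨W' u, π u, ⟨z u, hm u⟩, ⟨W' u, 𝟙 _, π u, ⟨u⟩, Category.id_comp _⟩,
      (Scheme.Hom.comp_apply _ _ _).trans (hz u)⟩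
  obtain ⟨x, hx, -⟩ := (Presieve.isSheafFor_arrows_iff _ _).1 ((Presieve.isSheafFor_iff_generate _).2
    (((isSheaf_iff_isSheaf_of_type _ _).1 F.property) _ hcov)) c hcomp
  exact ⟨x, eq_of_atPt_cover F W s x fun w => ⟨W' w, π w, c w, ⟨z w, hm w⟩,
    (Scheme.Hom.comp_apply _ _ _).trans (hz w), hx w, key w⟩⟩

end Self

variable {P V : Scheme.{u}} (p : P ⟶ V) (F : EtDesc.Sh V)

theorem pullVia_atPt_up (W : V.Etale) (a : F.obj.obj (op W)) :
    (EtDesc.pullVia ((EtCoh.bc p).obj W).hom p (((EtCoh.bc p).obj W).hom ≫ p) rfl F).hom.hom.app (op (EtCoh.top _))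
      (atPt ((EtCoh.bc p).obj W).hom ((EtDesc.pullSh p).obj F) ((EtCoh.bc p).obj W) (𝟙 _) (Category.id_comp _) (up p F W a)) =
    tau (pr p W) W.hom (((EtCoh.bc p).obj W).hom ≫ p) pullback.condition
      (atPt W.hom F W (𝟙 _) (Category.id_comp _) a) := by
  refine Eq.trans ?_ (tau_atPt (pr p W) W.hom (((EtCoh.bc p).obj W).hom ≫ p) pullback.condition F W (𝟙 _)
    (Category.id_comp _) (pr p W) pullback.condition (Category.comp_id _) a).symm
  refine pullVia_map_up ((EtCoh.bc p).obj W).hom p _ rfl F W a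
    (secHom ((EtCoh.bc p).obj W).hom ((EtCoh.bc p).obj W) (𝟙 _) (Category.id_comp _)) (pr p W) pullback.condition ?_
  exact (Category.assoc _ _ _).symm.trans
    ((congrArg (· ≫ pullback.fst W.hom p) (secHom_fst _ _ (𝟙 _) (Category.id_comp _))).trans (Category.id_comp _))

theorem bijective_of_square {A B B' C D : Type (u + 1)} (x : A → B) (Φ₁ : B → B') (Φ₂ : B' → C) (a : A → D) (t : D → C)
    (h₁ : Function.Bijective Φ₁) (h₂ : Function.Bijective Φ₂) (ha : Function.Bijective a) (ht : Function.Bijective t)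
    (e : ∀ y, Φ₂ (Φ₁ (x y)) = t (a y)) : Function.Bijective x :=
  (Function.Bijective.of_comp_iff' (h₂.comp h₁) x).1 (by
    rw [show (Φ₂ ∘ Φ₁) ∘ x = t ∘ a from funext e]; exact ht.comp ha)

theorem bijective_tau {A B C : Scheme.{u}} (j : C ⟶ B) (q : B ⟶ A) (r : C ⟶ A) (w : j ≫ q = r) (G : EtDesc.Sh A)
    (h : Function.Bijective (EtDesc.secPull j ((EtDesc.pullSh q).obj G))) :
    Function.Bijective (tau j q r w (F := G)) := (bijective_pullVia j q r w G).comp h

/-- The unit at an etale scheme is pullback of sections along the projection of the base change. -/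
theorem bijective_up_of_secPull (W : V.Etale)
    (h : ∀ G : EtDesc.Sh W.left, Function.Bijective (EtDesc.secPull (pr p W) G)) :
    Function.Bijective (up p F W) :=
  bijective_of_square (up p F W)
    (atPt ((EtCoh.bc p).obj W).hom ((EtDesc.pullSh p).obj F) ((EtCoh.bc p).obj W) (𝟙 _) (Category.id_comp _))
    ((EtDesc.pullVia ((EtCoh.bc p).obj W).hom p (((EtCoh.bc p).obj W).hom ≫ p) rfl F).hom.hom.app (op (EtCoh.top _)))
    (atPt W.hom F W (𝟙 _) (Category.id_comp _))
    (tau (pr p W) W.hom (((EtCoh.bc p).obj W).hom ≫ p) pullback.condition)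
    (bijective_atPt_self ((EtDesc.pullSh p).obj F) ((EtCoh.bc p).obj W))
    (bijective_pullVia ((EtCoh.bc p).obj W).hom p (((EtCoh.bc p).obj W).hom ≫ p) rfl F)
    (bijective_atPt_self F W)
    (bijective_tau (pr p W) W.hom (((EtCoh.bc p).obj W).hom ≫ p) pullback.condition F (h _))
    (pullVia_atPt_up p F W)

theorem isIso_unit_of_secPull (h : ∀ (W : V.Etale) (G : EtDesc.Sh W.left), Function.Bijective (EtDesc.secPull (pr p W) G)) :
    IsIso ((EtDesc.adjSh p).unit.app F) := by
  haveI : ∀ U, IsIso (((EtDesc.adjSh p).unit.app F).hom.app U) := fun U =>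
    (isIso_iff_bijective _).2 (bijective_up_of_secPull p F U.unop (h U.unop))
  haveI : IsIso ((sheafToPresheaf _ _).map ((EtDesc.adjSh p).unit.app F)) :=
    show IsIso ((EtDesc.adjSh p).unit.app F).hom from NatIso.isIso_of_isIso_app _
  exact isIso_of_fully_faithful (sheafToPresheaf _ _) _

theorem geometricallyConnected_of_algClosed {A B : Scheme.{u}} (f : A ⟶ B)
    (h : ∀ (L : Type u) [Field L] [IsAlgClosed L] (s : Spec (CommRingCat.of L) ⟶ B), ConnectedSpace ↥(pullback f s)) :
    GeometricallyConnected f := by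
  refine ⟨fun K _ y Z fst snd hsq => ?_⟩
  let j := Spec.map (CommRingCat.ofHom (algebraMap K (AlgebraicClosure K)))
  haveI : Surjective j := ⟨fun x => ⟨IsLocalRing.closedPoint (AlgebraicClosure K), Subsingleton.elim (α := PrimeSpectrum K) _ _⟩⟩
  have h₂ := (IsPullback.of_hasPullback snd j).flip.paste_vert hsq.flip
  haveI := h (AlgebraicClosure K) (j ≫ y)
  haveI : ConnectedSpace ↥(pullback snd j) := h₂.flip.isoPullback.hom.homeomorph.connectedSpace_iff.2 inferInstance
  haveI : Surjective (pullback.fst snd j) := MorphismProperty.pullback_fst (P := @Surjective) snd j inferInstance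
  exact (pullback.fst snd j).surjective.connectedSpace (pullback.fst snd j).continuous

/-- Flat quasi-compact surjections with connected geometric fibres are 0-acyclic. -/
theorem isZeroAcyclic_of_geometricallyConnected {X Y : Scheme.{u}} (h : X ⟶ Y) [Flat h] [QuasiCompact h]
    [GeometricallyConnected h] : EtAcyc.IsZeroAcyclic h := fun U F =>
  isIso_unit_of_secPull _ F fun W G => by
    haveI : Flat (EtAcyc.prj h U) := MorphismProperty.pullback_fst (P := @Flat) U.hom h inferInstance
    haveI : QuasiCompact (EtAcyc.prj h U) := MorphismProperty.pullback_fst (P := @QuasiCompact) U.hom h inferInstance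
    haveI : GeometricallyConnected (EtAcyc.prj h U) :=
      MorphismProperty.pullback_fst (P := @GeometricallyConnected) U.hom h inferInstance
    haveI : Flat (pr (EtAcyc.prj h U) W) := MorphismProperty.pullback_fst (P := @Flat) W.hom _ inferInstance
    haveI : QuasiCompact (pr (EtAcyc.prj h U) W) := MorphismProperty.pullback_fst (P := @QuasiCompact) W.hom _ inferInstance
    haveI : GeometricallyConnected (pr (EtAcyc.prj h U) W) :=
      MorphismProperty.pullback_fst (P := @GeometricallyConnected) W.hom _ inferInstance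
    exact bijective_secPull_of_connected_fibres _ (isUnivSubmersive_of_flat _)
      (fun L _ _ s => GeometricallyConnected.geometrically_connectedSpace _ _ _ (.of_hasPullback _ s)) G

end Groth.Agent.EtPBC0
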