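import Groth.Agent.EtPBC0.FieldBase
import Groth.Agent.EtPBC0.ZeroAcyc

/-!
# Strict localizations over a zero dimensional base
-/

set_option autoImplicit false
set_option linter.style.haveILetI false

universe u

open CategoryTheory CategoryTheory.Limits AlgebraicGeometry Opposite IsLocalRing
open Groth.Agent.BigSiteLib.DescSec
open scoped TensorProduct

namespace Groth.Agent.EtPBC0

set_option backward.isDefEq.respectTransparency false
set_option backward.isDefEq.respectTransparency.types false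

/-- Universal submersiveness of `π` from a commutative square over a surjective integral morphism. -/
theorem isUnivSubmersive_of_square {P P₀ P' Q : Scheme.{u}} (π : P ⟶ P₀) (b : Q ⟶ P₀) (π' : P' ⟶ Q) (a : P' ⟶ P)
    (w : a ≫ π = π' ≫ b) [IsIntegralHom b] [Surjective b] [Flat π'] [Surjective π'] [QuasiCompact π'] :
    EtDesc.IsUnivSubmersive π := fun Y g => by
  let M : pullback π' (pullback.fst b g) ⟶ pullback π g :=
    pullback.lift (pullback.fst π' (pullback.fst b g) ≫ a) (pullback.snd π' (pullback.fst b g) ≫ pullback.snd b g) (by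
      rw [Category.assoc, w, ← Category.assoc, pullback.condition, Category.assoc, Category.assoc, pullback.condition])
  have hM : M ≫ pullback.snd π g = pullback.snd π' (pullback.fst b g) ≫ pullback.snd b g := pullback.lift_snd _ _ _
  haveI : IsIntegralHom (pullback.snd b g) := MorphismProperty.pullback_snd (P := @IsIntegralHom) b g inferInstance
  haveI : Surjective (pullback.snd b g) := MorphismProperty.pullback_snd (P := @Surjective) b g inferInstance
  have h₁ := (pullback.snd b g).isClosedMap.isQuotientMap (pullback.snd b g).continuous (pullback.snd b g).surjective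
  have h₂ := (isUnivSubmersive_of_flat π' _ (pullback.fst b g)).2
  have h : Topology.IsQuotientMap (⇑(pullback.snd π g) ∘ ⇑M) := by
    have : ⇑(pullback.snd π g) ∘ ⇑M = ⇑(pullback.snd b g) ∘ ⇑(pullback.snd π' (pullback.fst b g)) :=
      funext fun z => ((Scheme.Hom.comp_apply _ _ z).symm.trans
        (congrArg (fun q : pullback π' (pullback.fst b g) ⟶ Y => q z) hM)).trans (Scheme.Hom.comp_apply _ _ z)
    rw [this]
    exact h₁.comp h₂
  have h' := h.of_comp M.continuous (pullback.snd π g).continuous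
  exact ⟨h'.surjective, h'⟩

theorem isUnivSubmersive_fst {X Y V : Scheme.{u}} (a : V ⟶ Y) (h : X ⟶ Y) (hs : EtDesc.IsUnivSubmersive h) :
    EtDesc.IsUnivSubmersive (pullback.fst a h) := fun Z g => by
  have hP := (IsPullback.of_hasPullback (pullback.fst a h) g).paste_horiz (IsPullback.of_hasPullback a h).flip
  obtain ⟨h₁, h₂⟩ := hs Z (g ≫ a)
  have e : hP.isoPullback.hom ≫ pullback.snd h (g ≫ a) = pullback.snd (pullback.fst a h) g := hP.isoPullback_hom_snd
  have e' : ⇑(pullback.snd (pullback.fst a h) g) = ⇑(pullback.snd h (g ≫ a)) ∘ ⇑hP.isoPullback.hom :=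
    funext fun z => (congrArg (fun q : pullback (pullback.fst a h) g ⟶ Z => q z) e.symm).trans (Scheme.Hom.comp_apply _ _ z)
  rw [show (pullback.snd (pullback.fst a h) g).base = ⇑(pullback.snd (pullback.fst a h) g) from rfl] at *
  rw [e']
  exact ⟨h₁.comp hP.isoPullback.hom.homeomorph.surjective, h₂.comp hP.isoPullback.hom.homeomorph.isQuotientMap⟩

/-- Universally submersive morphisms with connected geometric fibres are 0-acyclic. -/
theorem isZeroAcyclic_of_univSubmersive {X Y : Scheme.{u}} (h : X ⟶ Y) (hs : EtDesc.IsUnivSubmersive h)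
    [GeometricallyConnected h] : EtAcyc.IsZeroAcyclic h := fun U F =>
  isIso_unit_of_secPull _ F fun W G => by
    haveI : GeometricallyConnected (EtAcyc.prj h U) :=
      MorphismProperty.pullback_fst (P := @GeometricallyConnected) U.hom h inferInstance
    haveI : GeometricallyConnected (pr (EtAcyc.prj h U) W) :=
      MorphismProperty.pullback_fst (P := @GeometricallyConnected) W.hom _ inferInstance
    exact bijective_secPull_of_connected_fibres _ (isUnivSubmersive_fst W.hom _ (isUnivSubmersive_fst U.hom h hs))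
      (fun L _ _ s => GeometricallyConnected.geometrically_connectedSpace _ _ _ (.of_hasPullback _ s)) G

theorem idem_of_connectedSpace {T : Type u} [CommRing T] [ConnectedSpace (PrimeSpectrum T)] (e : T)
    (he : IsIdempotentElem e) : e = 0 ∨ e = 1 := by
  rcases isClopen_iff.1 (PrimeSpectrum.isClopen_iff.2 ⟨e, he, rfl⟩ : IsClopen (PrimeSpectrum.basicOpen e : Set (PrimeSpectrum T))) with h | h
  · left
    exact he.eq_zero_of_isNilpotent ((PrimeSpectrum.basicOpen_eq_bot_iff e).1 (SetLike.coe_injective h))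
  · right
    refine (IsIdempotentElem.iff_eq_one_of_isUnit ?_).1 he
    by_contra hu
    obtain ⟨M, hM, hle⟩ := Ideal.exists_le_maximal (Ideal.span {e}) (by rwa [ne_eq, Ideal.span_singleton_eq_top])
    exact (h.symm ▸ Set.mem_univ (⟨M, hM.isPrime⟩ : PrimeSpectrum T) : (⟨M, hM.isPrime⟩ : PrimeSpectrum T) ∈
      (PrimeSpectrum.basicOpen e : Set (PrimeSpectrum T))) (hle (Ideal.mem_span_singleton_self e))

/-- A retraction of the reduced model gives connectedness. -/
theorem connectedSpace_of_retract {RS RX RS' RX' K : Type u} [CommRing RS] [CommRing RX] [Algebra RS RX]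
    [CommRing RS'] [Algebra RS RS'] [CommRing RX'] [Algebra RS' RX'] [Field K] [Algebra RS K] [Algebra RS' K]
    [IsScalarTower RS RS' K] (iX : RX →+* RX')
    (hiX : ∀ r, iX (algebraMap RS RX r) = algebraMap RS' RX' (algebraMap RS RS' r))
    (t : RX' →+* RX ⊗[RS] K) (ht : ∀ x, t (iX x) = x ⊗ₜ[RS] (1 : K))
    (ht' : ∀ w, t (algebraMap RS' RX' w) = (1 : RX) ⊗ₜ[RS] algebraMap RS' K w)
    (hc : ConnectedSpace (PrimeSpectrum (RX' ⊗[RS'] K))) : ConnectedSpace (PrimeSpectrum (RX ⊗[RS] K)) := by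
  letI : Algebra RS (RX' ⊗[RS'] K) := ((algebraMap RS' (RX' ⊗[RS'] K)).comp (algebraMap RS RS')).toAlgebra
  let Λ : RX ⊗[RS] K →ₐ[RS] RX' ⊗[RS'] K := Algebra.TensorProduct.lift
    { ((Algebra.TensorProduct.includeLeft : RX' →ₐ[RS'] RX' ⊗[RS'] K).toRingHom.comp iX) with
      commutes' := fun r => (congrArg _ (hiX r)).trans
        ((Algebra.TensorProduct.includeLeft : RX' →ₐ[RS'] RX' ⊗[RS'] K).commutes (algebraMap RS RS' r)) }
    { (Algebra.TensorProduct.includeRight : K →ₐ[RS'] RX' ⊗[RS'] K).toRingHom with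
      commutes' := fun r => (congrArg _ (IsScalarTower.algebraMap_apply RS RS' K r)).trans
        ((Algebra.TensorProduct.includeRight : K →ₐ[RS'] RX' ⊗[RS'] K).commutes (algebraMap RS RS' r)) }
    fun _ _ => Commute.all _ _
  let qK : K →+* RX ⊗[RS] K := (Algebra.TensorProduct.includeRight : K →ₐ[RS] RX ⊗[RS] K).toRingHom
  letI : Algebra RS' (RX ⊗[RS] K) := (qK.comp (algebraMap RS' K)).toAlgebra
  let Θ : RX' ⊗[RS'] K →ₐ[RS'] RX ⊗[RS] K := Algebra.TensorProduct.lift
    { t with commutes' := ht' } { qK with commutes' := fun _ => rfl } fun _ _ => Commute.all _ _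
  have hΘ : ∀ z, Θ (Λ z) = z := fun z => by
    induction z with
    | zero => simp
    | add x y hx hy => simp only [map_add, hx, hy]
    | tmul x y =>
      rw [Algebra.TensorProduct.lift_tmul, map_mul]
      show Θ (iX x ⊗ₜ[RS'] (1 : K)) * Θ ((1 : RX') ⊗ₜ[RS'] y) = _
      rw [Algebra.TensorProduct.lift_tmul, Algebra.TensorProduct.lift_tmul, map_one, map_one, mul_one, one_mul]
      show t (iX x) * (1 : RX) ⊗ₜ[RS] y = _
      rw [ht]
      simp
  haveI := hc
  haveI : Nontrivial (RX' ⊗[RS'] K) := PrimeSpectrum.nontrivial (Nonempty.some inferInstance)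
  haveI : Nontrivial (RX ⊗[RS] K) := Λ.toRingHom.domain_nontrivial
  refine connectedSpace_of_idem _ fun e he => ?_
  rcases idem_of_connectedSpace (Λ e) (he.map Λ) with h | h
  · exact Or.inl ((hΘ e).symm.trans (by rw [h, map_zero]))
  · exact Or.inr ((hΘ e).symm.trans (by rw [h, map_one]))

/-- 0-acyclicity of `Spec RX → Spec RS` from a model on a nil quotient. -/
theorem isZeroAcyclic_of_quotientModel {RS RX D RS' D' : Type u} [CommRing RS] [IsLocalRing RS] [CommRing RX]
    [IsLocalRing RX] [Algebra RS RX] [IsLocalHom (algebraMap RS RX)] [CommRing D] [Algebra RS D] [Algebra D RX]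
    [IsScalarTower RS D RX] [Algebra.WeaklyEtale D RX] [CommRing RS'] [Algebra RS RS']
    [CommRing D'] [Algebra RS' D'] [Algebra D D'] [Module.Flat RS' D']
    (hcomp : (algebraMap RS' D').comp (algebraMap RS RS') = (algebraMap D D').comp (algebraMap RS D))
    (hsurj : Function.Surjective (algebraMap RS RS')) (hker : ∀ r, algebraMap RS RS' r = 0 → IsNilpotent r)
    (hD : Function.Surjective (algebraMap D D'))
    (hlift : ∀ (Z : Type u) [CommRing Z] (f : D →+* Z), (∀ r, algebraMap RS RS' r = 0 → f (algebraMap RS D r) = 0) →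
      ∃ g : D' →+* Z, ∀ d, g (algebraMap D D' d) = f d)
    (hfield : ∀ (RX' : Type u) [CommRing RX'] [IsLocalRing RX'] [Algebra RS' RX'] [IsLocalHom (algebraMap RS' RX')]
      [Algebra D' RX'] [IsScalarTower RS' D' RX'] [Algebra.WeaklyEtale D' RX'] (K : Type u) [Field K] [IsAlgClosed K]
      [Algebra RS' K], ConnectedSpace (PrimeSpectrum (RX' ⊗[RS'] K))) :
    EtAcyc.IsZeroAcyclic (Spec.map (CommRingCat.ofHom (algebraMap RS RX))) := by
  haveI : SMulCommClass D RS' D' := ⟨fun d r x => by simp only [Algebra.smul_def]; ring⟩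
  obtain ⟨rD, hrD⟩ := hlift (ResidueField RX) ((residue RX).comp (algebraMap D RX)) fun r hr => by
    rw [RingHom.comp_apply, ← IsScalarTower.algebraMap_apply RS D RX]
    exact IsNilpotent.eq_zero (((hker r hr).map (algebraMap RS RX)).map (residue RX))
  let rX : D' ⊗[D] RX →ₐ[D] ResidueField RX := Algebra.TensorProduct.lift
    { rD with commutes' := hrD } { residue RX with commutes' := fun _ => rfl } fun _ _ => Commute.all _ _
  haveI : Nontrivial (D' ⊗[D] RX) := rX.toRingHom.domain_nontrivial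
  have hXsurj : Function.Surjective (Algebra.TensorProduct.includeRight : RX →ₐ[D] D' ⊗[D] RX) :=
    Algebra.TensorProduct.includeRight_surjective (R := D) (S := D') (T := RX) hD
  let iX : RX →+* D' ⊗[D] RX := (Algebra.TensorProduct.includeRight : RX →ₐ[D] D' ⊗[D] RX).toRingHom
  haveI : IsLocalRing (D' ⊗[D] RX) := IsLocalRing.of_surjective' iX hXsurj
  have hiX : ∀ r, iX (algebraMap RS RX r) = algebraMap RS' (D' ⊗[D] RX) (algebraMap RS RS' r) := fun r => by
    show (Algebra.TensorProduct.includeRight : RX →ₐ[D] D' ⊗[D] RX) (algebraMap RS RX r) =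
      (algebraMap RS' D' (algebraMap RS RS' r)) ⊗ₜ[D] (1 : RX)
    rw [IsScalarTower.algebraMap_apply RS D RX, AlgHom.commutes, ← RingHom.comp_apply (algebraMap RS' D'), hcomp]
    rfl
  haveI : IsLocalHom (algebraMap RS' (D' ⊗[D] RX)) := by
    refine ⟨fun w hw => ?_⟩
    obtain ⟨r, rfl⟩ := hsurj w
    rw [← hiX] at hw
    haveI := IsLocalHom.of_surjective iX hXsurj
    exact (IsUnit.of_map (algebraMap RS RX) _ (IsUnit.of_map iX _ hw)).map _
  haveI : Nontrivial RS' := (algebraMap RS' (D' ⊗[D] RX)).domain_nontrivial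
  haveI : IsLocalRing RS' := IsLocalRing.of_surjective' _ hsurj
  haveI : Module.Flat RS' (D' ⊗[D] RX) := Module.Flat.trans RS' D' (D' ⊗[D] RX)
  haveI : IsIntegralHom (Spec.map (CommRingCat.ofHom (algebraMap RS RS'))) :=
    IsIntegralHom.SpecMap_iff.2 (RingHom.IsIntegral.of_finite (RingHom.Finite.of_surjective _ hsurj))
  haveI : Surjective (Spec.map (CommRingCat.ofHom (algebraMap RS RS'))) := ⟨fun x => by
    have hx : x ∈ Set.range (PrimeSpectrum.comap (algebraMap RS RS')) := by
      rw [range_comap_of_surjective _ (algebraMap RS RS') hsurj]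
      intro r hr
      obtain ⟨n, hn⟩ := hker r hr
      exact x.isPrime.mem_of_pow_mem n (hn ▸ x.asIdeal.zero_mem)
    exact hx⟩
  have hflat : (algebraMap RS' (D' ⊗[D] RX)).Flat := RingHom.flat_algebraMap_iff.mpr inferInstance
  haveI : Flat (Spec.map (CommRingCat.ofHom (algebraMap RS' (D' ⊗[D] RX)))) :=
    (HasRingHomProperty.Spec_iff (P := @Flat)).mpr hflat
  haveI : Surjective (Spec.map (CommRingCat.ofHom (algebraMap RS' (D' ⊗[D] RX)))) :=
    surjective_specMap_of_flat _ hflat
  have hw : Spec.map (CommRingCat.ofHom iX) ≫ Spec.map (CommRingCat.ofHom (algebraMap RS RX)) =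
      Spec.map (CommRingCat.ofHom (algebraMap RS' (D' ⊗[D] RX))) ≫ Spec.map (CommRingCat.ofHom (algebraMap RS RS')) := by
    simp only [← Spec.map_comp, ← CommRingCat.ofHom_comp]
    congr 2
    exact RingHom.ext hiX
  haveI : GeometricallyConnected (Spec.map (CommRingCat.ofHom (algebraMap RS RX))) := by
    refine geometricallyConnected_of_algClosed _ fun K _ _ η => ?_
    letI : Algebra RS K := (Spec.preimage η).hom.toAlgebra
    let g₀ : { g : RS →+* K // RingHom.ker (algebraMap RS RS') ≤ RingHom.ker g } := ⟨algebraMap RS K,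
      fun r hr => (RingHom.mem_ker).2 (IsNilpotent.eq_zero ((hker r hr).map (algebraMap RS K)))⟩
    letI : Algebra RS' K := (RingHom.liftOfSurjective (algebraMap RS RS') hsurj g₀).toAlgebra
    haveI : IsScalarTower RS RS' K := IsScalarTower.of_algebraMap_eq fun r =>
      (RingHom.liftOfSurjective_comp_apply (algebraMap RS RS') hsurj g₀ r).symm
    rw [show η = Spec.map (CommRingCat.ofHom (algebraMap RS K)) from (Spec.map_preimage η).symm]
    refine (pullbackSpecIso RS RX K).hom.homeomorph.connectedSpace_iff.2 ?_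
    let qX : RX →+* RX ⊗[RS] K := (Algebra.TensorProduct.includeLeft : RX →ₐ[RS] RX ⊗[RS] K).toRingHom
    have hq : ∀ r : RS, qX (algebraMap RS RX r) = (1 : RX) ⊗ₜ[RS] algebraMap RS K r := fun r =>
      ((Algebra.TensorProduct.includeLeft : RX →ₐ[RS] RX ⊗[RS] K).commutes r).trans
        ((Algebra.TensorProduct.includeRight : K →ₐ[RS] RX ⊗[RS] K).commutes r).symm
    obtain ⟨tD, htD⟩ := hlift (RX ⊗[RS] K) (qX.comp (algebraMap D RX)) fun r hr => by
      rw [RingHom.comp_apply, ← IsScalarTower.algebraMap_apply RS D RX, hq,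
        IsNilpotent.eq_zero ((hker r hr).map (algebraMap RS K)), TensorProduct.tmul_zero]
    let tX : D' ⊗[D] RX →ₐ[D] RX ⊗[RS] K := Algebra.TensorProduct.lift
      { tD with commutes' := htD } { qX with commutes' := fun _ => rfl } fun _ _ => Commute.all _ _
    have ht : ∀ x, tX.toRingHom (iX x) = x ⊗ₜ[RS] (1 : K) := fun x => by
      show tX ((1 : D') ⊗ₜ[D] x) = _
      rw [Algebra.TensorProduct.lift_tmul, map_one, one_mul]
      rfl
    refine connectedSpace_of_retract iX hiX tX.toRingHom ht (fun w => ?_) (hfield (D' ⊗[D] RX) K)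
    obtain ⟨r, rfl⟩ := hsurj w
    rw [← hiX, ht]
    exact (hq r).trans (by rw [← IsScalarTower.algebraMap_apply])
  exact isZeroAcyclic_of_univSubmersive _ (isUnivSubmersive_of_square _ _ _ _ hw)

attribute [local instance] Algebra.TensorProduct.rightAlgebra

section Model

variable (O κ C RS : Type u) [CommRing O] [CommRing κ] [Algebra O κ] [CommRing C] [Algebra O C] [CommRing RS]
  [Algebra O RS]

/-- The map to the model over the quotient `κ` of `O`. -/
noncomputable def modelHom : RS ⊗[O] C →ₐ[O] (RS ⊗[O] κ) ⊗[κ] (κ ⊗[O] C) :=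
  Algebra.TensorProduct.lift
    (((Algebra.TensorProduct.includeLeft : RS ⊗[O] κ →ₐ[κ] (RS ⊗[O] κ) ⊗[κ] (κ ⊗[O] C)).restrictScalars O).comp
      (IsScalarTower.toAlgHom O RS (RS ⊗[O] κ)))
    (((Algebra.TensorProduct.includeRight : κ ⊗[O] C →ₐ[κ] (RS ⊗[O] κ) ⊗[κ] (κ ⊗[O] C)).restrictScalars O).comp
      (Algebra.TensorProduct.includeRight : C →ₐ[O] κ ⊗[O] C))
    fun a b => Commute.all _ _

variable {O κ C RS}

theorem modelHom_left (r : RS) : modelHom O κ C RS (r ⊗ₜ (1 : C)) = (r ⊗ₜ[O] (1 : κ)) ⊗ₜ[κ] (1 : κ ⊗[O] C) := by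
  rw [modelHom, Algebra.TensorProduct.lift_tmul, map_one, mul_one]
  rfl

theorem modelHom_right (c : C) : modelHom O κ C RS ((1 : RS) ⊗ₜ c) = (1 : RS ⊗[O] κ) ⊗ₜ[κ] ((1 : κ) ⊗ₜ[O] c) := by
  rw [modelHom, Algebra.TensorProduct.lift_tmul, map_one, one_mul]
  rfl

theorem modelHom_surjective (hκ : Function.Surjective (algebraMap O κ)) : Function.Surjective (modelHom O κ C RS) := by
  intro z
  induction z with
  | zero => exact ⟨0, map_zero _⟩
  | add x y hx hy =>
    obtain ⟨a, rfl⟩ := hx
    obtain ⟨b, rfl⟩ := hy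
    exact ⟨a + b, map_add _ _ _⟩
  | tmul w c =>
    obtain ⟨r, rfl⟩ := Algebra.TensorProduct.includeLeft_surjective (R := O) RS RS hκ w
    obtain ⟨c, rfl⟩ := Algebra.TensorProduct.includeRight_surjective (R := O) (S := κ) (T := C) hκ c
    refine ⟨r ⊗ₜ 1 * 1 ⊗ₜ c, ?_⟩
    rw [map_mul, modelHom_left, modelHom_right]
    simp

theorem exists_modelLift (hκ : Function.Surjective (algebraMap O κ)) (Z : Type u) [CommRing Z] (f : RS ⊗[O] C →+* Z)
    (hf : ∀ a, algebraMap O κ a = 0 → f (algebraMap O (RS ⊗[O] C) a) = 0) :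
    ∃ g : (RS ⊗[O] κ) ⊗[κ] (κ ⊗[O] C) →+* Z, ∀ d, g (modelHom O κ C RS d) = f d := by
  let fκ : κ →+* Z := RingHom.liftOfSurjective (algebraMap O κ) hκ ⟨f.comp (algebraMap O (RS ⊗[O] C)),
    fun a ha => RingHom.mem_ker.2 (hf a ha)⟩
  have hfκ : ∀ a, fκ (algebraMap O κ a) = f (algebraMap O (RS ⊗[O] C) a) := fun a =>
    RingHom.liftOfSurjective_comp_apply _ _ _ a
  letI : Algebra κ Z := fκ.toAlgebra
  letI : Algebra O Z := (f.comp (algebraMap O (RS ⊗[O] C))).toAlgebra
  haveI : IsScalarTower O κ Z := IsScalarTower.of_algebraMap_eq fun a => (hfκ a).symm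
  let f' : RS ⊗[O] C →ₐ[O] Z := { f with commutes' := fun _ => rfl }
  let gS₀ : RS ⊗[O] κ →ₐ[O] Z := Algebra.TensorProduct.lift
    (f'.comp (Algebra.TensorProduct.includeLeft : RS →ₐ[O] RS ⊗[O] C)) (IsScalarTower.toAlgHom O κ Z)
    fun _ _ => Commute.all _ _
  let gS : RS ⊗[O] κ →ₐ[κ] Z :=
    { gS₀.toRingHom with
      commutes' := fun a => by
        show gS₀ ((1 : RS) ⊗ₜ a) = _
        rw [Algebra.TensorProduct.lift_tmul, map_one, one_mul]
        rfl }
  let gC : κ ⊗[O] C →ₐ[κ] Z := Algebra.TensorProduct.lift (Algebra.ofId κ Z)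
    (f'.comp (Algebra.TensorProduct.includeRight : C →ₐ[O] RS ⊗[O] C)) fun _ _ => Commute.all _ _
  let g := Algebra.TensorProduct.lift gS gC fun _ _ => Commute.all _ _
  refine ⟨g.toRingHom, fun d => ?_⟩
  show g (modelHom O κ C RS d) = f d
  induction d with
  | zero => simp
  | add x y hx hy => simp only [map_add, hx, hy]
  | tmul r c =>
    have e : (r ⊗ₜ c : RS ⊗[O] C) = r ⊗ₜ 1 * 1 ⊗ₜ c := by simp
    rw [e, map_mul, map_mul, map_mul, modelHom_left, modelHom_right]
    congr 1
    · rw [Algebra.TensorProduct.lift_tmul, map_one, mul_one]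
      show gS₀ (r ⊗ₜ (1 : κ)) = _
      rw [Algebra.TensorProduct.lift_tmul, map_one, mul_one]
      rfl
    · rw [Algebra.TensorProduct.lift_tmul, map_one, one_mul, Algebra.TensorProduct.lift_tmul, map_one, one_mul]
      rfl

theorem isNilpotent_of_tensor_quot (hκ : Function.Surjective (algebraMap O κ))
    (hker : ∀ a, algebraMap O κ a = 0 → IsNilpotent a) (r : RS) (hr : algebraMap RS (RS ⊗[O] κ) r = 0) :
    IsNilpotent r := by
  refine nilpotent_iff_mem_prime.2 fun P hP => ?_
  let f : RS →+* RS ⧸ P := Ideal.Quotient.mk P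
  let fκ : κ →+* RS ⧸ P := RingHom.liftOfSurjective (algebraMap O κ) hκ ⟨f.comp (algebraMap O RS),
    fun a ha => RingHom.mem_ker.2 (IsNilpotent.eq_zero ((hker a ha).map (f.comp (algebraMap O RS))))⟩
  let g : RS ⊗[O] κ →ₐ[O] RS ⧸ P := Algebra.TensorProduct.lift { f with commutes' := fun _ => rfl }
    { fκ with commutes' := fun a => RingHom.liftOfSurjective_comp_apply _ _ _ a } fun _ _ => Commute.all _ _
  have h : g (r ⊗ₜ (1 : κ)) = f r := by
    rw [Algebra.TensorProduct.lift_tmul, map_one, mul_one]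
    rfl
  exact Ideal.Quotient.eq_zero_iff_mem.1 (h.symm.trans ((congrArg g hr).trans (map_zero g)))

end Model

/-- `Spec RX → Spec RS` is 0-acyclic when `RX` is weakly etale over `RS ⊗ C` and `O` has a nil quotient field. -/
theorem isZeroAcyclic_of_zeroDim (O κ C RS RX : Type u) [CommRing O] [Field κ] [Algebra O κ]
    (hκ : Function.Surjective (algebraMap O κ)) (hker : ∀ a, algebraMap O κ a = 0 → IsNilpotent a)
    [CommRing C] [Algebra O C] [CommRing RS] [HenselianLocalRing RS]
    [IsSepClosed (ResidueField RS)] [Algebra O RS] [CommRing RX] [IsLocalRing RX] [Algebra RS RX]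
    [IsLocalHom (algebraMap RS RX)] [Algebra (RS ⊗[O] C) RX] [IsScalarTower RS (RS ⊗[O] C) RX]
    [Algebra.WeaklyEtale (RS ⊗[O] C) RX] :
    EtAcyc.IsZeroAcyclic (Spec.map (CommRingCat.ofHom (algebraMap RS RX))) := by
  have hsurj : Function.Surjective (algebraMap RS (RS ⊗[O] κ)) :=
    Algebra.TensorProduct.includeLeft_surjective (R := O) RS RS hκ
  have hnil : ∀ r, algebraMap RS (RS ⊗[O] κ) r = 0 → IsNilpotent r :=
    fun r hr => isNilpotent_of_tensor_quot hκ hker r hr
  haveI : Nontrivial (RS ⊗[O] κ) := ⟨⟨1, 0, fun h => not_isNilpotent_one (hnil 1 ((map_one _).trans h))⟩⟩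
  haveI : IsLocalRing (RS ⊗[O] κ) := IsLocalRing.of_surjective' _ hsurj
  haveI : Algebra.IsIntegral RS (RS ⊗[O] κ) := ⟨fun z => by
    obtain ⟨r, rfl⟩ := hsurj z
    exact isIntegral_algebraMap⟩
  haveI : HenselianLocalRing (RS ⊗[O] κ) := Hensel.henselianLocalRing_of_isIntegral_local RS _
  haveI : IsLocalHom (algebraMap RS (RS ⊗[O] κ)) := Hensel.isLocalHom_of_isIntegral_local RS _
  haveI : IsSepClosed (ResidueField (RS ⊗[O] κ)) := (Hensel.residueField_of_isIntegral RS (RS ⊗[O] κ)).1
  letI : Algebra (RS ⊗[O] C) ((RS ⊗[O] κ) ⊗[κ] (κ ⊗[O] C)) := (modelHom O κ C RS).toRingHom.toAlgebra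
  refine isZeroAcyclic_of_quotientModel (D := RS ⊗[O] C) (RS' := RS ⊗[O] κ) (D' := (RS ⊗[O] κ) ⊗[κ] (κ ⊗[O] C))
    (RingHom.ext fun r => (modelHom_left r).symm) hsurj hnil (modelHom_surjective hκ) (fun Z _ f hf => ?_)
    fun RX' _ _ _ _ _ _ _ K _ _ _ => connectedSpace_tensor_of_fieldBase κ (κ ⊗[O] C) (RS ⊗[O] κ) RX' K
  refine exists_modelLift hκ Z f fun a ha => ?_
  rw [IsScalarTower.algebraMap_apply O RS (RS ⊗[O] C)]
  refine hf _ ?_
  show algebraMap O RS a ⊗ₜ[O] (1 : κ) = 0
  rw [Algebra.algebraMap_eq_smul_one, TensorProduct.smul_tmul, ← Algebra.algebraMap_eq_smul_one, ha,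
    TensorProduct.tmul_zero]

end Groth.Agent.EtPBC0
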