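import Groth.Agent.EtPBC0.AtPt
import Groth.Agent.EtContLib.BaseSys
import Groth.Agent.EtContLib.Stage
import Groth.Agent.EtFound.PushOutside

/-!
# Sections on a limit of etale schemes come from a stage
-/

set_option autoImplicit false
set_option linter.style.haveILetI false

universe u

open CategoryTheory CategoryTheory.Limits AlgebraicGeometry Opposite TopologicalSpace
open Groth.Agent.BigSiteLib.DescSec Groth.Agent.EtH0Lib

namespace Groth.Agent.EtPBC0

set_option backward.isDefEq.respectTransparency false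
set_option backward.isDefEq.respectTransparency.types false
set_option quotPrecheck false

theorem app_comp' {A B C : Scheme.{u}} (f : A ⟶ B) (g : B ⟶ C) (h : A ⟶ C) (e : f ≫ g = h) (x : A) : g (f x) = h x :=
  (Scheme.Hom.comp_apply f g x).symm.trans (congrArg (fun q : A ⟶ C => q x) e)

theorem locEq_congr {S : Scheme.{u}} {P : S.Etaleᵒᵖ ⥤ Type (u + 1)} {U : S.Etale} {a a' b b' : P.obj (op U)} {z : U.left}
    (ha : a = a') (hb : b = b') (h : LocEq P a b z) : LocEq P a' b' z := ha ▸ hb ▸ h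

section Pieces

variable {X P Q : Scheme.{u}} (h : P ⟶ X) [Etale h] (p : Q ⟶ P) (k : Q ⟶ X) (w : p ≫ h = k) {F : EtDesc.Sh X}

/-- The comparison of base changes of an etale scheme over an etale scheme. -/
noncomputable def mu (W : P.Etale) : (EtCoh.bc p).obj W ⟶ (EtCoh.bc k).obj ((EtShriek.compEtale h).obj W) :=
  MorphismProperty.Over.homMk (pullback.lift (pullback.fst W.hom p) (pullback.snd W.hom p) (by
      show pullback.fst W.hom p ≫ W.hom ≫ h = pullback.snd W.hom p ≫ k
      rw [← Category.assoc, pullback.condition, Category.assoc, w]))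
    (pullback.lift_snd _ _ _)

theorem mu_fst (W : P.Etale) :
    (mu h p k w W).left ≫ pullback.fst ((EtShriek.compEtale h).obj W).hom k = pullback.fst W.hom p :=
  pullback.lift_fst _ _ _

/-- A section on an etale scheme over a stage, seen on the limit. -/
noncomputable def secOn (W : P.Etale) (y : F.obj.obj (op ((EtShriek.compEtale h).obj W))) :
    ((EtDesc.pullSh k).obj F).obj.obj (op ((EtCoh.bc p).obj W)) :=
  ((EtDesc.pullSh k).obj F).obj.map (mu h p k w W).op (up k F _ y)

/-- The section induces the given one on the limit. -/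
def Good (t : ((EtDesc.pullSh k).obj F).obj.obj (op (EtCoh.top Q))) (W : P.Etale)
    (y : F.obj.obj (op ((EtShriek.compEtale h).obj W))) : Prop :=
  secOn h p k w W y = ((EtDesc.pullSh k).obj F).obj.map (toTop _).op t

theorem secOn_map {W W' : P.Etale} (m : W' ⟶ W) (y : F.obj.obj (op ((EtShriek.compEtale h).obj W))) :
    secOn h p k w W' (F.obj.map ((EtShriek.compEtale h).map m).op y) =
      ((EtDesc.pullSh k).obj F).obj.map ((EtCoh.bc p).map m).op (secOn h p k w W y) := by
  rw [secOn, secOn, up_map, mapF, mapF]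
  refine congrArg (fun q : (EtCoh.bc p).obj W' ⟶ (EtCoh.bc k).obj ((EtShriek.compEtale h).obj W) =>
    ((EtDesc.pullSh k).obj F).obj.map q.op _) (MorphismProperty.Over.Hom.ext (pullback.hom_ext ?_ ?_))
  · refine ((Category.assoc _ _ _).trans ((congrArg ((mu h p k w W').left ≫ ·)
      (EtCoh.isPullback_bc_map k ((EtShriek.compEtale h).map m)).w).trans
      ((Category.assoc _ _ _).symm.trans (congrArg (· ≫ m.left) (mu_fst h p k w W'))))).trans ?_
    refine Eq.trans ?_ ((Category.assoc _ _ _).trans (congrArg (((EtCoh.bc p).map m).left ≫ ·) (mu_fst h p k w W))).symm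
    exact (EtCoh.isPullback_bc_map p m).w.symm
  · exact (MorphismProperty.Over.w ((mu h p k w W') ≫ (EtCoh.bc k).map ((EtShriek.compEtale h).map m))).trans
      (MorphismProperty.Over.w ((EtCoh.bc p).map m ≫ mu h p k w W)).symm

theorem Good.map {t : ((EtDesc.pullSh k).obj F).obj.obj (op (EtCoh.top Q))} {W W' : P.Etale} (m : W' ⟶ W)
    {y : F.obj.obj (op ((EtShriek.compEtale h).obj W))} (hy : Good h p k w t W y) :
    Good h p k w t W' (F.obj.map ((EtShriek.compEtale h).map m).op y) := by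
  rw [Good, secOn_map, show secOn h p k w W y = _ from hy, map_toTop]

theorem Good.locEq {t : ((EtDesc.pullSh k).obj F).obj.obj (op (EtCoh.top Q))} {W : P.Etale}
    {y y' : F.obj.obj (op ((EtShriek.compEtale h).obj W))} (hy : Good h p k w t W y) (hy' : Good h p k w t W y')
    (z : ((EtCoh.bc p).obj W).left) : LocEq F.obj y y' (pullback.fst W.hom p z) := by
  have e : secOn h p k w W y = secOn h p k w W y' := hy.trans hy'.symm
  have h₁ : LocEq ((EtDesc.pullSh k).obj F).obj (secOn h p k w W y) (secOn h p k w W y') z := by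
    rw [e]; exact LocEq.refl _ _
  have h₂ := locEq_of_up k F (LocEq.of_map (mu h p k w W) h₁)
  rwa [show BigSiteLib.DescSec.pr k _ ((mu h p k w W).left z) = pullback.fst W.hom p z from
    (Scheme.Hom.comp_apply _ _ z).symm.trans (congrArg (fun q : pullback W.hom p ⟶ W.left => q z) (mu_fst h p k w W))] at h₂

end Pieces

section Transport

variable {X P P' Q : Scheme.{u}} (h : P ⟶ X) [Etale h] (h' : P' ⟶ X) [Etale h'] (s : P' ⟶ P) (ws : s ≫ h = h')
  (p : Q ⟶ P) (p' : Q ⟶ P') (wp : p' ≫ s = p) (k : Q ⟶ X) (w : p ≫ h = k) (w' : p' ≫ h' = k) {F : EtDesc.Sh X}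

/-- Restriction to a later stage. -/
noncomputable def later (W : P.Etale) :
    (EtShriek.compEtale h').obj ((EtCoh.bc s).obj W) ⟶ (EtShriek.compEtale h).obj W :=
  MorphismProperty.Over.homMk (pullback.fst W.hom s) (by
    show pullback.fst W.hom s ≫ W.hom ≫ h = pullback.snd W.hom s ≫ h'
    rw [← Category.assoc, pullback.condition, Category.assoc, ws])

include wp in
theorem Good.later {t : ((EtDesc.pullSh k).obj F).obj.obj (op (EtCoh.top Q))} {W : P.Etale}
    {y : F.obj.obj (op ((EtShriek.compEtale h).obj W))} (hy : Good h p k w t W y) :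
    Good h' p' k w' t ((EtCoh.bc s).obj W) (F.obj.map (later h h' s ws W).op y) := by
  let n : (EtCoh.bc p').obj ((EtCoh.bc s).obj W) ⟶ (EtCoh.bc p).obj W :=
    MorphismProperty.Over.homMk (pullback.lift (pullback.fst ((EtCoh.bc s).obj W).hom p' ≫ pullback.fst W.hom s)
      (pullback.snd ((EtCoh.bc s).obj W).hom p') (by
        rw [← wp, Category.assoc, pullback.condition, ← Category.assoc,
          ← Category.assoc (pullback.snd ((EtCoh.bc s).obj W).hom p')]
        exact congrArg (· ≫ s) pullback.condition))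
      (pullback.lift_snd _ _ _)
  have e : mu h' p' k w' ((EtCoh.bc s).obj W) ≫ (EtCoh.bc k).map (EtPBC0.later h h' s ws W) = n ≫ mu h p k w W := by
    refine MorphismProperty.Over.Hom.ext (pullback.hom_ext ?_ ?_)
    · refine ((Category.assoc _ _ _).trans ((congrArg ((mu h' p' k w' _).left ≫ ·)
        (EtCoh.isPullback_bc_map k (EtPBC0.later h h' s ws W)).w).trans
        ((Category.assoc _ _ _).symm.trans (congrArg (· ≫ (EtPBC0.later h h' s ws W).left) (mu_fst h' p' k w' _))))).trans ?_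
      refine Eq.trans ?_ ((Category.assoc _ _ _).trans (congrArg (n.left ≫ ·) (mu_fst h p k w W))).symm
      exact (pullback.lift_fst _ _ _).symm
    · exact (MorphismProperty.Over.w (mu h' p' k w' _ ≫ (EtCoh.bc k).map (EtPBC0.later h h' s ws W))).trans
        (MorphismProperty.Over.w (n ≫ mu h p k w W)).symm
  rw [Good, secOn, up_map, mapF, e, ← mapF]
  show ((EtDesc.pullSh k).obj F).obj.map n.op (secOn h p k w W y) = _
  rw [show secOn h p k w W y = _ from hy, map_toTop]

end Transport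

section Glue

variable {X P : Scheme.{u}} (h : P ⟶ X) [Etale h] (F : EtDesc.Sh X)

/-- Gluing local sections over a stage. -/
theorem exists_glue_stage (Pₓ : X.Etale) {ι : Type u} (W : ι → X.Etale) (m : ∀ a, W a ⟶ Pₓ)
    (hcov : ∀ x : Pₓ.left, ∃ a, x ∈ Set.range (m a).left) (y : ∀ a, F.obj.obj (op (W a)))
    (hy : ∀ a b (Z : X.Etale) (f : Z ⟶ W a) (g : Z ⟶ W b), f ≫ m a = g ≫ m b → ∀ z, LocEq F.obj (F.obj.map f.op (y a)) (F.obj.map g.op (y b)) z) :
    ∃ x, ∀ a, F.obj.map (m a).op x = y a := by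
  have hsieve : Sieve.generate (Presieve.ofArrows W m) ∈ X.smallEtaleTopology Pₓ := by
    rw [EtFound.mem_topology_iff]
    intro x
    obtain ⟨a, z, hz⟩ := hcov x
    exact ⟨W a, m a, z, ⟨_, 𝟙 _, _, ⟨a⟩, Category.id_comp _⟩, hz⟩
  obtain ⟨g, hg, -⟩ := (Presieve.isSheafFor_arrows_iff _ _).1 ((Presieve.isSheafFor_iff_generate _).2
    (((isSheaf_iff_isSheaf_of_type _ _).1 F.property) _ hsieve)) y
    fun a b Z f g hfg => eq_of_locEq F (hy a b Z f g hfg)
  exact ⟨g, hg⟩

end Glue

section Limit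

variable {ι : Type u} [Preorder ι] [Nonempty ι] [IsDirected ι (· ≤ ·)] {X : Scheme.{u}} (E : ιᵒᵖ ⥤ X.Etale)
  (c : Cone (EtContLib.stages E)) (k : c.pt ⟶ X)
  (wk : ∀ i, EtContLib.pr (EtContLib.stages E) c i ≫ (E.obj (op i)).hom = k)
  (haff : ∀ ⦃a b : ιᵒᵖ⦄ (m : a ⟶ b), IsAffineHom ((EtContLib.stages E).map m))
  (hqc : ∀ a, CompactSpace ↥((EtContLib.stages E).obj a))
  (hqs : ∀ a, QuasiSeparatedSpace ↥((EtContLib.stages E).obj a)) (hc : IsLimit c) {F : EtDesc.Sh X}

local notation "Xs" => EtContLib.stages E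

/-- The stages are etale. -/
instance etale_stage (i : ι) : Etale (E.obj (op i)).hom := (E.obj (op i)).prop

include haff hc in
/-- An open containing the image of the limit contains the image of a stage. -/
theorem exists_stage_image (j : ι) (W : ((Xs).obj (op j)).Etale) [CompactSpace W.left] (O : W.left.Opens)
    (hO : ∀ z, pullback.fst W.hom (EtContLib.pr Xs c j) z ∈ O) :
    ∃ (l : ι) (hl : j ≤ l), ∀ z, pullback.fst W.hom (EtContLib.tr Xs hl) z ∈ O := by
  haveI := EtContLib.isCofiltered_op (ι := ι)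
  have hfst : ∀ a : Over (op j), IsAffineHom (pullback.fst W.hom (EtContLib.tr Xs (EtContLib.le_of_over j a))) := fun a =>
    MorphismProperty.pullback_fst (P := @IsAffineHom) _ _ (haff _)
  haveI : ∀ a, CompactSpace ((EtContLib.wDiag Xs j W).obj a) := fun a =>
    haveI := hfst a
    haveI : CompactSpace ((𝟭 Scheme.{u}).obj W.left) := ‹CompactSpace W.left›
    QuasiCompact.compactSpace_of_compactSpace (pullback.fst W.hom (EtContLib.tr Xs (EtContLib.le_of_over j a)))
  haveI : ∀ {a b : Over (op j)} (f : a ⟶ b), IsAffineHom ((EtContLib.wDiag Xs j W).map f) := fun {a b} f => by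
    haveI := hfst a
    haveI := hfst b
    have e : (EtContLib.wDiag Xs j W).map f ≫ pullback.fst W.hom (EtContLib.tr Xs (EtContLib.le_of_over j b)) =
        pullback.fst W.hom (EtContLib.tr Xs (EtContLib.le_of_over j a)) := pullback.lift_fst _ _ _
    haveI : IsAffineHom ((EtContLib.wDiag Xs j W).map f ≫ pullback.fst W.hom (EtContLib.tr Xs (EtContLib.le_of_over j b))) := by
      rw [e]; infer_instance
    exact IsAffineHom.of_comp _ (pullback.fst W.hom (EtContLib.tr Xs (EtContLib.le_of_over j b)))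
  let a₀ : Over (op j) := EtContLib.overMk j le_rfl
  obtain ⟨a, f, hf⟩ := exists_map_eq_top (EtContLib.wDiag Xs j W) _ (EtContLib.isLimitWCone Xs c j W hc) (i := a₀)
    (pullback.fst W.hom (EtContLib.tr Xs (EtContLib.le_of_over j a₀)) ⁻¹ᵁ O) (top_le_iff.1 fun x _ => by
      change pullback.fst W.hom (EtContLib.tr Xs (EtContLib.le_of_over j a₀)) ((EtContLib.wCone Xs c j W).π.app a₀ x) ∈ O
      exact (app_comp' _ _ _ (EtContLib.wCone_π_fst Xs c j W a₀) x).symm ▸ hO x)
  refine ⟨a.left.unop, EtContLib.le_of_over j a, fun x => ?_⟩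
  have h : pullback.fst W.hom (EtContLib.tr Xs (EtContLib.le_of_over j a₀)) ((EtContLib.wDiag Xs j W).map f x) ∈ O :=
    hf.ge (Set.mem_univ x)
  exact (app_comp' ((EtContLib.wDiag Xs j W).map f) (pullback.fst W.hom (EtContLib.tr Xs (EtContLib.le_of_over j a₀)))
    (pullback.fst W.hom (EtContLib.tr Xs (EtContLib.le_of_over j a))) (pullback.lift_fst _ _ _) x) ▸ h

variable (t : ((EtDesc.pullSh k).obj F).obj.obj (op (EtCoh.top c.pt)))

local notation "hh" i => (E.obj (op i)).hom
local notation "pp" i => EtContLib.pr Xs c i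

include haff hc in
/-- Around every point the section comes from some stage. -/
theorem exists_piece (u : c.pt) : ∃ (j : ι) (W : ((Xs).obj (op j)).Etale) (_ : CompactSpace W.left)
    (y : F.obj.obj (op ((EtShriek.compEtale (hh j)).obj W))),
    Good (hh j) (pp j) k (wk j) t W y ∧ (pp j) u ∈ Set.range W.hom := by
  haveI := EtContLib.isCofiltered_op (ι := ι)
  obtain ⟨V, x, z, m, hz, hm⟩ := exists_locEq_up k F t u
  rw [(EtCore.topIsTerminal c.pt).hom_ext m (toTop _)] at hm
  obtain ⟨j⟩ := ‹Nonempty ι›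
  let U : ((Xs).obj (op j)).Etale := (EtCoh.bc (hh j)).obj V
  let v := viaC (pp j) (hh j) k (wk j) V
  haveI := isIso_viaC (pp j) (hh j) k (wk j) V
  obtain ⟨A, hA, hvA, -⟩ := exists_isAffineOpen_mem_and_subset (U := (⊤ : U.left.Opens))
    (x := BigSiteLib.DescSec.pr (pp j) U (v.left z)) trivial
  let W₀ : ((Xs).obj (op j)).Etale := EtFound.restrictEtale U A
  let ι₀ : W₀ ⟶ U := EtFound.restrictEtaleHom U A
  haveI : IsAffine W₀.left := hA
  obtain ⟨z₀, hz₀, -⟩ := Scheme.exists_preimage_of_isPullback (EtCoh.isPullback_bc_map (pp j) ι₀) (v.left z)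
    (⟨_, hvA⟩ : A.toScheme) rfl
  let n : (EtCoh.bc (pp j)).obj W₀ ⟶ (EtCoh.bc k).obj V := (EtCoh.bc (pp j)).map ι₀ ≫ inv v
  have hnz : n.left z₀ = z := by
    show (inv v).left (((EtCoh.bc (pp j)).map ι₀).left z₀) = z
    rw [hz₀, ← Scheme.Hom.comp_apply]
    exact congrArg (fun q : (EtCoh.bc k).obj V ⟶ (EtCoh.bc k).obj V => q.left z) (IsIso.hom_inv_id v)
  let m₀ : (EtShriek.compEtale (hh j)).obj W₀ ⟶ V := MorphismProperty.Over.homMk (ι₀.left ≫ pullback.fst V.hom (hh j)) (by
    show (A.ι ≫ pullback.fst V.hom (hh j)) ≫ V.hom = (A.ι ≫ U.hom) ≫ hh j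
    rw [Category.assoc, Category.assoc, pullback.condition]
    rfl)
  let y₀ := F.obj.map m₀.op x
  have hn : mu (hh j) (pp j) k (wk j) W₀ ≫ (EtCoh.bc k).map m₀ = n := by
    refine (cancel_mono v).1 ?_
    rw [show n ≫ v = (EtCoh.bc (pp j)).map ι₀ by simp [n]]
    refine MorphismProperty.Over.Hom.ext (pullback.hom_ext ?_ ?_)
    · refine Eq.trans ?_ (EtCoh.isPullback_bc_map (pp j) ι₀).w.symm
      refine pullback.hom_ext ?_ ?_
      · simp only [Category.assoc]
        refine (congrArg (fun q => (mu (hh j) (pp j) k (wk j) W₀).left ≫ ((EtCoh.bc k).map m₀).left ≫ q)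
          ((Category.assoc _ _ _).symm.trans (viaC_left (pp j) (hh j) k (wk j) V).1)).trans ?_
        refine (congrArg ((mu (hh j) (pp j) k (wk j) W₀).left ≫ ·) (EtCoh.isPullback_bc_map k m₀).w).trans ?_
        exact (Category.assoc _ _ _).symm.trans (congrArg (· ≫ m₀.left) (mu_fst (hh j) (pp j) k (wk j) W₀))
      · simp only [Category.assoc]
        refine (congrArg (fun q => (mu (hh j) (pp j) k (wk j) W₀).left ≫ ((EtCoh.bc k).map m₀).left ≫ q)
          ((Category.assoc _ _ _).symm.trans (viaC_left (pp j) (hh j) k (wk j) V).2)).trans ?_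
        refine ((congrArg (fun q => (mu (hh j) (pp j) k (wk j) W₀).left ≫ q) ((Category.assoc _ _ _).symm.trans
          (congrArg (· ≫ (pp j)) (MorphismProperty.Over.w ((EtCoh.bc k).map m₀))))).trans
          ((Category.assoc _ _ _).symm.trans (congrArg (· ≫ (pp j))
            (MorphismProperty.Over.w (mu (hh j) (pp j) k (wk j) W₀))))).trans ?_
        exact (pullback.condition (f := W₀.hom) (g := pp j)).symm
    · exact (MorphismProperty.Over.w ((mu (hh j) (pp j) k (wk j) W₀ ≫ (EtCoh.bc k).map m₀) ≫ v)).trans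
        (MorphismProperty.Over.w ((EtCoh.bc (pp j)).map ι₀)).symm
  let L : ((EtCoh.bc (pp j)).obj W₀).left.Opens := ⟨{q | LocEq ((EtDesc.pullSh k).obj F).obj (secOn (hh j) (pp j) k (wk j) W₀ y₀)
    (((EtDesc.pullSh k).obj F).obj.map (toTop _).op t) q}, isOpen_locEq (P := ((EtDesc.pullSh k).obj F).obj) _ _⟩
  have hzL : z₀ ∈ L := by
    show LocEq ((EtDesc.pullSh k).obj F).obj _ _ z₀
    rw [secOn, up_map, mapF, hn, ← map_toTop ((EtDesc.pullSh k).obj F) n t]
    exact LocEq.map n (by rw [hnz]; exact hm)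
  obtain ⟨_, ⟨Ω, hΩ, rfl⟩, hzΩ, hΩL⟩ :=
    ((EtCoh.bc (pp j)).obj W₀).left.isBasis_affineOpens.exists_subset_of_mem_open hzL L.2
  haveI : ∀ {a b : Over (op j)} (f : a ⟶ b), IsAffineHom ((EtContLib.wDiag Xs j W₀).map f) := fun f =>
    EtContLib.isAffineHom_wDiag Xs j W₀ haff f
  obtain ⟨a, Ωa, hΩa, eΩ⟩ := exists_preimage_eq (EtContLib.wDiag Xs j W₀) _ (EtContLib.isLimitWCone Xs c j W₀ hc)
    Ω hΩ.isCompact
  have hl : j ≤ a.left.unop := EtContLib.le_of_over j a
  let l := a.left.unop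
  let W₁ : ((Xs).obj (op l)).Etale := (EtCoh.bc (EtContLib.tr Xs hl)).obj W₀
  let W : ((Xs).obj (op l)).Etale := EtFound.restrictEtale W₁ Ωa
  let ι₁ : W ⟶ W₁ := EtFound.restrictEtaleHom W₁ Ωa
  let y := F.obj.map ((EtShriek.compEtale (hh l)).map ι₁).op
    (F.obj.map (later (hh j) (hh l) (EtContLib.tr Xs hl) (EtContLib.tr_hom E hl) W₀).op y₀)
  refine ⟨l, W, isCompact_iff_compactSpace.mp hΩa, y, ?_, ?_⟩
  · show secOn _ _ _ _ W y = _
    have key : secOn (hh l) (pp l) k (wk l) W y = ((EtDesc.pullSh k).obj F).obj.map ((EtCoh.bc (pp l)).map ι₁).op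
        (secOn (hh l) (pp l) k (wk l) W₁ (F.obj.map (later (hh j) (hh l) (EtContLib.tr Xs hl) (EtContLib.tr_hom E hl) W₀).op y₀)) :=
      secOn_map _ _ _ _ ι₁ _
    rw [key]
    refine eq_of_locEq _ fun q => ?_
    let n₁ : (EtCoh.bc (pp l)).obj W₁ ⟶ (EtCoh.bc (pp j)).obj W₀ :=
      MorphismProperty.Over.homMk (pullback.lift (pullback.fst W₁.hom (pp l) ≫ pullback.fst W₀.hom (EtContLib.tr Xs hl))
        (pullback.snd W₁.hom (pp l)) (by
          rw [← EtContLib.pr_tr Xs c hl, Category.assoc, pullback.condition, ← Category.assoc,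
            ← Category.assoc (pullback.snd W₁.hom (pp l))]
          exact congrArg (· ≫ _) pullback.condition)) (pullback.lift_snd _ _ _)
    have e₁ : secOn (hh l) (pp l) k (wk l) W₁
        (F.obj.map (later (hh j) (hh l) (EtContLib.tr Xs hl) (EtContLib.tr_hom E hl) W₀).op y₀) =
        ((EtDesc.pullSh k).obj F).obj.map n₁.op (secOn (hh j) (pp j) k (wk j) W₀ y₀) := by
      rw [secOn, secOn, up_map, mapF]
      refine Eq.trans ?_ (mapF ((EtDesc.pullSh k).obj F).obj n₁ (mu (hh j) (pp j) k (wk j) W₀) _).symm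
      refine congrArg (fun q : (EtCoh.bc (pp l)).obj W₁ ⟶ (EtCoh.bc k).obj ((EtShriek.compEtale (hh j)).obj W₀) =>
        ((EtDesc.pullSh k).obj F).obj.map q.op _) (MorphismProperty.Over.Hom.ext (pullback.hom_ext ?_ ?_))
      · refine ((Category.assoc _ _ _).trans ((congrArg ((mu (hh l) (pp l) k (wk l) W₁).left ≫ ·)
          (EtCoh.isPullback_bc_map k (later (hh j) (hh l) (EtContLib.tr Xs hl) (EtContLib.tr_hom E hl) W₀)).w).trans
          ((Category.assoc _ _ _).symm.trans (congrArg (· ≫ pullback.fst W₀.hom (EtContLib.tr Xs hl))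
            (mu_fst (hh l) (pp l) k (wk l) W₁))))).trans ?_
        refine Eq.trans ?_ ((Category.assoc _ _ _).trans (congrArg (n₁.left ≫ ·) (mu_fst (hh j) (pp j) k (wk j) W₀))).symm
        exact (pullback.lift_fst _ _ _).symm
      · exact (MorphismProperty.Over.w (mu (hh l) (pp l) k (wk l) W₁ ≫ (EtCoh.bc k).map _)).trans
          (MorphismProperty.Over.w (n₁ ≫ mu (hh j) (pp j) k (wk j) W₀)).symm
    rw [e₁]
    refine Eq.mp (congrArg₂ (fun A B => LocEq ((EtDesc.pullSh k).obj F).obj A B q)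
      (mapF ((EtDesc.pullSh k).obj F).obj ((EtCoh.bc (pp l)).map ι₁) n₁ _).symm
      (map_toTop ((EtDesc.pullSh k).obj F) ((EtCoh.bc (pp l)).map ι₁ ≫ n₁) t))
      (LocEq.map ((EtCoh.bc (pp l)).map ι₁ ≫ n₁) (hΩL ?_))
    rw [show Ω = (EtContLib.wCone Xs c j W₀).π.app a ⁻¹ᵁ Ωa from eΩ.symm]
    show (EtContLib.wCone Xs c j W₀).π.app a (((EtCoh.bc (pp l)).map ι₁ ≫ n₁).left q) ∈ Ωa
    have e₂ : n₁.left ≫ (EtContLib.wCone Xs c j W₀).π.app a = pullback.fst W₁.hom (pp l) := by
      refine pullback.hom_ext ?_ ?_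
      · exact (Category.assoc _ _ _).trans ((congrArg (n₁.left ≫ ·) (EtContLib.wCone_π_fst Xs c j W₀ a)).trans
          (pullback.lift_fst _ _ _))
      · refine (Category.assoc _ _ _).trans ((congrArg (n₁.left ≫ ·) (EtContLib.wCone_π_snd Xs c j W₀ a)).trans ?_)
        exact ((Category.assoc _ _ _).symm.trans (congrArg (· ≫ pp l) (pullback.lift_snd _ _ _))).trans
          (pullback.condition (f := W₁.hom) (g := pp l)).symm
    show (EtContLib.wCone Xs c j W₀).π.app a (n₁.left (((EtCoh.bc (pp l)).map ι₁).left q)) ∈ Ωa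
    refine Eq.mp (congrArg (· ∈ Ωa) (app_comp' _ _ _ e₂ (((EtCoh.bc (pp l)).map ι₁).left q)).symm) ?_
    exact Eq.mp (congrArg (· ∈ Ωa) (pr_map (pp l) ι₁ q).symm) (BigSiteLib.DescSec.pr (pp l) W q).2
  · have hmem : (EtContLib.wCone Xs c j W₀).π.app a z₀ ∈ Ωa := (Set.ext_iff.1 (congrArg SetLike.coe eΩ) z₀).2 hzΩ
    refine ⟨(⟨_, hmem⟩ : Ωa.toScheme), ?_⟩
    show (pullback.snd W₀.hom (EtContLib.tr Xs hl)) ((EtContLib.wCone Xs c j W₀).π.app a z₀) = (pp l) u
    refine (app_comp' _ _ _ (EtContLib.wCone_π_snd Xs c j W₀ a) z₀).trans ((Scheme.Hom.comp_apply _ _ z₀).trans ?_)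
    refine congrArg (pp l) ?_
    refine Eq.trans ?_ (hnz ▸ hz : ((EtCoh.bc k).obj V).hom (n.left z₀) = u)
    exact (app_comp' n.left ((EtCoh.bc k).obj V).hom _ (MorphismProperty.Over.w n) z₀).symm

include haff hqc hqs hc in
/-- Sections on the limit come from a stage. -/
theorem exists_stage_section : ∃ (i : ι) (x : F.obj.obj (op (E.obj (op i)))),
    atPt k F (E.obj (op i)) (pp i) (wk i) x = t := by
  haveI := EtContLib.isCofiltered_op (ι := ι)
  haveI : ∀ {a b : ιᵒᵖ} (m : a ⟶ b), IsAffineHom ((Xs).map m) := fun m => haff m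
  classical
  choose j W hW y hy hu using exists_piece E c k wk haff hc t
  haveI : CompactSpace c.pt := Scheme.compactSpace_of_isLimit Xs c hc
  let O : c.pt → Set c.pt := fun u => (pp (j u)) ⁻¹' Set.range (W u).hom
  have hO : ∀ u, IsOpen (O u) := fun u =>
    haveI : Etale (W u).hom := (W u).prop
    ((W u).hom.isOpenMap.isOpen_range).preimage (pp (j u)).continuous
  obtain ⟨s, hs⟩ := isCompact_univ.elim_finite_subcover O hO fun u _ => Set.mem_iUnion.2 ⟨u, hu u⟩
  obtain ⟨l, hl⟩ := Finset.exists_le (s.image j)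
  replace hl : ∀ a : s, j a.1 ≤ l := fun a => hl _ (Finset.mem_image_of_mem _ a.2)
  let W' : s → ((Xs).obj (op l)).Etale := fun a => (EtCoh.bc (EtContLib.tr Xs (hl a))).obj (W a.1)
  let y' : ∀ a : s, F.obj.obj (op ((EtShriek.compEtale (hh l)).obj (W' a))) := fun a =>
    F.obj.map (later (hh (j a.1)) (hh l) (EtContLib.tr Xs (hl a)) (EtContLib.tr_hom E (hl a)) (W a.1)).op (y a.1)
  have hy' : ∀ a, Good (hh l) (pp l) k (wk l) t (W' a) (y' a) := fun a =>
    Good.later _ _ _ _ _ _ (EtContLib.pr_tr Xs c (hl a)) k (wk (j a.1)) (wk l) (hy a.1)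
  have hWc : ∀ a : s, CompactSpace (W' a).left := fun a => by
    haveI := hW a.1
    haveI : IsAffineHom (pullback.fst (W a.1).hom (EtContLib.tr Xs (hl a))) :=
      MorphismProperty.pullback_fst (P := @IsAffineHom) _ _ (haff _)
    haveI : CompactSpace ((𝟭 Scheme.{u}).obj (W a.1).left) := hW a.1
    exact QuasiCompact.compactSpace_of_compactSpace (pullback.fst (W a.1).hom (EtContLib.tr Xs (hl a)))
  let D : s → s → ((Xs).obj (op l)).Etale := fun a b =>
    haveI : Etale (W' a).hom := (W' a).prop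
    haveI : Etale (W' b).hom := (W' b).prop
    Scheme.Etale.mk (pullback.fst (W' a).hom (W' b).hom ≫ (W' a).hom)
  let qa : ∀ a b, D a b ⟶ W' a := fun a b => MorphismProperty.Over.homMk (pullback.fst _ _) rfl
  let qb : ∀ a b, D a b ⟶ W' b := fun a b => MorphismProperty.Over.homMk (pullback.snd _ _) pullback.condition.symm
  let Ya : ∀ a b, F.obj.obj (op ((EtShriek.compEtale (hh l)).obj (D a b))) := fun a b =>
    F.obj.map ((EtShriek.compEtale (hh l)).map (qa a b)).op (y' a)
  let Yb : ∀ a b, F.obj.obj (op ((EtShriek.compEtale (hh l)).obj (D a b))) := fun a b =>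
    F.obj.map ((EtShriek.compEtale (hh l)).map (qb a b)).op (y' b)
  have hover : ∀ a b, ∃ (m : ι) (hm : l ≤ m), ∀ z, LocEq F.obj (Ya a b) (Yb a b)
      (pullback.fst (D a b).hom (EtContLib.tr Xs hm) z) := fun a b => by
    haveI : Etale (W' a).hom := (W' a).prop
    haveI : Etale (W' b).hom := (W' b).prop
    haveI := hqs (op l)
    haveI : QuasiCompact (W' b).hom := by
      haveI := hWc b
      haveI : CompactSpace ((𝟭 Scheme.{u}).obj (W' b).left) := hWc b
      haveI : QuasiSeparatedSpace ((Functor.fromPUnit ((Xs).obj (op l))).obj (W' b).right) := hqs (op l)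
      exact quasiCompact_of_compactSpace _
    haveI : QuasiCompact (pullback.fst (W' a).hom (W' b).hom) :=
      MorphismProperty.pullback_fst (P := @QuasiCompact) _ _ ‹QuasiCompact (W' b).hom›
    haveI : CompactSpace (D a b).left := by
      haveI : CompactSpace ((𝟭 Scheme.{u}).obj (W' a).left) := hWc a
      exact QuasiCompact.compactSpace_of_compactSpace (pullback.fst (W' a).hom (W' b).hom)
    exact exists_stage_image E c haff hc l (D a b) ⟨{z | LocEq F.obj (Ya a b) (Yb a b) z},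
      isOpen_locEq (P := F.obj) (Ya a b) (Yb a b)⟩
      fun z => ((hy' a).map _ _ _ _ (qa a b)).locEq _ _ _ _ ((hy' b).map _ _ _ _ (qb a b)) z
  choose mab hmab hloc using hover
  let U : ((Xs).obj (op l)).Opens := ⟨⋃ a : s, Set.range (W' a).hom, isOpen_iUnion fun a =>
    haveI : Etale (W' a).hom := (W' a).prop
    (W' a).hom.isOpenMap.isOpen_range⟩
  haveI : ∀ a, CompactSpace ↥((Xs).obj a) := hqc
  obtain ⟨m₀, fm₀, hm₀⟩ := exists_map_eq_top Xs c hc (i := op l) U (top_le_iff.1 fun u _ => by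
    obtain ⟨v, hv, hvu⟩ := Set.mem_iUnion₂.1 (hs (Set.mem_univ u))
    obtain ⟨w₀, hw₀⟩ := hvu
    obtain ⟨w', -, hw'⟩ := Scheme.Pullback.exists_preimage_pullback (f := (W v).hom)
      (g := EtContLib.tr Xs (hl ⟨v, hv⟩)) w₀ ((pp l) u) (by
        rw [← Scheme.Hom.comp_apply, EtContLib.pr_tr Xs c]; exact hw₀)
    exact Set.mem_iUnion.2 ⟨⟨v, hv⟩, w', hw'⟩)
  obtain ⟨n, hn⟩ := Finset.exists_le (insert m₀.unop (Finset.univ.image fun ab : s × s => mab ab.1 ab.2))
  have hln : l ≤ n := (leOfHom fm₀.unop).trans (hn _ (Finset.mem_insert_self _ _))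
  have hmn : ∀ a b, mab a b ≤ n := fun a b =>
    hn _ (Finset.mem_insert_of_mem (Finset.mem_image_of_mem (fun ab : s × s => mab ab.1 ab.2) (Finset.mem_univ (a, b))))
  let Wn : s → X.Etale := fun a =>
    (EtShriek.compEtale (hh n)).obj ((EtCoh.bc (EtContLib.tr Xs hln)).obj (W' a))
  let yn : ∀ a, F.obj.obj (op (Wn a)) := fun a =>
    F.obj.map (later (hh l) (hh n) (EtContLib.tr Xs hln) (EtContLib.tr_hom E hln) (W' a)).op (y' a)
  have hyn : ∀ a, Good (hh n) (pp n) k (wk n) t _ (yn a) := fun a =>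
    Good.later _ _ _ _ _ _ (EtContLib.pr_tr Xs c hln) k (wk l) (wk n) (hy' a)
  let mm : ∀ a, Wn a ⟶ E.obj (op n) := fun a =>
    MorphismProperty.Over.homMk ((EtCoh.bc (EtContLib.tr Xs hln)).obj (W' a)).hom rfl
  have hcov : ∀ x : (E.obj (op n)).left, ∃ a, x ∈ Set.range (mm a).left := fun x => by
    have hx : EtContLib.tr Xs hln x ∈ U := by
      have h₀ : (EtContLib.tr Xs (hn _ (Finset.mem_insert_self _ _)) x) ∈ (Xs).map fm₀ ⁻¹ᵁ U := hm₀.ge (Set.mem_univ _)
      have e : EtContLib.tr Xs hln = EtContLib.tr Xs (hn _ (Finset.mem_insert_self _ _)) ≫ (Xs).map fm₀ := by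
        rw [EtContLib.tr, EtContLib.tr, ← Functor.map_comp]
        exact congrArg _ (Subsingleton.elim _ _)
      rw [e, Scheme.Hom.comp_apply]
      exact h₀
    obtain ⟨a, w₀, hw₀⟩ := Set.mem_iUnion.1 hx
    obtain ⟨w', -, hw'⟩ := Scheme.Pullback.exists_preimage_pullback (f := (W' a).hom)
      (g := EtContLib.tr Xs hln) w₀ x hw₀
    exact ⟨a, w', hw'⟩
  obtain ⟨x, hx⟩ := exists_glue_stage F (E.obj (op n)) Wn mm hcov yn fun a b Z f g hfg z => by
    have hfg' : f.left ≫ pullback.snd (W' a).hom (EtContLib.tr Xs hln) =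
        g.left ≫ pullback.snd (W' b).hom (EtContLib.tr Xs hln) := congrArg (fun q : Z ⟶ E.obj (op n) => q.left) hfg
    let r : Z.left ⟶ (D a b).left := pullback.lift (f.left ≫ pullback.fst (W' a).hom (EtContLib.tr Xs hln))
      (g.left ≫ pullback.fst (W' b).hom (EtContLib.tr Xs hln)) (by
        rw [Category.assoc, Category.assoc, pullback.condition, pullback.condition, ← Category.assoc,
          ← Category.assoc g.left]
        exact congrArg (· ≫ EtContLib.tr Xs hln) hfg')
    have hr₁ : r ≫ pullback.fst (W' a).hom (W' b).hom = f.left ≫ pullback.fst (W' a).hom (EtContLib.tr Xs hln) :=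
      pullback.lift_fst _ _ _
    let r' : Z ⟶ (EtShriek.compEtale (hh l)).obj (D a b) := MorphismProperty.Over.homMk r (by
      show r ≫ (pullback.fst (W' a).hom (W' b).hom ≫ (W' a).hom) ≫ (hh l) = Z.hom
      rw [← Category.assoc, ← Category.assoc, hr₁]
      exact (congrArg (· ≫ hh l) (Category.assoc _ _ _)).trans ((Category.assoc _ _ _).trans
        (MorphismProperty.Over.w (f ≫ later (hh l) (hh n) (EtContLib.tr Xs hln) (EtContLib.tr_hom E hln) (W' a)) :)))
    have ha : F.obj.map f.op (yn a) = F.obj.map r'.op (Ya a b) := by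
      show F.obj.map f.op (F.obj.map (later (hh l) (hh n) (EtContLib.tr Xs hln) (EtContLib.tr_hom E hln) (W' a)).op (y' a)) =
        F.obj.map r'.op (F.obj.map ((EtShriek.compEtale (hh l)).map (qa a b)).op (y' a))
      refine (mapF F.obj _ _ (y' a)).trans (Eq.trans ?_ (mapF F.obj _ _ (y' a)).symm)
      refine congrArg (fun q : Z ⟶ (EtShriek.compEtale (hh l)).obj (W' a) => F.obj.map q.op (y' a))
        (MorphismProperty.Over.Hom.ext ?_)
      exact hr₁.symm
    have hb : F.obj.map g.op (yn b) = F.obj.map r'.op (Yb a b) := by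
      show F.obj.map g.op (F.obj.map (later (hh l) (hh n) (EtContLib.tr Xs hln) (EtContLib.tr_hom E hln) (W' b)).op (y' b)) =
        F.obj.map r'.op (F.obj.map ((EtShriek.compEtale (hh l)).map (qb a b)).op (y' b))
      refine (mapF F.obj _ _ (y' b)).trans (Eq.trans ?_ (mapF F.obj _ _ (y' b)).symm)
      refine congrArg (fun q : Z ⟶ (EtShriek.compEtale (hh l)).obj (W' b) => F.obj.map q.op (y' b))
        (MorphismProperty.Over.Hom.ext ?_)
      exact (pullback.lift_snd _ _ _).symm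
    rw [ha, hb]
    refine LocEq.map r' ?_
    obtain ⟨p, hp, -⟩ := Scheme.Pullback.exists_preimage_pullback (f := (D a b).hom)
      (g := EtContLib.tr Xs (hmab a b)) (r z)
      (EtContLib.tr Xs (hmn a b) (pullback.snd (W' a).hom (EtContLib.tr Xs hln) (f.left z))) (by
        have e : r ≫ (D a b).hom =
            (f.left ≫ pullback.snd (W' a).hom (EtContLib.tr Xs hln)) ≫ EtContLib.tr Xs hln := by
          show r ≫ pullback.fst _ _ ≫ (W' a).hom = _
          rw [← Category.assoc, hr₁, Category.assoc, pullback.condition, ← Category.assoc]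
        refine (app_comp' r (D a b).hom _ e z).trans ?_
        refine ((Scheme.Hom.comp_apply _ _ z).trans ?_).trans
          (app_comp' _ _ _ (EtContLib.tr_tr Xs (hmab a b) (hmn a b)) _).symm
        exact congrArg (EtContLib.tr Xs hln) (Scheme.Hom.comp_apply _ _ z))
    show LocEq F.obj (Ya a b) (Yb a b) (r z)
    rw [← hp]
    exact hloc a b p
  refine ⟨n, x, eq_of_locEq _ fun u => ?_⟩
  obtain ⟨v, hv, hvu⟩ := Set.mem_iUnion₂.1 (hs (Set.mem_univ (show c.pt from u)))
  obtain ⟨w₀, hw₀⟩ := hvu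
  obtain ⟨w₁, -, hw₁⟩ := Scheme.Pullback.exists_preimage_pullback (f := (W v).hom)
    (g := EtContLib.tr Xs (hl ⟨v, hv⟩)) w₀ ((pp l) (show c.pt from u)) (by
      rw [← Scheme.Hom.comp_apply, EtContLib.pr_tr Xs c]; exact hw₀)
  obtain ⟨w₂, -, hw₂⟩ := Scheme.Pullback.exists_preimage_pullback (f := (W' ⟨v, hv⟩).hom)
    (g := EtContLib.tr Xs hln) w₁ ((pp n) (show c.pt from u)) (by
      rw [← Scheme.Hom.comp_apply, EtContLib.pr_tr Xs c]; exact hw₁)
  obtain ⟨q, -, hq⟩ := Scheme.Pullback.exists_preimage_pullback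
    (f := ((EtCoh.bc (EtContLib.tr Xs hln)).obj (W' ⟨v, hv⟩)).hom) (g := pp n) w₂ (show c.pt from u) hw₂
  rw [show u = (toTop ((EtCoh.bc (pp n)).obj ((EtCoh.bc (EtContLib.tr Xs hln)).obj (W' ⟨v, hv⟩)))).left q from
    ((toTop_left_apply _ _).trans hq).symm]
  refine LocEq.of_map _ ?_
  refine Eq.mp (congrArg₂ (fun A B => LocEq ((EtDesc.pullSh k).obj F).obj A B q) rfl
    (show secOn (hh n) (pp n) k (wk n) _ (yn ⟨v, hv⟩) = _ from hyn ⟨v, hv⟩)) ?_
  rw [← hx ⟨v, hv⟩, atPt, secOn, up_map]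
  refine locEq_congr (mapF ((EtDesc.pullSh k).obj F).obj _ _ _).symm (mapF ((EtDesc.pullSh k).obj F).obj _ _ _).symm ?_
  rw [show toTop ((EtCoh.bc (pp n)).obj ((EtCoh.bc (EtContLib.tr Xs hln)).obj (W' ⟨v, hv⟩))) ≫
      secHom k (E.obj (op n)) (pp n) (wk n) = mu (hh n) (pp n) k (wk n) _ ≫ (EtCoh.bc k).map (mm ⟨v, hv⟩) from
    MorphismProperty.Over.Hom.ext (pullback.hom_ext
      (((Category.assoc _ _ _).trans (congrArg ((toTop _).left ≫ ·) (secHom_fst k _ (pp n) (wk n)))).trans (by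
        refine Eq.trans ?_ ((Category.assoc _ _ _).trans ((congrArg ((mu (hh n) (pp n) k (wk n) _).left ≫ ·)
          (EtCoh.isPullback_bc_map k (mm ⟨v, hv⟩)).w).trans ((Category.assoc _ _ _).symm.trans
          (congrArg (· ≫ (mm ⟨v, hv⟩).left) (mu_fst (hh n) (pp n) k (wk n) _))))).symm
        refine Eq.trans ?_ (pullback.condition (f := ((EtCoh.bc (EtContLib.tr Xs hln)).obj (W' ⟨v, hv⟩)).hom) (g := pp n)).symm
        exact congrArg (· ≫ pp n) ((Category.comp_id _).symm.trans (MorphismProperty.Over.w (toTop _)))))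
      ((MorphismProperty.Over.w (toTop ((EtCoh.bc (pp n)).obj ((EtCoh.bc (EtContLib.tr Xs hln)).obj (W' ⟨v, hv⟩))) ≫ secHom k (E.obj (op n)) (pp n) (wk n))).trans
        (MorphismProperty.Over.w (mu (hh n) (pp n) k (wk n) _ ≫ (EtCoh.bc k).map (mm ⟨v, hv⟩))).symm))]
  exact LocEq.refl _ _

end Limit

end Groth.Agent.EtPBC0
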