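import Groth.Agent.EtPBC0.StrictConn

/-!
# Strict localizations over a separably closed field have connected geometric fibres
-/

set_option autoImplicit false
set_option linter.style.haveILetI false

universe u

open CategoryTheory CategoryTheory.Limits AlgebraicGeometry Opposite TopologicalSpace

namespace Groth.Agent.EtPBC0

set_option backward.isDefEq.respectTransparency false
set_option backward.isDefEq.respectTransparency.types false

theorem isField_stalk_of_subsingleton {S : Scheme.{u}} [Subsingleton S] [IsIntegral S] (x : S) :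
    IsField (S.presheaf.stalk x) := by
  haveI : Subsingleton (PrimeSpectrum (S.presheaf.stalk x)) :=
    (S.fromSpecStalk x).isEmbedding.injective.subsingleton
  rw [IsLocalRing.isField_iff_maximalIdeal_eq]
  exact congrArg PrimeSpectrum.asIdeal (Subsingleton.elim (IsLocalRing.closedPoint (S.presheaf.stalk x))
    ⟨⊥, Ideal.isPrime_bot⟩)

theorem isField_strictHenz {A RS : Type u} [CommRing A] [IsLocalRing A] [CommRing RS] [IsLocalRing RS]
    [Algebra A RS] [IsLocalHom (algebraMap A RS)] [Hensel.IsStrictHenselization A RS] (hA : IsField A) :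
    IsField RS := by
  haveI : Algebra.WeaklyEtale A RS := H1EssEt.weaklyEtale
  letI := hA.toField
  refine WEtLib.isField_of_forall_exists (fun a => WEtLib.exists_mul_eq (K := A) a) fun e he => ?_
  rcases IsLocalRing.isUnit_or_isUnit_one_sub_self e with h | h
  · right
    exact h.mul_left_cancel (he.trans (mul_one e).symm)
  · left
    exact h.mul_right_eq_zero.1 (by rw [sub_mul, one_mul, he, sub_self])

theorem connectedSpace_spec_of_isLocalRing (R : Type u) [CommRing R] [IsLocalRing R] :
    ConnectedSpace ↥(Spec (CommRingCat.of R)) := by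
  have hc : ∀ z : PrimeSpectrum R, z ⤳ IsLocalRing.closedPoint R := fun z => IsLocalRing.specializes_closedPoint z
  refine connectedSpace_iff_univ.2 ⟨⟨IsLocalRing.closedPoint R, trivial⟩, ?_⟩
  rintro U V hU hV hUV ⟨a, -, ha⟩ ⟨b, -, hb⟩
  rcases hUV (Set.mem_univ (IsLocalRing.closedPoint R)) with h | h
  · exact ⟨b, trivial, (hc b).mem_open hU h, hb⟩
  · exact ⟨a, trivial, ha, (hc a).mem_open hV h⟩

/-- A local scheme over a separably closed field has connected geometric fibres. -/
theorem connectedSpace_pullback_of_isField {RS RX : Type u} [CommRing RS] [IsLocalRing RS] [CommRing RX]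
    [IsLocalRing RX] [IsSepClosed (IsLocalRing.ResidueField RS)] (hRS : IsField RS) (ψ : RS →+* RX)
    (Ω : Type u) [Field Ω] (η : Spec (CommRingCat.of Ω) ⟶ Spec (CommRingCat.of RS)) :
    ConnectedSpace ↥(pullback (Spec.map (CommRingCat.ofHom ψ)) η) := by
  letI : Field RS := hRS.toField
  haveI : IsSepClosed RS := Hensel.isSepClosed_of_ringEquiv (RingEquiv.ofBijective (IsLocalRing.residue RS)
    ⟨(IsLocalRing.residue RS).injective, IsLocalRing.residue_surjective⟩).symm
  letI : (Spec (CommRingCat.of RX)).Over (Spec (CommRingCat.of RS)) := ⟨Spec.map (CommRingCat.ofHom ψ)⟩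
  haveI := connectedSpace_spec_of_isLocalRing RX
  haveI : GeometricallyConnected (Spec.map (CommRingCat.ofHom ψ)) :=
    GeomField.geometricallyConnected_of_separableClosure (GeomField.connectedSpace_bc_of_isSepClosed _)
  exact GeometricallyConnected.geometrically_connectedSpace _ _ _ (.of_hasPullback _ η)

theorem strictConn_of_subsingleton {X S : Scheme.{u}} [Subsingleton S] [IsIntegral S] (f : X ⟶ S) :
    StrictConn f := fun x RS _ _ _ _ _ RX _ _ _ _ _ ψ _ _ Ω _ _ η =>
  haveI : IsSepClosed (IsLocalRing.ResidueField RS) :=
    (Hensel.IsStrictHenselization.isSepClosure (R := S.presheaf.stalk (f.base x)) (S := RS)).sep_closed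
  connectedSpace_pullback_of_isField (isField_strictHenz (isField_stalk_of_subsingleton (f.base x))) ψ Ω η

end Groth.Agent.EtPBC0
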