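import Groth.Agent.EtPBC0.AcycConn

/-!
# Universally locally 0-acyclic morphisms have connected geometric strict fibres
-/

set_option autoImplicit false
set_option linter.style.haveILetI false

universe u

open CategoryTheory CategoryTheory.Limits AlgebraicGeometry Opposite TopologicalSpace IsLocalRing
open scoped TensorProduct

namespace Groth.Agent.EtPBC0

set_option backward.isDefEq.respectTransparency false
set_option backward.isDefEq.respectTransparency.types false

theorem isStrictHenselization_iso {O N : Type u} [CommRing O] [IsLocalRing O] [CommRing N] [HenselianLocalRing N]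
    [IsSepClosed (ResidueField N)] [Algebra O N] [IsLocalHom (algebraMap O N)]
    (hb : Function.Bijective (algebraMap O N)) : Hensel.IsStrictHenselization O N := by
  refine ⟨inferInstance, Hensel.isSepClosure_of_surjective inferInstance fun x => ?_, fun T _ _ f _ τ hτ => ?_⟩
  · obtain ⟨n, rfl⟩ := residue_surjective x
    obtain ⟨o, rfl⟩ := hb.2 n
    exact ⟨residue O o, rfl⟩
  · let e := RingEquiv.ofBijective (algebraMap O N) hb
    refine ⟨f.comp e.symm.toRingHom, ⟨RingHom.ext fun o => congrArg f (e.symm_apply_apply o), fun n => ?_⟩, fun g hg =>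
      RingHom.ext fun n => ?_⟩
    · obtain ⟨o, rfl⟩ := hb.2 n
      have := RingHom.congr_fun hτ (residue O o)
      rw [RingHom.comp_apply, ResidueField.map_residue, ResidueField.map_residue] at this
      exact (congrArg (residue T ∘ f) (e.symm_apply_apply o)).trans this.symm
    · obtain ⟨o, rfl⟩ := hb.2 n
      exact (RingHom.congr_fun hg.1 o).trans (congrArg f (e.symm_apply_apply o)).symm

theorem isFractionRing_integralClosure (R : Type u) [CommRing R] (p : Ideal R) [p.IsPrime] (K : Type u) [Field K]
    [Algebra R K] [Algebra p.ResidueField K] [IsScalarTower R p.ResidueField K] [Algebra.IsAlgebraic p.ResidueField K] :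
    IsFractionRing (integralClosure R K) K := by
  letI : Algebra (R ⧸ p) K := ((algebraMap p.ResidueField K).comp (algebraMap (R ⧸ p) p.ResidueField)).toAlgebra
  haveI : IsScalarTower (R ⧸ p) p.ResidueField K := IsScalarTower.of_algebraMap_eq fun _ => rfl
  haveI : IsScalarTower R (R ⧸ p) K := IsScalarTower.of_algebraMap_eq fun r => by
    rw [IsScalarTower.algebraMap_apply R p.ResidueField K]
    rfl
  haveI : Algebra.IsIntegral R (R ⧸ p) := ⟨fun z => by
    obtain ⟨z, rfl⟩ := Ideal.Quotient.mk_surjective z
    exact isIntegral_algebraMap⟩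
  have hinj : Function.Injective (algebraMap (R ⧸ p) K) :=
    (algebraMap p.ResidueField K).injective.comp (IsFractionRing.injective (R ⧸ p) p.ResidueField)
  refine { map_units := ?_, surj := ?_, exists_of_eq := ?_ }
  · rintro ⟨y, hy⟩
    exact IsUnit.mk0 _ fun h => nonZeroDivisors.ne_zero hy (Subtype.ext h)
  · intro z
    have halg : IsAlgebraic (R ⧸ p) z :=
      (IsFractionRing.isAlgebraic_iff (R ⧸ p) p.ResidueField K).mpr (Algebra.IsAlgebraic.isAlgebraic z)
    obtain ⟨y, hy0, hy⟩ := halg.exists_integral_multiple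
    have hy' : algebraMap (R ⧸ p) K y ≠ 0 := (map_ne_zero_iff _ hinj).2 hy0
    refine ⟨⟨⟨y • z, isIntegral_trans (R := R) _ hy⟩, ⟨⟨algebraMap (R ⧸ p) K y,
      isIntegral_trans (R := R) _ (isIntegral_algebraMap (R := R ⧸ p) (A := K) (x := y))⟩, ?_⟩⟩, ?_⟩
    · exact mem_nonZeroDivisors_of_ne_zero fun h => hy' (congrArg Subtype.val h)
    · show z * algebraMap (R ⧸ p) K y = y • z
      rw [Algebra.smul_def, mul_comm]
  · intro x y h
    exact ⟨1, by rw [Subtype.ext h]⟩

section

variable {X S : Scheme.{u}} (f : X ⟶ S) (x : X) (RS RX : Type u) [CommRing RS] [IsLocalRing RS]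
    [Algebra (S.presheaf.stalk (f.base x)) RS]
    [IsLocalHom (algebraMap (S.presheaf.stalk (f.base x)) RS)]
    [Hensel.IsStrictHenselization (S.presheaf.stalk (f.base x)) RS]
    [CommRing RX] [IsLocalRing RX] [Algebra (X.presheaf.stalk x) RX]
    [IsLocalHom (algebraMap (X.presheaf.stalk x) RX)] [Hensel.IsStrictHenselization (X.presheaf.stalk x) RX]

theorem strict_square [Algebra RS RX] [IsLocalHom (algebraMap RS RX)]
    (hψ : (algebraMap RS RX).comp (algebraMap (S.presheaf.stalk (f.base x)) RS) =
      (algebraMap (X.presheaf.stalk x) RX).comp (f.stalkMap x).hom)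
    (N : Type u) [CommRing N] [Algebra RS N] :
    (Spec.map (CommRingCat.ofHom ((Algebra.TensorProduct.includeRight : RX →ₐ[RS] N ⊗[RS] RX).toRingHom.comp
      (algebraMap (X.presheaf.stalk x) RX))) ≫ X.fromSpecStalk x) ≫ f =
    Spec.map (CommRingCat.ofHom (algebraMap N (N ⊗[RS] RX))) ≫
      Spec.map (CommRingCat.ofHom (algebraMap RS N)) ≫ Hens2.specOf S (f.base x) RS := by
  rw [CommRingCat.ofHom_comp, Spec.map_comp, Category.assoc, Category.assoc,
    show Spec.map (CommRingCat.ofHom (algebraMap (X.presheaf.stalk x) RX)) ≫ X.fromSpecStalk x ≫ f =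
      Spec.map (CommRingCat.ofHom (algebraMap RS RX)) ≫ Hens2.specOf S (f.base x) RS from
      (Category.assoc _ _ _).symm.trans (specOf_comp f x RS RX (algebraMap RS RX) hψ),
    ← Category.assoc, ← Category.assoc (Spec.map (CommRingCat.ofHom (algebraMap N (N ⊗[RS] RX))))]
  refine congrArg (· ≫ Hens2.specOf S (f.base x) RS) ?_
  rw [← Spec.map_comp, ← Spec.map_comp, ← CommRingCat.ofHom_comp, ← CommRingCat.ofHom_comp]
  refine congrArg (fun k => Spec.map (CommRingCat.ofHom k)) (RingHom.ext fun r => ?_)
  show (1 : N) ⊗ₜ[RS] algebraMap RS RX r = algebraMap RS N r ⊗ₜ[RS] (1 : RX)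
  rw [Algebra.algebraMap_eq_smul_one, Algebra.algebraMap_eq_smul_one, TensorProduct.smul_tmul]

omit [IsLocalRing RS] [Algebra (S.presheaf.stalk (f.base x)) RS] [IsLocalRing RX] [Algebra (X.presheaf.stalk x) RX] in
/-- 0-acyclicity from a lift of the strict localization. -/
theorem zeroAcyclic_of_lift (hf : EtAcyc.IsULocZeroAcyclic f) {N M : Type u} [CommRing N] [IsLocalRing N]
    [HenselianLocalRing N] [IsSepClosed (ResidueField N)] [CommRing M] [IsLocalRing M] [Algebra N M]
    [hincL : IsLocalHom (algebraMap N M)] (kN : Spec (CommRingCat.of N) ⟶ S)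
    (μ : Spec (CommRingCat.of M) ⟶ pullback f kN) (g : X.presheaf.stalk x →+* M) [IsLocalHom g]
    (hμ₁ : μ ≫ pullback.fst f kN = Spec.map (CommRingCat.ofHom g) ≫ X.fromSpecStalk x)
    (hμ₂ : μ ≫ pullback.snd f kN = Spec.map (CommRingCat.ofHom (algebraMap N M)))
    (H : ∀ [Algebra ((pullback f kN).presheaf.stalk (μ (closedPoint M))) M]
      [IsLocalHom (algebraMap ((pullback f kN).presheaf.stalk (μ (closedPoint M))) M)]
      (a : X.presheaf.stalk x →+* (pullback f kN).presheaf.stalk (μ (closedPoint M)))
      (b : N →+* (pullback f kN).presheaf.stalk (μ (closedPoint M))) [IsLocalHom a] [IsLocalHom b],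
      (∀ c, algebraMap _ M (a c) = g c) → (∀ n, algebraMap _ M (b n) = algebraMap N M n) →
      (∀ χ : S.presheaf.stalk (f.base x) →+* N, Spec.map (CommRingCat.ofHom χ) ≫ S.fromSpecStalk (f.base x) = kN →
        a.comp (f.stalkMap x).hom = b.comp χ) →
      (∀ (T : Type u) [CommRing T] (h h' : (pullback f kN).presheaf.stalk (μ (closedPoint M)) →+* T),
        h.comp a = h'.comp a → h.comp b = h'.comp b → h = h') →
      Hensel.IsStrictHenselization ((pullback f kN).presheaf.stalk (μ (closedPoint M))) M) :
    EtAcyc.IsZeroAcyclic (Spec.map (CommRingCat.ofHom (algebraMap N M))) := by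
  let z := μ (closedPoint M)
  let κ : (pullback f kN).presheaf.stalk z ⟶ CommRingCat.of M := Scheme.stalkClosedPointTo μ
  letI : Algebra ((pullback f kN).presheaf.stalk z) M := κ.hom.toAlgebra
  haveI : IsLocalHom (algebraMap ((pullback f kN).presheaf.stalk z) M) := inferInstanceAs (IsLocalHom (Scheme.stalkClosedPointTo μ).hom)
  have hκ : Spec.map κ ≫ (pullback f kN).fromSpecStalk z = μ := Scheme.Spec_stalkClosedPointTo_fromSpecStalk μ
  have hfz : pullback.fst f kN z = x := by
    show pullback.fst f kN (μ (closedPoint M)) = x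
    rw [← Scheme.Hom.comp_apply, hμ₁, Scheme.Hom.comp_apply,
      show Spec.map (CommRingCat.ofHom g) (closedPoint M) = closedPoint (X.presheaf.stalk x) from
        PrimeSpectrum.ext (((local_hom_TFAE g).out 0 4).mp ‹_›)]
    exact Scheme.fromSpecStalk_closedPoint
  let a : X.presheaf.stalk x ⟶ (pullback f kN).presheaf.stalk z :=
    X.presheaf.stalkSpecializes (specializes_of_eq hfz) ≫ (pullback.fst f kN).stalkMap z
  have hSa : Spec.map a ≫ X.fromSpecStalk x = (pullback f kN).fromSpecStalk z ≫ pullback.fst f kN := by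
    rw [Spec.map_comp, Category.assoc, Scheme.SpecMap_stalkSpecializes_fromSpecStalk,
      Scheme.SpecMap_stalkMap_fromSpecStalk]
  let b : CommRingCat.of N ⟶ (pullback f kN).presheaf.stalk z :=
    Spec.preimage ((pullback f kN).fromSpecStalk z ≫ pullback.snd f kN)
  have hSb : Spec.map b = (pullback f kN).fromSpecStalk z ≫ pullback.snd f kN := Spec.map_preimage _
  have hκa : ∀ c, κ.hom (a.hom c) = g c := by
    have : a ≫ κ = CommRingCat.ofHom g := by
      refine Spec.map_injective ((cancel_mono (X.fromSpecStalk x)).1 ?_)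
      rw [Spec.map_comp, Category.assoc, hSa, ← Category.assoc, hκ, hμ₁]
    exact fun c => ConcreteCategory.congr_hom this c
  have hκb : ∀ n, κ.hom (b.hom n) = algebraMap N M n := by
    have : b ≫ κ = CommRingCat.ofHom (algebraMap N M) := by
      refine Spec.map_injective ?_
      rw [Spec.map_comp, hSb, ← Category.assoc, hκ, hμ₂]
    exact fun n => ConcreteCategory.congr_hom this n
  haveI : IsLocalHom a.hom := ⟨fun c hc => isUnit_of_map_unit g c (hκa c ▸ hc.map κ.hom)⟩
  haveI : IsLocalHom b.hom := ⟨fun n hn => isUnit_of_map_unit (algebraMap N M) n (hκb n ▸ hn.map κ.hom)⟩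
  haveI := H a.hom b.hom hκa hκb (fun χ hχ => by
      have : f.stalkMap x ≫ a = CommRingCat.ofHom χ ≫ b := by
        refine Spec.map_injective ((cancel_mono (S.fromSpecStalk (f x))).1 ?_)
        rw [Spec.map_comp, Category.assoc, Scheme.SpecMap_stalkMap_fromSpecStalk, ← Category.assoc, hSa,
          Spec.map_comp, Category.assoc (Spec.map b), hχ, hSb, Category.assoc, Category.assoc, pullback.condition]
      exact congrArg CommRingCat.Hom.hom this) fun T _ h h' ha hb => by
      have : Spec.map (CommRingCat.ofHom h) ≫ (pullback f kN).fromSpecStalk z =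
          Spec.map (CommRingCat.ofHom h') ≫ (pullback f kN).fromSpecStalk z := by
        refine pullback.hom_ext ?_ ?_
        · rw [Category.assoc, Category.assoc, ← hSa, ← Spec.map_comp_assoc, ← Spec.map_comp_assoc]
          congr 2
          exact CommRingCat.hom_ext ha
        · rw [Category.assoc, Category.assoc, ← hSb, ← Spec.map_comp, ← Spec.map_comp]
          congr 1
          exact CommRingCat.hom_ext hb
      exact congrArg CommRingCat.Hom.hom (Spec.map_injective ((cancel_mono _).1 this))
  have hsz : pullback.snd f kN z = closedPoint N := by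
    show pullback.snd f kN (μ (closedPoint M)) = _
    rw [← Scheme.Hom.comp_apply, hμ₂]
    exact PrimeSpectrum.ext (((local_hom_TFAE (algebraMap N M)).out 0 4).mp hincL)
  let c : (Spec (CommRingCat.of N)).presheaf.stalk (pullback.snd f kN z) ⟶ CommRingCat.of N :=
    (Spec (CommRingCat.of N)).presheaf.stalkSpecializes (specializes_of_eq hsz.symm) ≫
      (stalkClosedPointIso (CommRingCat.of N)).hom
  haveI : IsIso ((Spec (CommRingCat.of N)).presheaf.stalkSpecializes (specializes_of_eq hsz.symm)) :=
    ((Spec (CommRingCat.of N)).presheaf.stalkCongr (Inseparable.of_eq hsz)).isIso_hom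
  haveI : IsIso c := IsIso.comp_isIso' inferInstance inferInstance
  letI : Algebra ((Spec (CommRingCat.of N)).presheaf.stalk (pullback.snd f kN z)) N := c.hom.toAlgebra
  haveI : IsLocalHom (algebraMap ((Spec (CommRingCat.of N)).presheaf.stalk (pullback.snd f kN z)) N) :=
    isLocalHom_of_isIso c
  haveI : Hensel.IsStrictHenselization ((Spec (CommRingCat.of N)).presheaf.stalk (pullback.snd f kN z)) N :=
    isStrictHenselization_iso (ConcreteCategory.bijective_of_isIso c)
  refine hf (pullback.snd f kN) (pullback.fst f kN) kN (IsPullback.of_hasPullback f kN) z N M ?_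
  have hc : Spec.map c ≫ (Spec (CommRingCat.of N)).fromSpecStalk (pullback.snd f kN z) = 𝟙 _ := by
    rw [Spec.map_comp, Category.assoc, Scheme.SpecMap_stalkSpecializes_fromSpecStalk, ← Spec_stalkClosedPointIso,
      ← Spec.map_comp, Iso.inv_hom_id, Spec.map_id]
  have : c ≫ CommRingCat.ofHom (algebraMap N M) = (pullback.snd f kN).stalkMap z ≫ κ := by
    refine Spec.map_injective ((cancel_mono ((Spec (CommRingCat.of N)).fromSpecStalk (pullback.snd f kN z))).1 ?_)
    rw [Spec.map_comp, Category.assoc, hc, Category.comp_id, Spec.map_comp, Category.assoc,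
      Scheme.SpecMap_stalkMap_fromSpecStalk, ← Category.assoc, hκ, hμ₂]
  exact congrArg CommRingCat.Hom.hom this

theorem zeroAcyclic_intCl (hf : EtAcyc.IsULocZeroAcyclic f) [Algebra RS RX] [IsLocalHom (algebraMap RS RX)]
    (hψ : (algebraMap RS RX).comp (algebraMap (S.presheaf.stalk (f.base x)) RS) =
      (algebraMap (X.presheaf.stalk x) RX).comp (f.stalkMap x).hom)
    (N : Type u) [CommRing N] [IsDomain N] [Algebra RS N] [Algebra.IsIntegral RS N] :
    EtAcyc.IsZeroAcyclic (Spec.map (CommRingCat.ofHom (algebraMap N (N ⊗[RS] RX)))) := by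
  haveI : HenselianLocalRing RS := Hensel.IsStrictHenselization.henselian (R := S.presheaf.stalk (f.base x))
  haveI : IsSepClosed (ResidueField RS) :=
    (Hensel.IsStrictHenselization.isSepClosure (R := S.presheaf.stalk (f.base x)) (S := RS)).sep_closed
  haveI : IsLocalRing N := Hensel.isLocalRing_of_isIntegral_domain RS N
  haveI : IsLocalHom (algebraMap RS N) := Hensel.isLocalHom_of_isIntegral_local RS N
  haveI : IsSepClosed (ResidueField N) := (Hensel.residueField_of_isIntegral RS N).1
  haveI : IsPurelyInseparable (ResidueField RS) (ResidueField N) := by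
    convert (Hensel.residueField_of_isIntegral RS N).2 using 1
    exact Algebra.algebra_ext _ _ fun r => by
      obtain ⟨r, rfl⟩ := residue_surjective r
      rfl
  haveI : HenselianLocalRing N := Hensel.henselianLocalRing_of_isIntegral_local RS N
  haveI : IsLocalRing (N ⊗[RS] RX) := Hensel.isLocalRing_tensor RS N RX
  haveI hincR : IsLocalHom (Algebra.TensorProduct.includeRight : RX →ₐ[RS] N ⊗[RS] RX).toRingHom :=
    Hensel.isLocalHom_includeRight RS N RX
  haveI hincL : IsLocalHom (algebraMap N (N ⊗[RS] RX)) := ⟨fun n hn => by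
    by_contra hn'
    exact (maximalIdeal.isMaximal (N ⊗[RS] RX)).ne_top (Ideal.eq_top_of_isUnit_mem _
      (Hensel.tensorMax_le RS N RX (maximalIdeal _) (Ideal.mem_sup_left (Ideal.mem_map_of_mem _
        (show n ∈ maximalIdeal N from hn')))) hn)⟩
  let kN : Spec (CommRingCat.of N) ⟶ S :=
    Spec.map (CommRingCat.ofHom (algebraMap RS N)) ≫ Hens2.specOf S (f.base x) RS
  let g : X.presheaf.stalk x →+* N ⊗[RS] RX :=
    (Algebra.TensorProduct.includeRight : RX →ₐ[RS] N ⊗[RS] RX).toRingHom.comp (algebraMap (X.presheaf.stalk x) RX)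
  haveI : IsLocalHom g := RingHom.isLocalHom_comp _ _
  have hμ := strict_square f x RS RX hψ N
  let μ : Spec (CommRingCat.of (N ⊗[RS] RX)) ⟶ pullback f kN := pullback.lift _ _ hμ
  refine zeroAcyclic_of_lift f x hf kN μ g (pullback.lift_fst _ _ _) (pullback.lift_snd _ _ _) ?_
  intro _ _ a b _ _ hκa hκb hab hext
  exact isStrictHenselization_tensor (A := S.presheaf.stalk (f.base x)) (C := X.presheaf.stalk x) RS RX N
    (f.stalkMap x).hom hψ a b (hab ((algebraMap RS N).comp (algebraMap (S.presheaf.stalk (f.base x)) RS))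
      (by rw [CommRingCat.ofHom_comp, Spec.map_comp, Category.assoc])) hκa hκb hext

end

/-- Universally locally 0-acyclic morphisms have connected geometric strict fibres. -/
theorem strictConn_of_isULocZeroAcyclic {X S : Scheme.{u}} (f : X ⟶ S) (hf : EtAcyc.IsULocZeroAcyclic f) :
    StrictConn f := by
  intro x RS _ _ _ _ _ RX _ _ _ _ _ ψ _ hψ Ω _ _ η
  letI : Algebra RS RX := ψ.toAlgebra
  haveI : IsLocalHom (algebraMap RS RX) := ‹IsLocalHom ψ›
  let χ : RS →+* Ω := (Spec.preimage η).hom
  let p := RingHom.ker χ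
  haveI : p.IsPrime := RingHom.ker_isPrime χ
  let K := AlgebraicClosure p.ResidueField
  let j : K →+* Ω := by
    let l : p.ResidueField →+* Ω := Ideal.ResidueField.lift p χ le_rfl fun s hs => IsUnit.mk0 _ fun h => hs h
    letI := l.toAlgebra
    exact (IsAlgClosed.lift : K →ₐ[p.ResidueField] Ω).toRingHom
  have hj : j.comp (algebraMap RS K) = χ := by
    refine RingHom.ext fun r => ?_
    show j (algebraMap RS K r) = χ r
    rw [IsScalarTower.algebraMap_apply RS p.ResidueField K]
    letI := (Ideal.ResidueField.lift p χ le_rfl fun s hs => IsUnit.mk0 _ fun h => hs h).toAlgebra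
    refine ((IsAlgClosed.lift : K →ₐ[p.ResidueField] Ω).commutes _).trans ?_
    exact Ideal.ResidueField.lift_algebraMap _ _ _ _ _
  let N := integralClosure RS K
  haveI : IsFractionRing N K := isFractionRing_integralClosure RS p K
  have hh := zeroAcyclic_intCl f x RS RX hf hψ N
  haveI := connectedSpace_fraction_tensor hh K
  let e : K ⊗[N] (N ⊗[RS] RX) ≃+* RX ⊗[RS] K :=
    (Algebra.TensorProduct.cancelBaseChange RS N K K RX).toRingEquiv.trans
      (Algebra.TensorProduct.comm RS K RX).toRingEquiv
  haveI : ConnectedSpace (PrimeSpectrum (RX ⊗[RS] K)) :=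
    (PrimeSpectrum.homeomorphOfRingEquiv e).connectedSpace_iff.1 ‹_›
  let η₀ := Spec.map (CommRingCat.ofHom (algebraMap RS K))
  haveI : ConnectedSpace ↥(pullback (Spec.map (CommRingCat.ofHom ψ)) η₀) :=
    (pullbackSpecIso RS RX K).hom.homeomorph.connectedSpace_iff.2 ‹_›
  let t := Spec.map (CommRingCat.ofHom j)
  haveI : GeometricallyConnected t := by
    letI := j.toAlgebra
    exact geometricallyConnected_field_ext (κ := K) (Ω := Ω)
  have hη : η = t ≫ η₀ := by
    rw [← Spec.map_comp, ← CommRingCat.ofHom_comp, hj]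
    exact (Spec.map_preimage η).symm
  haveI : Subsingleton ↥(Spec (CommRingCat.of K)) := inferInstanceAs (Subsingleton (PrimeSpectrum K))
  haveI : UniversallyOpen t := inferInstance
  haveI : ConnectedSpace ↥(pullback (pullback.snd (Spec.map (CommRingCat.ofHom ψ)) η₀) t) := inferInstance
  rw [hη]
  exact (pullbackLeftPullbackSndIso (Spec.map (CommRingCat.ofHom ψ)) η₀ t).hom.homeomorph.connectedSpace_iff.1 ‹_›

end Groth.Agent.EtPBC0
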